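import Cfsg.Agent.Lib.MaxSub.Frame.Final
import Cfsg.Agent.Lib.MaxSub.WreathMaximalOrth
import Cfsg.Agent.Lib.MaxSub.NotMaximalOrthBlocks

/-!
Orthogonal frames, part 9: the stabiliser of a frame of isometric lines is maximal in the derived group of the
isometry group over a prime field of odd order.
-/

set_option autoImplicit false
set_option linter.unusedSectionVars false
set_option maxHeartbeats 400000

namespace CfsgLib.MaxSub.Frame

open QuadraticMap CfsgLib.WittExtension CfsgLib.SpinorNorm Matrix Module Cfsg Cfsg.Geo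

variable {F : Type*} [Field F] [Fintype F]

/-- A vector of norm one which is not a signed basis vector. -/
theorem exists_not_isE {n : ℕ} (h2 : (2 : F) ≠ 0) (hn : 4 ≤ n) :
    ∃ v : Fin n → F, v ⬝ᵥ v = 1 ∧ ¬ IsE v := by
  obtain ⟨a, b, hab⟩ := exists_two_squares h2 (-1 : F)
  let e : Fin 4 → Fin n := fun i => ⟨i.1, by omega⟩
  have hinj : Function.Injective e := fun i j h => Fin.ext (by simpa [e] using h)
  set v : Fin n → F := ∑ i, (![1, 1, a, b] : Fin 4 → F) i • ee (e i) with hv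
  have happ : ∀ i, v (e i) = (![1, 1, a, b] : Fin 4 → F) i := fun i => by
    simp [hv, Finset.sum_apply, ee_apply, hinj.eq_iff]
  refine ⟨v, ?_, fun ⟨j, hj⟩ => ?_⟩
  · have hdot : ∀ w : Fin n → F, v ⬝ᵥ w = ∑ i, (![1, 1, a, b] : Fin 4 → F) i * w (e i) := fun w => by
      rw [hv, sum_dotProduct]
      simp only [smul_dotProduct, ee_dot, smul_eq_mul]
    rw [hdot]
    simp only [happ, Fin.sum_univ_four]
    simp
    linear_combination hab
  · have h0 := happ 0
    have h1 := happ 1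
    have hne : e 0 ≠ e 1 := fun h => absurd (hinj h) (by decide)
    by_cases hj0 : e 0 = j
    · rcases hj with h | h <;> rw [h] at h1 <;> simp [ee_apply, ← hj0, hne.symm] at h1
    · rcases hj with h | h <;> rw [h] at h0 <;> simp [ee_apply, hj0] at h0

variable {ι : Type} [Fintype ι] [DecidableEq ι]

/-- Coordinates along a frame. -/
theorem exists_frame {R : QuadraticForm F (ι → F)} (h2 : (2 : F) ≠ 0) {t : ℕ}
    {D : Fin t → Submodule F (ι → F)} (hD : IsOrthogonalMDecomposition ⇑R 1 D) :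
    ∃ (c : F) (Φ : (Fin t → F) ≃ₗ[F] (ι → F)), c ≠ 0 ∧ (∀ x, R (Φ x) = c * (x ⬝ᵥ x)) ∧
      ∀ i v, v ∈ D i ↔ ∃ a : F, Φ (a • ee i) = v := by
  classical
  have hdec := hD.decomp.decomp
  set i0 : Fin t := ⟨0, by have := hdec.two_le; omega⟩
  obtain ⟨w, hw0, hwspan⟩ := finrank_eq_one_iff'.1 (hdec.finrank_eq i0)
  choose e he using fun i => hD.isometric i0 i
  set b : Fin t → ι → F := fun i => (e i w : D i).1 with hb
  have hbne : ∀ i, b i ≠ 0 := fun i h => hw0 ((e i).map_eq_zero_iff.1 (Subtype.ext h))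
  have hmem : ∀ i v, v ∈ D i ↔ ∃ a : F, a • b i = v := by
    refine fun i v => ⟨fun hv => ?_, ?_⟩
    · obtain ⟨a, ha⟩ := hwspan ((e i).symm ⟨v, hv⟩)
      refine ⟨a, ?_⟩
      have h1 := congrArg (e i) ha
      rw [map_smul, LinearEquiv.apply_symm_apply] at h1
      exact congrArg Subtype.val h1
    · rintro ⟨a, rfl⟩
      exact (D i).smul_mem a (e i w).2
  have hbD : ∀ i, b i ∈ D i := fun i => (e i w).2
  set c := R w.1 with hc
  have hRb : ∀ i, R (b i) = c := fun i => he i w
  have hc0 : c ≠ 0 := fun h => by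
    obtain ⟨-, y, hy, hxy⟩ := hD.decomp.nondegenerate i0 (b i0) (hbD i0) (hbne i0)
    obtain ⟨a, rfl⟩ := (hmem i0 y).1 hy
    apply hxy
    rw [QuadraticMap.polar_smul_right, QuadraticMap.polar_self, hRb, h]
    simp
  let L : (Fin t → F) →ₗ[F] (ι → F) := Fintype.linearCombination F b
  have hL : ∀ x, L x = ∑ i, x i • b i := fun x => rfl
  have hLb : Function.Bijective L := by
    refine ⟨fun x y hxy => funext fun i => ?_, fun v => ?_⟩
    · have h1 := Decomp.comp_unique hdec (c := fun j => x j • b j) (d := fun j => y j • b j)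
        (fun j => (D j).smul_mem _ (hbD j)) (fun j => (D j).smul_mem _ (hbD j))
        (by rw [← hL, ← hL, hxy]) i
      exact smul_left_injective F (hbne i) h1
    · obtain ⟨d, hd, rfl⟩ := Decomp.exists_comp hdec v
      choose a ha using fun i => (hmem i (d i)).1 (hd i)
      exact ⟨a, by rw [hL]; exact Finset.sum_congr rfl fun i _ => ha i⟩
  refine ⟨c, LinearEquiv.ofBijective L hLb, hc0, fun x => ?_, fun i v => ?_⟩
  · refine mul_left_cancel₀ h2 ?_
    have h1 : 2 * R (L x) = polarBilin R (L x) (L x) := by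
      rw [polarBilin_apply_apply, QuadraticMap.polar_self, two_smul, two_mul]
    rw [show (LinearEquiv.ofBijective L hLb) x = L x from rfl, h1, hL]
    simp only [map_sum, map_smul, LinearMap.sum_apply, LinearMap.smul_apply, polarBilin_apply_apply,
      smul_eq_mul, dotProduct, Finset.mul_sum]
    refine Finset.sum_congr rfl fun i _ => ?_
    rw [Finset.sum_eq_single i]
    · rw [QuadraticMap.polar_self, hRb, two_smul]; ring
    · intro j _ hji
      rw [hD.decomp.orthogonal j i hji (b j) (hbD j) (b i) (hbD i)]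
      simp
    · exact fun h => absurd (Finset.mem_univ i) h
  · rw [hmem]
    refine exists_congr fun a => ?_
    rw [show (LinearEquiv.ofBijective L hLb) (a • ee i) = L (a • ee i) from rfl, hL]
    simp [ee_apply, Finset.sum_ite_eq', ite_smul]

theorem frame_maximal {R : QuadraticForm F (ι → F)} (hR : (polarBilin R).Nondegenerate) (h2 : (2 : F) ≠ 0)
    (hp : (Fintype.card F).Prime) (hn : 7 ≤ Fintype.card ι)
    (hd : 10 ≤ Fintype.card ι ∨ Odd (Fintype.card ι)) {t : ℕ} {D : Fin t → Submodule F (ι → F)}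
    (hD : IsOrthogonalMDecomposition ⇑R 1 D) :
    IsMaximalIn (omegaGL ⇑R) (decompositionStabilizer D ⊓ omegaGL ⇑R) := by
  classical
  have htn := Orth.t_mul hD
  rw [mul_one] at htn
  have ht : 7 ≤ t := by omega
  have hd' : 10 ≤ t ∨ Odd t := by rwa [← htn] at hd
  obtain ⟨c, Φ, hc, hΦ, hmem⟩ := exists_frame h2 hD
  have hval : ∀ (g : quadIso (Q1 F t)) x, (g.1 x) ⬝ᵥ (g.1 x) = x ⬝ᵥ x := fun g x => dot_map g h2 x x
  let Ψ : quadIso (Q1 F t) →* quadIso R :=
    { toFun := fun g => ⟨Φ.symm.trans (g.1.trans Φ), fun v => by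
        show R (Φ (g.1 (Φ.symm v))) = R v
        rw [hΦ, hval, ← hΦ, LinearEquiv.apply_symm_apply]⟩
      map_one' := Subtype.ext (LinearEquiv.ext fun v => Φ.apply_symm_apply v)
      map_mul' := fun g g' => Subtype.ext (LinearEquiv.ext fun v => by
        show Φ (g.1 (g'.1 (Φ.symm v))) = Φ (g.1 (Φ.symm (Φ (g'.1 (Φ.symm v)))))
        rw [LinearEquiv.symm_apply_apply]) }
  have hsurj : Function.Surjective Ψ := fun k => by
    refine ⟨⟨Φ.trans (k.1.trans Φ.symm), fun x => ?_⟩, Subtype.ext (LinearEquiv.ext fun v => ?_)⟩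
    · show Q1 F t (Φ.symm (k.1 (Φ x))) = Q1 F t x
      refine mul_left_cancel₀ hc ?_
      rw [Q1_apply, Q1_apply, ← hΦ, ← hΦ, LinearEquiv.apply_symm_apply, k.2]
    · show Φ (Φ.symm (k.1 (Φ (Φ.symm v)))) = k.1 v
      rw [LinearEquiv.apply_symm_apply, LinearEquiv.apply_symm_apply]
  set φ := (Orth.toMat R).comp Ψ with hφ
  have hΩ : omegaGL ⇑R = (commutator (quadIso (Q1 F t))).map φ := by
    rw [Orth.omegaGL_eq hR (by omega), ← OmegaSimple.commutator_eq R hR
      (by rw [Module.finrank_fintype_fun_eq_card]; omega), hφ, ← Subgroup.map_map, _root_.commutator_def,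
      _root_.commutator_def, Subgroup.map_commutator _ _ Ψ, Subgroup.map_top_of_surjective _ hsurj]
  have happ : ∀ (g : quadIso (Q1 F t)) x,
      (φ g : Matrix ι ι F) *ᵥ Φ x = Φ (g.1 x) := fun g x => by
    show (Orth.toMat R (Ψ g) : Matrix ι ι F) *ᵥ Φ x = _
    rw [Orth.toMat_mulVec]
    show Φ (g.1 (Φ.symm (Φ x))) = _
    rw [LinearEquiv.symm_apply_apply]
  have hmono : ∀ g : quadIso (Q1 F t), φ g ∈ decompositionStabilizer D ↔ Mono g := by
    intro g
    constructor
    · rintro ⟨σ, hσ⟩ i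
      have h1 : (φ g : Matrix ι ι F) *ᵥ Φ (ee i) ∈ D (σ i) := by
        rw [← hσ i]
        exact ⟨Φ (ee i), (hmem i _).2 ⟨1, by rw [one_smul]⟩, Matrix.toLin'_apply _ _⟩
      rw [happ, hmem] at h1
      obtain ⟨a, ha⟩ := h1
      replace ha := Φ.injective ha
      refine ⟨σ i, ?_⟩
      have h1 := norm_image h2 g i
      rw [← ha, smul_dotProduct, dotProduct_smul, ee_norm, smul_eq_mul, smul_eq_mul, mul_one] at h1
      rcases mul_self_eq_one_iff.1 h1 with h | h
      · exact Or.inl (by rw [← ha, h, one_smul])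
      · exact Or.inr (by rw [← ha, h, neg_one_smul])
    · intro hg
      refine Decomp.mem_stab_of hD.decomp.decomp fun i => ?_
      obtain ⟨j, hj⟩ := hg i
      refine ⟨j, fun x hx => ?_⟩
      obtain ⟨a, rfl⟩ := (hmem i x).1 hx
      rw [happ, map_smul, hmem]
      rcases hj with h | h <;> rw [h]
      · exact ⟨a, rfl⟩
      · exact ⟨-a, by rw [smul_neg, neg_smul]⟩
  rw [hΩ]
  refine ⟨lt_of_le_of_ne inf_le_right fun e => ?_, fun M hHM hMC => ?_⟩
  · obtain ⟨v, hv, hvE⟩ := exists_not_isE (F := F) (n := t) h2 (by omega)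
    have hfr : 5 ≤ finrank F (Fin t → F) := by simp; omega
    obtain ⟨g, hg, hgv⟩ := OmegaSimple.transitive' (Q1 F t) (nondeg h2) hfr _
      (fun e w he0 he hew g hg => OmegaSimple.eich_mem (Q1 F t) (nondeg h2) hfr he0 he hew hg)
      (a := ee ⟨0, by omega⟩) (b := v) (by rw [Q1_apply, ee_norm]; exact one_ne_zero)
      (by rw [Q1_apply, Q1_apply, ee_norm, hv])
    rw [← OmegaSimple.commutator_eq (Q1 F t) (nondeg h2) hfr] at hg
    have h1 := (hmono g).1 (e.ge.trans inf_le_left (Subgroup.mem_map_of_mem φ hg)) ⟨0, by omega⟩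
    rw [hgv] at h1
    exact hvE h1
  by_cases hMD : M ≤ decompositionStabilizer D
  · exact Or.inl (le_antisymm (le_inf hMD hMC) hHM)
  refine Or.inr (le_antisymm hMC ?_)
  obtain ⟨x, hxM, hxD⟩ := SetLike.not_le_iff_exists.1 hMD
  obtain ⟨g, hg, rfl⟩ := hMC hxM
  have O : Ov (M.comap φ ⊓ commutator (quadIso (Q1 F t))) :=
    ⟨h2, inf_le_right, fun k hk hkm => ⟨hHM ⟨(hmono k).2 hkm, Subgroup.mem_map_of_mem φ hk⟩, hk⟩⟩
  have h := overgroup_top O ht hd' hp (g := g) ⟨hxM, hg⟩ fun hm => hxD ((hmono g).2 hm)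
  rintro _ ⟨k, hk, rfl⟩
  exact (h hk).1

end CfsgLib.MaxSub.Frame
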