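import Cfsg.Agent.Lib.MaxSub.Frame.Three

/-!
Orthogonal frames, part 8: an overgroup of the monomial group containing anything else contains the whole
derived group.
-/

set_option autoImplicit false
set_option linter.unusedSectionVars false
set_option maxHeartbeats 400000

namespace CfsgLib.MaxSub.Frame

open QuadraticMap CfsgLib.WittExtension CfsgLib.SpinorNorm Matrix Module

variable {F : Type*} [Field F] [Fintype F] {n : ℕ} {G : Subgroup (quadIso (Q1 F n))}

local notation "V" => Fin n → F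
local notation "E" => Fin 3 → F

theorem exists_two_squares (h2 : (2 : F) ≠ 0) (S : F) : ∃ a b : F, a * a + b * b = S := by
  obtain ⟨a, b, h⟩ := FiniteField.exists_root_sum_quadratic
    (f := Polynomial.C (1 : F) * Polynomial.X ^ 2 + Polynomial.C 0 * Polynomial.X + Polynomial.C (-S))
    (g := Polynomial.C (1 : F) * Polynomial.X ^ 2 + Polynomial.C 0 * Polynomial.X + Polynomial.C 0)
    (Polynomial.degree_quadratic one_ne_zero) (Polynomial.degree_quadratic one_ne_zero)
    (FiniteField.odd_card_of_char_ne_two (ringChar_ne_two h2))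
  simp only [Polynomial.eval_add, Polynomial.eval_mul, Polynomial.eval_C, Polynomial.eval_pow,
    Polynomial.eval_X] at h
  exact ⟨a, b, by linear_combination h⟩

theorem exists_inj_superset {s : Finset (Fin n)} (hn : 3 ≤ n) (hs : s.card ≤ 3) :
    ∃ ι : Fin 3 → Fin n, Function.Injective ι ∧ ∀ x ∈ s, ∃ i, ι i = x := by
  classical
  obtain ⟨t, hst, htc⟩ := Finset.exists_superset_card_eq hs (by simpa using hn)
  obtain ⟨a, b, c, hab, hac, hbc, rfl⟩ := Finset.card_eq_three.1 htc
  refine ⟨![a, b, c], fun i j e => ?_, fun x hx => ?_⟩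
  · fin_cases i <;> fin_cases j <;> simp [hab, hac, hbc, hab.symm, hac.symm, hbc.symm] at e ⊢
  · have h := hst hx
    simp only [Finset.mem_insert, Finset.mem_singleton] at h
    rcases h with rfl | rfl | rfl
    · exact ⟨0, rfl⟩
    · exact ⟨1, rfl⟩
    · exact ⟨2, rfl⟩

theorem supp_emb_add {ι : Fin 3 → Fin n} (hι : Function.Injective ι) (x : E) {y : V}
    (hy : ∀ i, y (ι i) = 0) : (supp (emb ι x + y)).card = (supp x).card + (supp y).card := by
  classical
  rw [show supp (emb ι x + y) = (supp x).map ⟨ι, hι⟩ ∪ supp y from ?_, Finset.card_union_of_disjoint ?_,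
    Finset.card_map]
  · rw [Finset.disjoint_left]
    intro k hk hk'
    obtain ⟨i, -, rfl⟩ := Finset.mem_map.1 hk
    exact mem_supp.1 hk' (hy i)
  ext k
  rw [mem_supp, Finset.mem_union, Finset.mem_map, Pi.add_apply]
  by_cases hk : ∃ i, ι i = k
  · obtain ⟨i, rfl⟩ := hk
    rw [emb_apply_self hι, hy i, add_zero]
    simp [mem_supp, hι.eq_iff, hy i]
  · push Not at hk
    rw [emb_apply_ne ι x hk, zero_add]
    simp [mem_supp, hk]

/-- Every vector of norm one is in the set, in characteristic at least five. -/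
theorem gam_all_of_three (O : Ov G) (hn : 5 ≤ n) (h3 : (3 : F) ≠ 0) (hcast : ∀ x : F, ∃ k : ℕ, (k : F) = x)
    {v : V} (hv : Gam G v) (hv3 : (supp v).card = 3) :
    ∀ y : V, y ⬝ᵥ y = 1 → Gam G y := by
  classical
  have hn5 : 5 ≤ n := by omega
  have h2 := O.two
  have htri : ∀ ι : Fin 3 → Fin n, Function.Injective ι → ∀ x : E, x ⬝ᵥ x = 1 → Gam G (emb ι x : V) := by
    intro ι hι x hx
    obtain ⟨h, ⟨-, g, hg1, hg2, -⟩, hhx⟩ := triple_transitive O hn hcast hv hv3 hι (ee 0) x
      (by rw [ee_norm, hx]) (by rw [ee_norm]; exact one_ne_zero)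
    rw [← hhx, ← hg2]
    exact (hg1 _).1 (by rw [emb_ee]; exact gam_ee O hn5 _)
  suffices H : ∀ s, ∀ y : V, y ⬝ᵥ y = 1 → (supp y).card = s → Gam G y from fun y hy => H _ y hy rfl
  intro s
  induction s using Nat.strong_induction_on with
  | _ s ih =>
    intro y hy hys
    by_cases hs : s ≤ 3
    · obtain ⟨ι, hι, hsub⟩ := exists_inj_superset (n := n) (by omega) (hys ▸ hs : (supp y).card ≤ 3)
      have e : y = emb ι (fun i => y (ι i)) := funext fun k => by
        by_cases hk : ∃ i, ι i = k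
        · obtain ⟨i, rfl⟩ := hk
          rw [emb_apply_self hι]
        · have h1 : y k = 0 := notMem_supp.1 fun h => hk (hsub k h)
          push Not at hk
          rw [emb_apply_ne ι _ hk, h1]
      rw [e]
      exact htri ι hι _ (by rw [← emb_isometry hι, ← e]; exact hy)
    obtain ⟨ι, hι, hsub, hS⟩ : ∃ ι : Fin 3 → Fin n, Function.Injective ι ∧ (∀ i, y (ι i) ≠ 0) ∧
        (fun i => y (ι i)) ⬝ᵥ (fun i => y (ι i)) ≠ 0 := by
      obtain ⟨t, ht, htc⟩ := Finset.exists_subset_card_eq (s := supp y) (n := 4) (by omega)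
      obtain ⟨a, b, c, d, hab, hac, had, hbc, hbd, hcd, rfl⟩ := Finset.card_eq_four.1 htc
      simp only [Finset.insert_subset_iff, Finset.singleton_subset_iff, mem_supp] at ht
      obtain ⟨ha, hb, hc, hd⟩ := ht
      have hinj : ∀ p q r : Fin n, p ≠ q → p ≠ r → q ≠ r → Function.Injective (![p, q, r] : Fin 3 → Fin n) := by
        intro p q r hpq hpr hqr i j e
        fin_cases i <;> fin_cases j <;> simp [hpq, hpr, hqr, hpq.symm, hpr.symm, hqr.symm] at e ⊢
      have hdot : ∀ p q r : Fin n, (fun i => y ((![p, q, r] : Fin 3 → Fin n) i)) ⬝ᵥ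
          (fun i => y ((![p, q, r] : Fin 3 → Fin n) i)) = y p * y p + y q * y q + y r * y r := by
        intro p q r
        simp [dotProduct, Fin.sum_univ_three]
      by_cases h1 : y a * y a + y b * y b + y c * y c ≠ 0
      · exact ⟨_, hinj a b c hab hac hbc, fun i => by fin_cases i <;> simpa, by rw [hdot]; exact h1⟩
      by_cases h2' : y a * y a + y b * y b + y d * y d ≠ 0
      · exact ⟨_, hinj a b d hab had hbd, fun i => by fin_cases i <;> simpa, by rw [hdot]; exact h2'⟩
      by_cases h3' : y a * y a + y c * y c + y d * y d ≠ 0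
      · exact ⟨_, hinj a c d hac had hcd, fun i => by fin_cases i <;> simpa, by rw [hdot]; exact h3'⟩
      refine ⟨_, hinj b c d hbc hbd hcd, fun i => by fin_cases i <;> simpa, ?_⟩
      rw [hdot]
      intro h4
      push Not at h1 h2' h3'
      refine mul_ne_zero h3 (mul_ne_zero ha ha) ?_
      linear_combination h1 + h2' + h3' - 2 * h4
    set x : E := fun i => y (ι i) with hx
    obtain ⟨a, b, hab⟩ := exists_two_squares h2 (x ⬝ᵥ x)
    obtain ⟨h, ⟨-, g, hg1, hg2, hg3⟩, hhx⟩ := triple_transitive O hn hcast hv hv3 hι ![a, b, 0] x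
      (by rw [← hab]; simp [dotProduct, Fin.sum_univ_three])
      (by rw [show (![a, b, 0] : E) ⬝ᵥ ![a, b, 0] = x ⬝ᵥ x by rw [← hab]; simp [dotProduct, Fin.sum_univ_three]]
          exact hS)
    set r := g⁻¹.1 (y - emb ι x) with hr
    have hgr : g.1 r = y - emb ι x := g.1.apply_symm_apply _
    have hr0 : ∀ i, r (ι i) = 0 := by
      obtain ⟨h1, -⟩ := hg3 _ (emb_split hι r)
      intro i
      have h3 : h (fun j => r (ι j)) = 0 := funext fun j => by
        have := h1 j
        rwa [map_sub, hg2, hgr, Pi.sub_apply, emb_split hι y j, zero_sub, neg_eq_zero, emb_apply_self hι] at this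
      exact congrFun (h.injective (h3.trans (map_zero h).symm)) i
    have hy' : g.1 (emb ι ![a, b, 0] + r) = y := by
      rw [map_add, hg2, hhx, hgr]; abel
    have hxc : (supp x).card = 3 := by
      rw [show supp x = Finset.univ from Finset.eq_univ_iff_forall.2 fun i => mem_supp.2 (hsub i)]
      simp
    have hlt : (supp (emb ι ![a, b, 0] + r)).card < s := by
      rw [supp_emb_add hι _ hr0, ← hys, show y = emb ι x + (y - emb ι x) by abel,
        supp_emb_add hι _ (emb_split hι y), hxc, ← hgr, (hg3 r hr0).2]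
      have : supp (![a, b, 0] : E) ⊆ {0, 1} := fun i hi => by
        fin_cases i <;> simp [mem_supp] at hi ⊢
      have := (Finset.card_le_card this).trans Finset.card_le_two
      omega
    rw [← hy']
    refine (hg1 _).1 (ih _ hlt _ ?_ rfl)
    rw [← dot_map g h2, hy', hy]

/-- Every vector of norm one is in the set, in characteristic three. -/
theorem gam_all_of_four (O : Ov G) (hn : 6 ≤ n) (h3 : (3 : F) = 0) (hsq : ∀ x : F, x ≠ 0 → x * x = 1)
    {v : V} (hv : Gam G v) (hv4 : (supp v).card = 4) :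
    ∀ y : V, y ⬝ᵥ y = 1 → Gam G y := by
  classical
  have hn5 : 5 ≤ n := by omega
  have h2 := O.two
  obtain ⟨a, b, c, d, hab, hac, had, hbc, hbd, hcd, hs⟩ := Finset.card_eq_four.1 hv4
  have hfour : ∀ y : V, (supp y).card = 4 → Gam G y := by
    intro y hy4
    obtain ⟨a', b', c', d', hab', hac', had', hbc', hbd', hcd', hs'⟩ := Finset.card_eq_four.1 hy4
    have hinj : ∀ p q r t : Fin n, p ≠ q → p ≠ r → p ≠ t → q ≠ r → q ≠ t → r ≠ t →
        Function.Injective (![p, q, r, t] : Fin 4 → Fin n) := by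
      intro p q r t h1 h2 h3 h4 h5 h6 i j e
      fin_cases i <;> fin_cases j <;>
        simp [h1, h2, h3, h4, h5, h6, h1.symm, h2.symm, h3.symm, h4.symm, h5.symm, h6.symm] at e ⊢
    obtain ⟨σ, hσ, hσι⟩ := exists_even_tuple (by omega) (hinj a b c d hab hac had hbc hbd hcd)
      (hinj a' b' c' d' hab' hac' had' hbc' hbd' hcd')
    set w : V := fun i => v (σ.symm i) with hw
    have hwS : supp w = supp y := by
      ext k
      obtain ⟨m, rfl⟩ := σ.surjective k
      rw [mem_supp, hw]
      show v (σ.symm (σ m)) ≠ 0 ↔ _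
      rw [Equiv.symm_apply_apply, ← mem_supp, hs, hs']
      have h0 := hσι 0
      have h1 := hσι 1
      have h2 := hσι 2
      have h3 := hσι 3
      simp at h0 h1 h2 h3
      simp only [Finset.mem_insert, Finset.mem_singleton, ← h0, ← h1, ← h2, ← h3, σ.injective.eq_iff]
    have hwG : Gam G w := hv.perm O hn5 hσ
    convert hwG.signs O hn5 (Finset.univ.filter fun k => y k ≠ w k) using 1
    funext k
    simp only [Finset.mem_filter, Finset.mem_univ, true_and]
    split_ifs with hk
    · have hyk : y k ≠ 0 := fun h0 => hk (by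
        rw [h0, notMem_supp.1 (show k ∉ supp w by rw [hwS]; exact notMem_supp.2 h0)])
      have hwk : w k ≠ 0 := mem_supp.1 (by rw [hwS]; exact mem_supp.2 hyk)
      exact (mul_self_eq_mul_self_iff.1 ((hsq _ hyk).trans (hsq _ hwk).symm)).resolve_left hk
    · exact not_not.1 hk
  suffices H : ∀ s, ∀ y : V, y ⬝ᵥ y = 1 → (supp y).card = s → Gam G y from fun y hy => H _ y hy rfl
  intro s
  induction s using Nat.strong_induction_on with
  | _ s ih =>
    intro y hy hys
    have hcast : (s : F) = 1 := by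
      rw [← hy, dot_eq_sum (Finset.Subset.refl _), Finset.sum_congr rfl fun k hk => hsq _ (mem_supp.1 hk),
        Finset.sum_const, hys, nsmul_eq_mul, mul_one]
    by_cases h1 : s ≤ 1
    · obtain ⟨j, hj | hj⟩ := isE_of_card hy (hys ▸ h1)
      · rw [hj]; exact gam_ee O hn5 j
      · rw [hj]
        have := (gam_ee O hn5 j).sign O hn5 j
        rwa [rf_self (by rw [ee_norm]; exact one_ne_zero)] at this
    by_cases h4 : s = 4
    · exact hfour y (hys.trans h4)
    have h7 : 5 ≤ s := by
      by_contra hlt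
      have : s = 2 ∨ s = 3 := by omega
      rcases this with rfl | rfl
      · exact one_ne_zero (show (1 : F) = 0 by push_cast at hcast; linear_combination hcast)
      · push_cast at hcast
        rw [h3] at hcast
        exact zero_ne_one hcast
    obtain ⟨t, ht, htc⟩ := Finset.exists_subset_card_eq (s := supp y) (n := 4) (by omega)
    obtain ⟨p, hp⟩ := Finset.card_pos.1 (show 0 < t.card by omega)
    set u : V := fun k => if k ∈ t then (if k = p then -y k else y k) else 0 with hu
    have hus : supp u = t := by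
      ext k
      rw [mem_supp, hu]
      constructor
      · intro h
        by_contra hk
        exact h (by simp [hk])
      · intro hk
        have hyk := mem_supp.1 (ht hk)
        simp only [if_pos hk]
        split_ifs <;> simpa
    have huG : Gam G u := hfour u (hus ▸ htc)
    have huy : u ⬝ᵥ y = -1 := by
      rw [dot_eq_sum hus.le, ← Finset.add_sum_erase _ _ hp]
      rw [Finset.sum_congr rfl fun k hk => show u k * y k = 1 by
          obtain ⟨hkp, hkt⟩ := Finset.mem_erase.1 hk
          rw [hu]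
          simp only [if_pos hkt, if_neg hkp]
          exact hsq _ (mem_supp.1 (ht hkt)),
        Finset.sum_const, Finset.card_erase_of_mem hp, htc]
      rw [show u p * y p = -1 by
        rw [hu]
        simp only [if_pos hp, if_true]
        rw [neg_mul, hsq _ (mem_supp.1 (ht hp))]]
      norm_num
      linear_combination h3
    have hu0 : u ⬝ᵥ u ≠ 0 := by rw [huG.1]; exact one_ne_zero
    set R := (rf u).1 y with hR
    have hcoord : ∀ k, R k = y k + 2 * u k := fun k => by
      rw [hR, rf_apply hu0, huy, huG.1, Pi.sub_apply, Pi.smul_apply, smul_eq_mul]; ring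
    have hsub : supp R ⊆ (supp y \ t) ∪ {p} := by
      intro k hk
      rw [mem_supp, hcoord] at hk
      by_cases hkt : k ∈ t
      · by_cases hkp : k = p
        · simp [hkp]
        · exfalso
          refine hk ?_
          rw [hu]
          simp only [if_pos hkt, if_neg hkp]
          linear_combination y k * h3
      · refine Finset.mem_union_left _ (Finset.mem_sdiff.2 ⟨mem_supp.2 fun h0 => hk ?_, hkt⟩)
        rw [hu]
        simp [hkt, h0]
    have hlt : (supp R).card < s := by
      have := (Finset.card_le_card hsub).trans (Finset.card_union_le _ _)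
      rw [Finset.card_sdiff_of_subset ht, hys, htc, Finset.card_singleton] at this
      omega
    have hRG : Gam G R := ih _ hlt R (by rw [hR, dot_map _ h2, hy]) rfl
    have e : y = (rf u).1 R := by
      rw [hR]
      exact (congrArg (fun g : quadIso (Q1 F n) => g.1 y) (rf_mul_self u)).symm
    rw [e]
    exact huG.refl O hn5 hRG

theorem hcast_of_prime (hp : (Fintype.card F).Prime) : ∀ x : F, ∃ k : ℕ, (k : F) = x := by
  haveI : Fact (Fintype.card F).Prime := ⟨hp⟩
  haveI : CharP F (Fintype.card F) := charP_of_card_eq_prime rfl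
  intro x
  have h : Function.Bijective (ZMod.castHom (dvd_refl (Fintype.card F)) F) :=
    ZMod.castHom_bijective F rfl
  obtain ⟨z, rfl⟩ := h.2 x
  exact ⟨z.val, by rw [ZMod.castHom_apply, ZMod.natCast_val]⟩

theorem sq_of_three (hp : (Fintype.card F).Prime) (h3 : (3 : F) = 0) : ∀ x : F, x ≠ 0 → x * x = 1 := by
  intro x hx
  obtain ⟨k, rfl⟩ := hcast_of_prime hp x
  rw [← Nat.mod_add_div k 3] at hx ⊢
  push_cast at hx ⊢
  rw [h3, zero_mul, add_zero] at hx ⊢
  have : k % 3 = 0 ∨ k % 3 = 1 ∨ k % 3 = 2 := by omega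
  rcases this with e | e | e <;> rw [e] at hx ⊢
  · exact absurd Nat.cast_zero hx
  · simp
  · push_cast
    linear_combination h3

theorem gam_all (O : Ov G) (hn : 7 ≤ n) (hd : 10 ≤ n ∨ Odd n) (hp : (Fintype.card F).Prime) {g : quadIso (Q1 F n)} (hg : g ∈ G)
    (hgm : ¬ Mono g) : ∀ y : V, y ⬝ᵥ y = 1 → Gam G y := by
  rcases exists_small O hn hd (sq_of_three hp) hg hgm with ⟨h3, v, hv, hv3⟩ | ⟨h3, v, hv, hv4⟩
  · exact gam_all_of_three O (by omega) h3 (hcast_of_prime hp) hv hv3
  · exact gam_all_of_four O (by omega) h3 (sq_of_three hp h3) hv hv4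

/-- The vectors of value one span. -/
theorem norm_one_span {U : Type*} [AddCommGroup U] [Module F U] [FiniteDimensional F U] (h2 : (2 : F) ≠ 0)
    (Q : QuadraticForm F U) (hQ : (polarBilin Q).Nondegenerate) (hU : 3 ≤ finrank F U) (P : U → Prop)
    (padd : ∀ a b, P a → P b → P (a + b)) (psmul : ∀ (c : F) a, P a → P (c • a))
    (pone : ∀ a, Q a = 1 → P a) : ∀ u, P u := by
  obtain ⟨e₂, he₂0, he₂⟩ := FiniteForms.exists_singular Q (by omega)
  obtain ⟨f₂, hf₂, hef₂⟩ := Eichler.exists_partner Q hQ he₂0 he₂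
  have hW : finrank F U ≤ finrank F (Eichler.perp Q e₂ f₂) + 2 := Eichler.perp_finrank Q he₂ hf₂ hef₂
  have hA : ∀ x : U, polar Q e₂ x = 0 → polar Q f₂ x = 0 → P (e₂ + (1 - Q x) • f₂ + x) := fun x hx1 hx2 =>
    pone _ (by
      rw [QuadraticMap.map_add Q, QuadraticMap.map_add Q, QuadraticMap.map_smul, he₂, hf₂, polar_smul_right,
        polar_add_left, polar_smul_left, hef₂, hx1, hx2]
      simp)
  have hhalf : (2⁻¹ : F) * 2 = 1 := inv_mul_cancel₀ h2
  have hperp : ∀ x : U, polar Q e₂ x = 0 → polar Q f₂ x = 0 → P x := fun x hx1 hx2 => by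
    have h1 := psmul 2⁻¹ _ (padd _ _ (hA x hx1 hx2)
      (psmul (-1) _ (hA (-x) (by rw [polar_neg_right, hx1, neg_zero]) (by rw [polar_neg_right, hx2, neg_zero]))))
    rw [QuadraticMap.map_neg, show (2⁻¹ : F) • (e₂ + (1 - Q x) • f₂ + x + (-1 : F) • (e₂ + (1 - Q x) • f₂ + -x)) =
      ((2⁻¹ : F) * 2) • x by module, hhalf, one_smul] at h1
    exact h1
  obtain ⟨w, hw1, hw2, hw⟩ : ∃ w, polar Q e₂ w = 0 ∧ polar Q f₂ w = 0 ∧ Q w ≠ 0 := by
    set W := Eichler.perp Q e₂ f₂ with hWdef
    by_contra hh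
    push Not at hh
    have hz : ∀ x : W, (Q.comp W.subtype) x = 0 := fun x =>
      hh x.1 ((Eichler.mem_perp Q).1 x.2).1 ((Eichler.mem_perp Q).1 x.2).2
    obtain ⟨x, hx⟩ := (Module.finrank_pos_iff_exists_ne_zero (R := F) (M := W)).1 (by omega)
    exact hx ((Eichler.perp_nondeg Q hQ he₂ hf₂ hef₂).1 x fun y => by
      rw [polarBilin_apply_apply]
      rw [polar, hz, hz, hz, sub_self, sub_self])
  have hA0 := hA 0 (by simp) (by simp)
  rw [QuadraticMap.map_zero, sub_zero, one_smul, add_zero] at hA0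
  have hf : P f₂ := by
    have h1 := psmul (Q w)⁻¹ _
      (padd _ _ hA0 (psmul (-1) _ (padd _ _ (hA w hw1 hw2) (psmul (-1) _ (hperp w hw1 hw2)))))
    rw [show e₂ + f₂ + (-1 : F) • (e₂ + (1 - Q w) • f₂ + w + (-1 : F) • w) = Q w • f₂ by module,
      inv_smul_smul₀ hw] at h1
    exact h1
  have he : P e₂ := by
    have h1 := padd _ _ hA0 (psmul (-1) _ hf)
    rw [show e₂ + f₂ + (-1 : F) • f₂ = e₂ by module] at h1
    exact h1
  intro u
  obtain ⟨h1, h3⟩ := (Eichler.mem_perp Q).1 (Eichler.proj_mem Q he₂ hf₂ hef₂ u)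
  have h4 := padd _ _ (padd _ _ (hperp _ h1 h3) (psmul (polar Q f₂ u) _ he)) (psmul (polar Q e₂ u) _ hf)
  rw [show u - polar Q f₂ u • e₂ - polar Q e₂ u • f₂ + polar Q f₂ u • e₂ + polar Q e₂ u • f₂ = u by module] at h4
  exact h4

/-- The reflection pairs generate the derived group. -/
theorem le_of_gam_all (O : Ov G) (hn : 5 ≤ n) (hp : (Fintype.card F).Prime)
    (hall : ∀ y : V, y ⬝ᵥ y = 1 → Gam G y) : commutator (quadIso (Q1 F n)) ≤ G := by
  classical
  have h2 := O.two
  have hcast := hcast_of_prime hp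
  set S : Set (quadIso (Q1 F n)) :=
    {g | ∃ u v : V, u ⬝ᵥ u = 1 ∧ v ⬝ᵥ v = 1 ∧ g = rf u * rf v} with hS
  set N := Subgroup.closure S
  have hNG : N ≤ G := by
    rw [Subgroup.closure_le]
    rintro g ⟨u, v, hu, hv, rfl⟩
    exact (hall u hu).pair_mem (by omega) (hall v hv)
  have hNn : N.Normal := ⟨fun g hg k => by
    induction hg using Subgroup.closure_induction with
    | mem g hg =>
      obtain ⟨u, v, hu, hv, rfl⟩ := hg
      refine Subgroup.subset_closure ⟨k.1 u, k.1 v, by rw [dot_map k h2, hu], by rw [dot_map k h2, hv], ?_⟩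
      rw [← rf_conj, ← rf_conj]; group
    | one => simp [one_mem]
    | mul x y _ _ hx hy =>
      have := mul_mem hx hy
      rwa [show k * x * k⁻¹ * (k * y * k⁻¹) = k * (x * y) * k⁻¹ by group] at this
    | inv x _ hx =>
      have := inv_mem hx
      rwa [show (k * x * k⁻¹)⁻¹ = k * x⁻¹ * k⁻¹ by group] at this⟩
  have hfr : 5 ≤ finrank F V := by simp; omega
  refine le_trans ?_ hNG
  refine Eichler.commutator_le (Q1 F n) h2 (nondeg h2) (by omega) N fun e w he0 he hew g hg => ?_
  -- the vectors whose transformation lies in the subgroup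
  set P : V → Prop := fun w => polar (Q1 F n) e w = 0 ∧ ∃ g, Eichler.IsEich (Q1 F n) e w g ∧ g ∈ N with hP
  suffices hw : P w by
    obtain ⟨-, g', hg', hm⟩ := hw
    rwa [Eichler.eich_unique (Q1 F n) hg hg']
  have Padd : ∀ a b, P a → P b → P (a + b) := by
    rintro a b ⟨ha, g₁, hg₁, m₁⟩ ⟨hb, g₂, hg₂, m₂⟩
    exact ⟨by rw [polar_add_right, ha, hb, add_zero], g₁ * g₂,
      Eichler.eich_add (Q1 F n) he ha hb hg₁ hg₂, mul_mem m₁ m₂⟩
  have Psmul : ∀ (c : F) a, P a → P (c • a) := by
    intro c a ha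
    obtain ⟨k, rfl⟩ := hcast c
    induction k with
    | zero => exact ⟨by simp, 1, by simpa using Eichler.eich_zero (Q1 F n) e, one_mem N⟩
    | succ k ih => rw [Nat.cast_succ, add_smul, one_smul]; exact Padd _ _ ih ha
  have Pone : ∀ a : V, polar (Q1 F n) e a = 0 → a ⬝ᵥ a = 1 → P a := by
    intro a ha ha1
    have hQa : Q1 F n a ≠ 0 := by rw [Q1_apply, ha1]; exact one_ne_zero
    set a' := a + (-Q1 F n a) • e with ha'
    have hQa' : Q1 F n a' = Q1 F n a := by
      rw [ha', QuadraticMap.map_add (Q1 F n), QuadraticMap.map_smul, he, polar_smul_right,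
        polar_comm (Q1 F n) a e, ha]
      simp
    have hQa'' : Q1 F n a' ≠ 0 := by rw [hQa']; exact hQa
    refine ⟨ha, _, Eichler.eich_refl (Q1 F n) he ha hQa hQa'', Subgroup.subset_closure ⟨a', a, ?_, ha1, ?_⟩⟩
    · rw [← Q1_apply, hQa', Q1_apply, ha1]
    · rw [rf_eq hQa, rf_eq hQa'']
  obtain ⟨f, hf, hef⟩ := Eichler.exists_partner (Q1 F n) (nondeg h2) he0 he
  have hU : finrank F V ≤ finrank F (Eichler.perp (Q1 F n) e f) + 2 := Eichler.perp_finrank (Q1 F n) he hf hef
  have hUperp : ∀ x : Eichler.perp (Q1 F n) e f, polar (Q1 F n) e x.1 = 0 := fun x =>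
    ((Eichler.mem_perp (Q1 F n)).1 x.2).1
  have hUmem : ∀ u : Eichler.perp (Q1 F n) e f, P u.1 :=
    norm_one_span h2 ((Q1 F n).comp (Eichler.perp (Q1 F n) e f).subtype)
      (Eichler.perp_nondeg (Q1 F n) (nondeg h2) he hf hef) (by simp at hU; omega) (fun u => P u.1)
      (fun a b => Padd a.1 b.1) (fun c a => Psmul c a.1)
      (fun a ha => Pone a.1 (hUperp a) (by rw [← Q1_apply]; exact ha))
  obtain ⟨-, g', hg', hm⟩ := hUmem ⟨_, Eichler.proj_mem (Q1 F n) he hf hef w⟩
  refine ⟨hew, g', ?_, hm⟩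
  have h1 := Eichler.eich_shift (Q1 F n) he (hUperp ⟨_, Eichler.proj_mem (Q1 F n) he hf hef w⟩)
    (polar (Q1 F n) f w) hg'
  simpa [hew] using h1

/-- An overgroup with an element outside the monomial group contains the derived group. -/
theorem overgroup_top (O : Ov G) (hn : 7 ≤ n) (hd : 10 ≤ n ∨ Odd n) (hp : (Fintype.card F).Prime) {g : quadIso (Q1 F n)} (hg : g ∈ G)
    (hgm : ¬ Mono g) : commutator (quadIso (Q1 F n)) ≤ G :=
  le_of_gam_all O (by omega) hp (gam_all O hn hd hp hg hgm)

end CfsgLib.MaxSub.Frame
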