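import Cfsg.Agent.Lib.MaxSub.Frame.SixCol
import Cfsg.Agent.Lib.MaxSub.Frame.Final

/-!
Orthogonal frames in dimension six, part 3: an overgroup of the monomial part of `Ω` with an element outside it
contains the derived group, over a prime field.
-/

set_option autoImplicit false
set_option linter.unusedSectionVars false
set_option maxHeartbeats 800000

namespace CfsgLib.MaxSub.Frame.Six

open QuadraticMap CfsgLib.WittExtension CfsgLib.SpinorNorm

variable {F : Type*} [Field F] [Fintype F] {G : Subgroup (quadIso (Q1 F 6))}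

local notation "V" => Fin 6 → F

/-- The elements of the group fixing the two differences. -/
def fixG (G : Subgroup (quadIso (Q1 F 6))) : Subgroup (quadIso (Q1 F 6)) where
  carrier := {k | k ∈ G ∧ k.1 (sd 0 1 (-1) : V) = sd 0 1 (-1) ∧ k.1 (sd 2 3 (-1) : V) = sd 2 3 (-1)}
  one_mem' := ⟨one_mem G, rfl, rfl⟩
  mul_mem' := fun ⟨a, b, c⟩ ⟨a', b', c'⟩ => ⟨mul_mem a a', by rw [mul_app, b', b], by rw [mul_app, c', c]⟩
  inv_mem' := fun {k} ⟨a, b, c⟩ => ⟨inv_mem a, by conv_lhs => rw [← b, inv_map],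
    by conv_lhs => rw [← c, inv_map]⟩

theorem pair_sq (h2 : (2 : F) ≠ 0) {u v : V} (hu : u ⬝ᵥ u ≠ 0) (huv : u ⬝ᵥ v = 0) :
    rf u * rf v * (rf u * rf v) = 1 := by
  have h : rf u * rf v * (rf u)⁻¹ = rf v := by rw [rf_conj, rf_perp hu huv]
  rw [rf_inv] at h
  rw [← mul_assoc, h, rf_mul_self]

theorem mono_of_comm_d (O : Ov G) (hstar : Star G) {k : quadIso (Q1 F 6)} (hk : k ∈ G)
    (h : k * (rf (ee 4 : V) * rf (ee 5)) = rf (ee 4 : V) * rf (ee 5) * k) : Mono k := by
  have hz : ∀ a : Fin 6, a ≠ 4 → a ≠ 5 → k.1 (ee a : V) 4 = 0 := fun a a4 a5 => by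
    have e : (rf (ee 4 : V) * rf (ee 5)).1 (ee a : V) = ee a := funext fun m => by
      rw [ee_pair_apply]
      split_ifs with e1 e2 e2 <;> first | rfl | simp [ee_apply, e1, e2, Ne.symm a4, Ne.symm a5]
    have h' := congrFun (congrArg (fun g : quadIso (Q1 F 6) => g.1 (ee a : V)) h) 4
    simp only [mul_app k, mul_app (rf (ee 4 : V) * rf (ee 5)), e] at h'
    rw [m1_apply] at h'
    simp at h'
    exact (mul_eq_zero.1 (show (2 : F) * k.1 (ee a : V) 4 = 0 by linear_combination h')).resolve_left O.two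
  exact mono_of_zero O hstar hk (show (0 : Fin 6) ≠ 1 by decide) (hz 0 (by decide) (by decide))
    (hz 1 (by decide) (by decide))

/-- An element commuting with a signed transposition fixing two coordinates. -/
theorem mono_of_comm (O : Ov G) (hstar : Star G) {k w : quadIso (Q1 F 6)} (hk : k ∈ G) (h : k * w = w * k)
    {i j a b : Fin 6} (hij : i ≠ j) (hab : a ≠ b) (hai : a ≠ i) (haj : a ≠ j) (hbi : b ≠ i) (hbj : b ≠ j)
    (hp : k.1 (sd i j (-1) : V) = sd i j (-1)) (hw : ∀ v : V, w.1 v i = -v j)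
    (ha : w.1 (ee a : V) = ee a) (hb : w.1 (ee b : V) = ee b) : Mono k := by
  have hz : ∀ c : Fin 6, c ≠ i → c ≠ j → w.1 (ee c : V) = ee c → k.1 (ee c : V) i = 0 := by
    intro c ci cj hc
    have e1 : w.1 (k.1 (ee c : V)) = k.1 (ee c : V) := by
      rw [← mul_app, ← h, mul_app, hc]
    have e2 := hw (k.1 (ee c : V))
    rw [e1] at e2
    have e3 := dot_map k O.two (sd i j (-1) : V) (ee c)
    rw [hp, sd_dot, sd_dot, ee_ne (Ne.symm ci), ee_ne (Ne.symm cj)] at e3
    exact (mul_eq_zero.1 (show (2 : F) * k.1 (ee c : V) i = 0 by linear_combination e2 + e3)).resolve_left O.two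
  exact mono_of_zero O hstar hk hab (hz a hai haj ha) (hz b hbi hbj hb)

/-- An involution negating no basis vector is not conjugate to the standard one. -/
theorem no_conj (O : Ov G) (hstar : Star G) {y w : quadIso (Q1 F 6)} (hy : y ∈ G) (hwm : Mono w)
    (h : y * (rf (ee 4 : V) * rf (ee 5)) * y⁻¹ = w) (hne : ∀ j, w.1 (ee j : V) j ≠ -1) : False := by
  have hym := mono_of_pair O hstar hy (show (4 : Fin 6) ≠ 5 by decide) (by rw [← conj_pair, h]; exact hwm)
  have e : w.1 (y.1 (ee 4 : V)) = -y.1 (ee 4) := by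
    rw [← h, mul_app, mul_app, inv_map, ← map_neg]
    congr 1
    funext m
    rw [m1_apply]
    fin_cases m <;> simp [ee_apply]
  obtain ⟨j, hj | hj⟩ := hym 4 <;> rw [hj] at e
  · exact hne j (by rw [e, Pi.neg_apply, ee_self])
  · exact hne j (by rw [map_neg, neg_inj] at e; rw [e, Pi.neg_apply, ee_self])

theorem pair_pow (r z : quadIso (Q1 F 6)) (hr : r * r = 1) (hz : z * z = 1) (j : ℕ) :
    (r * z) ^ j * r * ((r * z) ^ j)⁻¹ = (r * z) ^ (2 * j) * r := by
  have hr' : r⁻¹ = r := inv_eq_of_mul_eq_one_right hr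
  have hz' : z⁻¹ = z := inv_eq_of_mul_eq_one_right hz
  have h1 : r * (r * z) * r⁻¹ = (r * z)⁻¹ := by rw [mul_inv_rev, hr', hz', ← mul_assoc r r z, hr, one_mul]
  have h2 : r * (r * z) ^ j * r⁻¹ = ((r * z) ^ j)⁻¹ := by rw [← conj_pow, h1, inv_pow]
  rw [← h2, hr', mul_assoc ((r * z) ^ j) r, ← mul_assoc r (r * (r * z) ^ j) r, ← mul_assoc r r, hr, one_mul,
    two_mul, pow_add, mul_assoc]

/-- The block of an involution fixing a difference. -/
theorem block_two (h2 : (2 : F) ≠ 0) {w : quadIso (Q1 F 6)} {f : Fin 6 → Fin 6} {s : Fin 6 → F}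
    (hf : ∀ i, (s i = 1 ∨ s i = -1) ∧ w.1 (ee i : V) = s i • ee (f i) ∧ f (f i) = i ∧
      ∀ v, w.1 v i = s i * v (f i)) {a b : Fin 6} (hab : a ≠ b)
    (hp : w.1 (sd a b (-1) : V) = sd a b (-1)) :
    (f a = a ∧ f b = b ∧ ∀ v : V, w.1 v a = v a ∧ w.1 v b = v b) ∨
      (f a = b ∧ f b = a ∧ ∀ v : V, w.1 v a = -v b ∧ w.1 v b = -v a) := by
  have key : ∀ m, s m * (sd a b (-1) : V) (f m) = (sd a b (-1) : V) m := fun m => by
    rw [← (hf m).2.2.2, hp]
  have ka := key a
  have kb := key b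
  rw [sd_apply, sd_apply, if_pos rfl, if_neg hab] at ka
  rw [sd_apply, sd_apply, if_neg (Ne.symm hab), if_pos rfl] at kb
  have fa : f a = a ∨ f a = b := by
    by_contra hh
    rw [not_or] at hh
    rw [if_neg hh.1, if_neg hh.2] at ka
    simp at ka
  rcases fa with fa | fa
  · rw [fa, if_pos rfl, if_neg hab] at ka
    have fb : f b = b := by
      by_contra hh
      have : f b ≠ a := fun e => hab (by rw [← fa, ← e, (hf b).2.2.1])
      rw [if_neg this, if_neg hh] at kb
      simp at kb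
    rw [fb, if_neg (Ne.symm hab), if_pos rfl] at kb
    exact Or.inl ⟨fa, fb, fun v => ⟨by rw [(hf a).2.2.2, fa]; linear_combination v a * ka,
      by rw [(hf b).2.2.2, fb]; linear_combination -v b * kb⟩⟩
  · have fb : f b = a := by rw [← fa, (hf a).2.2.1]
    rw [fa, if_neg (Ne.symm hab), if_pos rfl] at ka
    rw [fb, if_pos rfl, if_neg hab] at kb
    exact Or.inr ⟨fa, fb, fun v => ⟨by rw [(hf a).2.2.2, fa]; linear_combination -v b * ka,
      by rw [(hf b).2.2.2, fb]; linear_combination v a * kb⟩⟩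

theorem block_rest {f : Fin 6 → Fin 6} (hff : ∀ i, f (f i) = i) (hA : f 0 = 0 ∧ f 1 = 1 ∨ f 0 = 1 ∧ f 1 = 0)
    (hB : f 2 = 2 ∧ f 3 = 3 ∨ f 2 = 3 ∧ f 3 = 2) : f 4 = 4 ∧ f 5 = 5 ∨ f 4 = 5 ∧ f 5 = 4 := by
  have h : ∀ i, i = 4 ∨ i = 5 → f i = 4 ∨ f i = 5 := by
    intro i hi
    have key : ∀ k, f k ≠ i → f i ≠ k := fun k hk e => hk (by rw [← e, hff])
    have n0 : f i ≠ 0 := key 0 (by rcases hA with h | h <;> rcases hi with rfl | rfl <;> rw [h.1] <;> decide)
    have n1 : f i ≠ 1 := key 1 (by rcases hA with h | h <;> rcases hi with rfl | rfl <;> rw [h.2] <;> decide)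
    have n2 : f i ≠ 2 := key 2 (by rcases hB with h | h <;> rcases hi with rfl | rfl <;> rw [h.1] <;> decide)
    have n3 : f i ≠ 3 := key 3 (by rcases hB with h | h <;> rcases hi with rfl | rfl <;> rw [h.2] <;> decide)
    revert n0 n1 n2 n3
    generalize f i = z
    revert z
    decide
  rcases h 4 (Or.inl rfl) with h4 | h4
  · refine Or.inl ⟨h4, (h 5 (Or.inr rfl)).resolve_left fun e => ?_⟩
    have := hff 5
    rw [e, h4] at this
    exact absurd this (by decide)
  · exact Or.inr ⟨h4, by rw [← h4, hff]⟩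

/-- The elements fixing the two differences are monomial. -/
theorem mono_of_fix (O : Ov G) (hstar : Star G) {k : quadIso (Q1 F 6)} (hk : k ∈ fixG G) : Mono k := by
  classical
  have h2 := O.two
  have h11 : (1 : F) * 1 = 1 := one_mul 1
  have hm1 : (-1 : F) * -1 = 1 := by ring
  set d := rf (ee 4 : V) * rf (ee 5) with hd
  set r := rf (sd 0 1 1 : V) * rf (sd 4 5 (-1)) with hr
  set r' := rf (sd 2 3 1 : V) * rf (sd 4 5 1) with hr'
  have hsd : ∀ (t : F), t * t = 1 → ∀ x : V,
      (rf (sd 2 3 1 : V) * rf (sd 4 5 t)).1 x = ![x 0, x 1, -x 3, -x 2, -(t * x 5), -(t * x 4)] := by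
    intro t ht x
    funext m
    rw [sdp_apply h2 (by decide) (by decide) h11 ht (by decide) (by decide) (by decide) (by decide)]
    fin_cases m <;> simp
  have hq : ∀ x : V, (rf (sd 0 1 1 : V) * rf (sd 2 3 1)).1 x = ![-x 1, -x 0, -x 3, -x 2, x 4, x 5] := by
    intro x
    funext m
    rw [sdp_apply h2 (by decide) (by decide) h11 h11 (by decide) (by decide) (by decide) (by decide)]
    fin_cases m <;> simp
  have hdF : d ∈ fixG G := ⟨O.pair_ee (by norm_num) 4 5, funext fun m => by
      rw [hd, m1_apply]; fin_cases m <;> simp [sd_apply],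
    funext fun m => by rw [hd, m1_apply]; fin_cases m <;> simp [sd_apply]⟩
  have hrF : r ∈ fixG G := ⟨sd_pair_mem O (by decide) (by decide) h11 hm1, funext fun m => by
      rw [hr, m3_apply h2 _ hm1]; fin_cases m <;> simp [sd_apply],
    funext fun m => by rw [hr, m3_apply h2 _ hm1]; fin_cases m <;> simp [sd_apply]⟩
  have hrr : r * r = 1 := ext_iso fun x => funext fun m => by
    rw [mul_app, hr, m3_apply h2 _ hm1, m3_apply h2 _ hm1]
    fin_cases m <;> simp <;> rfl
  have hdd : d * d = 1 := ext_iso fun x => funext fun m => by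
    rw [mul_app, hd, m1_apply, m1_apply]
    fin_cases m <;> simp <;> rfl
  set z := k * d * k⁻¹ with hz
  have hzF : z ∈ fixG G := mul_mem (mul_mem hk hdF) (inv_mem hk)
  have hzz : z * z = 1 := by
    rw [hz, show k * d * k⁻¹ * (k * d * k⁻¹) = k * (d * d) * k⁻¹ by group, hdd, mul_one, mul_inv_cancel]
  suffices hzm : Mono z from
    mono_of_pair O hstar hk.1 (show (4 : Fin 6) ≠ 5 by decide) (by rw [← conj_pair]; exact hzm)
  have hcl : Subgroup.closure ({r, z} : Set (quadIso (Q1 F 6))) ≤ fixG G := (Subgroup.closure_le _).2 (by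
    rintro _ (rfl | rfl)
    · exact hrF
    · exact hzF)
  have hrmono : Mono r := (mono_rf_sd h2 (by decide) h11).mul (mono_rf_sd h2 (by decide) hm1)
  rcases Nat.even_or_odd (orderOf (r * z)) with ⟨m, hm⟩ | hodd
  swap
  · obtain ⟨h, hh, hhz⟩ := dihedral_odd hrr hzz hodd
    refine (no_conj O hstar (mul_mem (hcl hh).1 hk.1) hrmono ?_ fun j => ?_).elim
    · rw [← hhz, hz, hd]
      group
    · rw [hr, m3_apply h2 _ hm1]
      fin_cases j <;> simp [ee_apply] <;> exact fun e => h2 (by linear_combination e)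
  rw [← two_mul] at hm
  have hmpos : 0 < m := by have := orderOf_pos (r * z); omega
  obtain ⟨hw1, hww, hwr, hwz⟩ := dihedral_even hrr hzz hm hmpos
  set w := (r * z) ^ m with hwdef
  have hwF : w ∈ fixG G := pow_mem (mul_mem hrF hzF) m
  have hr0 : ∀ v : V, r.1 v 0 = -v 1 := fun v => by rw [hr, m3_apply h2 _ hm1]; simp
  have hwm : Mono w := mono_of_comm O hstar hwF.1 hwr.symm (show (0 : Fin 6) ≠ 1 by decide)
    (show (2 : Fin 6) ≠ 3 by decide) (by decide) (by decide) (by decide) (by decide) hwF.2.1 hr0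
    (funext fun m => by rw [hr, m3_apply h2 _ hm1]; fin_cases m <;> simp [ee_apply])
    (funext fun m => by rw [hr, m3_apply h2 _ hm1]; fin_cases m <;> simp [ee_apply])
  obtain ⟨f, s, hf⟩ := Mono.invol h2 hwm hww
  have hA := block_two h2 hf (show (0 : Fin 6) ≠ 1 by decide) hwF.2.1
  have hB := block_two h2 hf (show (2 : Fin 6) ≠ 3 by decide) hwF.2.2
  -- the last block
  obtain ⟨ε, hε, hC⟩ : ∃ ε : F, (ε = 1 ∨ ε = -1) ∧ ((∀ v : V, w.1 v 4 = ε * v 4 ∧ w.1 v 5 = ε * v 5) ∨
      ∀ v : V, w.1 v 4 = ε * v 5 ∧ w.1 v 5 = ε * v 4) := by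
    have h45 := block_rest (fun i => (hf i).2.2.1)
      (hA.imp (fun h => ⟨h.1, h.2.1⟩) fun h => ⟨h.1, h.2.1⟩)
      (hB.imp (fun h => ⟨h.1, h.2.1⟩) fun h => ⟨h.1, h.2.1⟩)
    have hcomm : ∀ v : V, r.1 (w.1 v) 4 = w.1 (r.1 v) 4 := fun v => by
      rw [← mul_app, hwr, mul_app]
    refine ⟨s 4, (hf 4).1, ?_⟩
    rcases h45 with ⟨f4, -⟩ | ⟨f4, -⟩
    · refine Or.inl fun v => ⟨by rw [(hf 4).2.2.2, f4], ?_⟩
      have h := hcomm v
      simp only [hr, m3_apply h2 _ hm1] at h
      simpa [(hf 4).2.2.2, f4] using h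
    · refine Or.inr fun v => ⟨by rw [(hf 4).2.2.2, f4], ?_⟩
      have h := hcomm v
      simp only [hr, m3_apply h2 _ hm1] at h
      simpa [(hf 4).2.2.2, f4] using h
  have hε2 : (-ε) * -ε = 1 := by rcases hε with rfl | rfl <;> ring
  have hwc : ∀ x ∈ commutator (quadIso (Q1 F 6)), rf (sd 4 5 (-ε) : V) ≠ x := fun x hx e =>
    rf_notMem h2 (by rw [sd_norm (show (4 : Fin 6) ≠ 5 by decide) hε2]; exact h2) (by rw [e]; exact hx)
  rcases hA with ⟨-, -, hA⟩ | ⟨-, -, hA⟩ <;> rcases hB with ⟨-, -, hB⟩ | ⟨-, -, hB⟩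
  · -- both pairs fixed
    rcases hC with hC | hC
    · rcases hε with rfl | rfl
      · exact absurd (ext_iso fun v => funext fun m => by
          show w.1 v m = v m
          fin_cases m <;> simp [hA, hB, hC]) hw1
      · have hwd : w = d := ext_iso fun v => funext fun m => by
          rw [hd, m1_apply]
          fin_cases m <;> simp [hA, hB, hC]
        exact mono_of_comm_d O hstar hzF.1 (by rw [← hd, ← hwd]; exact hwz)
    · refine absurd (ext_iso fun v => funext fun m => ?_) (hwc w (O.le hwF.1))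
      rw [rf_sd h2 (by decide) hε2, sd_apply]
      fin_cases m <;> simp [hA, hB, hC]
      linear_combination -v 5 * hε2
  · exact mono_of_comm O hstar hzF.1 hwz (show (2 : Fin 6) ≠ 3 by decide) (show (0 : Fin 6) ≠ 1 by decide)
      (by decide) (by decide) (by decide) (by decide) hzF.2.2 (fun v => (hB v).1)
      (funext fun m => by rcases hC with hC | hC <;> fin_cases m <;> simp [hA, hB, hC, ee_apply])
      (funext fun m => by rcases hC with hC | hC <;> fin_cases m <;> simp [hA, hB, hC, ee_apply])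
  · exact mono_of_comm O hstar hzF.1 hwz (show (0 : Fin 6) ≠ 1 by decide) (show (2 : Fin 6) ≠ 3 by decide)
      (by decide) (by decide) (by decide) (by decide) hzF.2.1 (fun v => (hA v).1)
      (funext fun m => by rcases hC with hC | hC <;> fin_cases m <;> simp [hA, hB, hC, ee_apply])
      (funext fun m => by rcases hC with hC | hC <;> fin_cases m <;> simp [hA, hB, hC, ee_apply])
  -- both pairs moved
  rcases hC with hC | hC
  swap
  · refine absurd (ext_iso fun v => funext fun m => ?_)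
      (hwc ((rf (sd 0 1 1 : V) * rf (sd 2 3 1)) * w)
        (mul_mem (O.le (sd_pair_mem O (by decide) (by decide) h11 h11)) (O.le hwF.1)))
    rw [rf_sd h2 (by decide) hε2, sd_apply, mul_app, hq]
    fin_cases m <;> simp [hA, hB, hC]
    linear_combination -v 5 * hε2
  rcases hε with rfl | rfl
  · exact mono_of_comm O hstar hzF.1 hwz (show (0 : Fin 6) ≠ 1 by decide) (show (4 : Fin 6) ≠ 5 by decide)
      (by decide) (by decide) (by decide) (by decide) hzF.2.1 (fun v => (hA v).1)
      (funext fun m => by fin_cases m <;> simp [hA, hB, hC, ee_apply])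
      (funext fun m => by fin_cases m <;> simp [hA, hB, hC, ee_apply])
  exfalso
  have hN : w * r = r' := ext_iso fun v => funext fun m => by
    rw [mul_app, hr', hsd 1 h11, hr, m3_apply h2 _ hm1]
    fin_cases m <;> simp [hA, hB, hC]
  have hr'2 : ∀ v : V, r'.1 v 2 = -v 3 := fun v => by rw [hr', hsd 1 h11]; simp
  rcases Nat.even_or_odd m with ⟨j, hj⟩ | ⟨j, hj⟩
  · set k1 := (r * z) ^ j with hk1
    have hk1F : k1 ∈ fixG G := pow_mem (mul_mem hrF hzF) j
    have hkk : k1 * k1 = w := by rw [hk1, ← pow_add, ← hj, hwdef]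
    have hconj : k1 * r * k1⁻¹ = r' := by rw [hk1, pair_pow r z hrr hzz, two_mul, ← hj, ← hwdef, hN]
    have hdr : d * r = r * d := ext_iso fun v => funext fun m => by
      show d.1 (r.1 v) m = r.1 (d.1 v) m
      rw [hd, hr, m1_apply, m3_apply h2 _ hm1, m3_apply h2 _ hm1, m1_apply]
      fin_cases m <;> simp
    have hqc : k1 * d * k1⁻¹ * r' = r' * (k1 * d * k1⁻¹) := by
      rw [← hconj, show k1 * d * k1⁻¹ * (k1 * r * k1⁻¹) = k1 * (d * r) * k1⁻¹ by group, hdr]
      group
    have hqF : k1 * d * k1⁻¹ ∈ fixG G := mul_mem (mul_mem hk1F hdF) (inv_mem hk1F)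
    have hqm : Mono (k1 * d * k1⁻¹) := mono_of_comm O hstar hqF.1 hqc (show (2 : Fin 6) ≠ 3 by decide)
      (show (0 : Fin 6) ≠ 1 by decide) (by decide) (by decide) (by decide) (by decide) hqF.2.2 hr'2
      (funext fun m => by rw [hr', hsd 1 h11]; fin_cases m <;> simp [ee_apply])
      (funext fun m => by rw [hr', hsd 1 h11]; fin_cases m <;> simp [ee_apply])
    have hk1m : Mono k1 := mono_of_pair O hstar hk1F.1 (show (4 : Fin 6) ≠ 5 by decide)
      (by rw [← conj_pair]; exact hqm)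
    obtain ⟨l, hl⟩ := hk1m 0
    have hdot := dot_map k1 h2 (ee (0 : Fin 6)) (sd 0 1 (-1))
    rw [hk1F.2.1, ee_dot] at hdot
    have hsub : k1.1 (ee (1 : Fin 6)) = k1.1 (ee (0 : Fin 6)) - sd 0 1 (-1) := by
      rw [eq_sub_iff_add_eq]
      conv_lhs => rw [← hk1F.2.1, ← map_add]
      congr 1
      funext m
      fin_cases m <;> simp [sd_apply, ee_apply]
    have hfix : w.1 (ee (0 : Fin 6)) = (ee 0 : V) := by
      rw [← hkk, mul_app]
      rcases hl with e | e <;> rw [e] at hdot ⊢
      · have hl0 : l = 0 := by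
          simp [ee_dot, sd_apply] at hdot
          by_contra hne
          rw [if_neg hne] at hdot
          split_ifs at hdot with h1
          · exact h2 (by linear_combination -hdot)
          · simp at hdot
        rw [hl0] at e ⊢
        exact e
      · have hl1 : l = 1 := by
          simp [ee_dot, sd_apply] at hdot
          by_contra hne
          rw [if_neg hne] at hdot
          split_ifs at hdot with h1
          · exact h2 (by linear_combination -hdot)
          · simp at hdot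
        rw [hl1] at e ⊢
        rw [map_neg, hsub, e]
        funext m
        fin_cases m <;> simp [sd_apply, ee_apply]
    have := congrFun hfix 0
    rw [(hA _).1, ee_self, ee_ne (by decide), neg_zero] at this
    exact zero_ne_one this
  · refine no_conj O hstar (mul_mem (mul_mem (pow_mem (mul_mem hrF.1 hzF.1) j) hrF.1) hk.1)
      (w := r') ((mono_rf_sd h2 (by decide) h11).mul (mono_rf_sd h2 (by decide) h11)) ?_ fun i => ?_
    · have hrinv : r⁻¹ = r := inv_eq_of_mul_eq_one_right hrr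
      rw [show (r * z) ^ j * r * k * d * ((r * z) ^ j * r * k)⁻¹ =
        (r * z) ^ j * (r * (k * d * k⁻¹)) * r⁻¹ * ((r * z) ^ j)⁻¹ by group, ← hz, hrinv,
        ← pow_succ, pow_succ', mul_assoc (r * z) ((r * z) ^ j) r, mul_assoc (r * z), pair_pow r z hrr hzz,
        ← mul_assoc, ← pow_succ', ← hj, ← hwdef, hN]
    · rw [hr', hsd 1 h11]
      fin_cases i <;> simp [ee_apply] <;> exact fun e => h2 (by linear_combination e)

/-- An element mapping the standard plane into the first four coordinates. -/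
theorem mono_of_plane (O : Ov G) (hstar : Star G) {y : quadIso (Q1 F 6)} (hy : y ∈ G)
    (h1 : y⁻¹.1 (sd 0 1 (-1) : V) 4 = 0 ∧ y⁻¹.1 (sd 0 1 (-1) : V) 5 = 0)
    (h3 : y⁻¹.1 (sd 2 3 (-1) : V) 4 = 0 ∧ y⁻¹.1 (sd 2 3 (-1) : V) 5 = 0) : Mono y := by
  have key : ∀ p : V, y⁻¹.1 p 4 = 0 ∧ y⁻¹.1 p 5 = 0 →
      (y * (rf (ee 4 : V) * rf (ee 5)) * y⁻¹).1 p = p := by
    intro p hp
    have e : ∀ v : V, v 4 = 0 → v 5 = 0 → (rf (ee 4 : V) * rf (ee 5)).1 v = v := fun v v4 v5 =>
      funext fun m => by rw [m1_apply]; fin_cases m <;> simp [v4, v5]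
    show y.1 ((rf (ee 4 : V) * rf (ee 5)).1 (y⁻¹.1 p)) = p
    rw [e _ hp.1 hp.2, map_inv']
  exact mono_of_pair O hstar hy (show (4 : Fin 6) ≠ 5 by decide) (by
    rw [← conj_pair]
    exact mono_of_fix O hstar ⟨mul_mem (mul_mem hy (O.pair_ee (by norm_num) 4 5)) (inv_mem hy), key _ h1, key _ h3⟩)

theorem det_eq_one {w : quadIso (Q1 F 6)} (hw : w ∈ commutator (quadIso (Q1 F 6))) (σ : Equiv.Perm (Fin 6))
    (s : Fin 6 → F) (h : ∀ (v : V) i, w.1 v i = s i * v (σ i)) :
    ((Equiv.Perm.sign σ : ℤ) : F) * ∏ i, s i = 1 := by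
  have hdet : LinearEquiv.det w.1 = 1 := MonoidHom.mem_ker.1
    (Abelianization.commutator_subset_ker (LinearEquiv.det.comp (quadIso (Q1 F 6)).subtype) hw)
  have hd : LinearMap.det (w.1 : V →ₗ[F] V) = 1 := by rw [← LinearEquiv.coe_det, hdet, Units.val_one]
  have hM : LinearMap.toMatrix' (w.1 : V →ₗ[F] V) = Matrix.diagonal s * σ.permMatrix F := by
    ext i j
    rw [LinearMap.toMatrix'_apply, LinearEquiv.coe_coe, h, Matrix.diagonal_mul]
    simp [Equiv.Perm.permMatrix, PEquiv.toMatrix_apply, Equiv.toPEquiv_apply, Pi.single_apply]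
  rw [← LinearMap.det_toMatrix', hM, Matrix.det_mul, Matrix.det_diagonal, Matrix.det_permutation] at hd
  linear_combination hd

/-- The centraliser of a monomial involution other than the central one. -/
theorem mono_of_invol (O : Ov G) (hstar : Star G) {x w : quadIso (Q1 F 6)} (hx : x ∈ G) (hw : w ∈ G)
    (hwm : Mono w) (hww : w * w = 1) (hw1 : w ≠ 1) {ξ : V} (hξ : ξ ≠ 0) (hwξ : w.1 ξ = ξ)
    (hc : x * w = w * x) : Mono x := by
  classical
  have h2 := O.two
  obtain ⟨f, s, hf⟩ := Mono.invol h2 hwm hww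
  have hsf : ∀ i, s (f i) = s i := fun i => by
    have h := congrFun (congrArg (fun g : quadIso (Q1 F 6) => g.1 (ee i : V)) hww) i
    change w.1 (w.1 (ee i : V)) i = (ee i : V) i at h
    rw [(hf i).2.2.2, (hf (f i)).2.2.2, (hf i).2.2.1, ee_self, mul_one] at h
    rcases (hf i).1 with e | e <;> rw [e] at h ⊢ <;>
      first | linear_combination h | linear_combination -h
  have hne : ∀ a b : Fin 6, s a ≠ s b → s a = -s b := fun a b hab => by
    rcases (hf a).1 with e | e <;> rcases (hf b).1 with e' | e' <;> rw [e, e'] at hab ⊢ <;>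
      first | exact absurd rfl hab | simp
  -- two equal signs and a third one
  have hZ : ∀ a b k : Fin 6, a ≠ b → f a = a → f b = b → f k = k → s a = s b → s k ≠ s a → Mono x := by
    intro a b k hab fa fb fk sab ska
    have key : ∀ c, f c = c → s c = s a → x.1 (ee c : V) k = 0 := fun c fc sc => by
      have h := congrFun (congrArg (fun g : quadIso (Q1 F 6) => g.1 (ee c : V)) hc) k
      change x.1 (w.1 (ee c : V)) k = w.1 (x.1 (ee c : V)) k at h
      rw [(hf c).2.1, fc, map_smul, Pi.smul_apply, smul_eq_mul, (hf k).2.2.2, fk, sc] at h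
      exact (mul_eq_zero.1 (show (s k - s a) * x.1 (ee c : V) k = 0 by linear_combination -h)).resolve_left
        (sub_ne_zero.2 ska)
    exact mono_of_zero O hstar hx hab (key a fa rfl) (key b fb sab.symm)
  have hmix : ∀ c k e : Fin 6, f c = c → f k = k → f e = e → s k ≠ s c → e ≠ c → e ≠ k → Mono x := by
    intro c k e fc fk fe skc hec hek
    by_cases h : s e = s c
    · exact hZ e c k hec fe fc fk h (by rw [h]; exact skc)
    · exact hZ e k c hek fe fk fc
        (by rw [hne e c h, hne k c skc]) (fun h' => h h'.symm)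
  by_cases hid : ∀ i, f i = i
  · by_cases hs : ∀ k, s k = s 0
    · exfalso
      rcases (hf 0).1 with e | e
      · exact hw1 (ext_iso fun v => funext fun i => by
          show w.1 v i = v i
          rw [(hf i).2.2.2, hid, hs, e, one_mul])
      · refine hξ (funext fun i => ?_)
        have h := congrFun hwξ i
        rw [(hf i).2.2.2, hid, hs, e] at h
        exact (mul_eq_zero.1 (show (2 : F) * ξ i = 0 by linear_combination -h)).resolve_left h2
    push Not at hs
    obtain ⟨k, hk⟩ := hs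
    obtain ⟨e, he0, hek⟩ : ∃ e : Fin 6, e ≠ 0 ∧ e ≠ k := by
      clear * - k
      revert k
      decide
    exact hmix 0 k e (hid 0) (hid k) (hid e) hk he0 hek
  push Not at hid
  obtain ⟨i, hi⟩ := hid
  set fp : Equiv.Perm (Fin 6) := Function.Involutive.toPerm f (fun z => (hf z).2.2.1) with hfp
  have hdet := det_eq_one (O.le hw) fp s fun v m => (hf m).2.2.2 v
  have hprod : ∀ σ : Equiv.Perm (Fin 6), ∏ m, s m = ∏ m, s (σ.symm m) := fun σ =>
    (Equiv.prod_comp σ.symm s).symm
  have hsq : ∀ m, s m * s m = 1 := fun m => by rcases (hf m).1 with e | e <;> rw [e] <;> simp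
  have hfi : f (f i) = i := (hf i).2.2.1
  by_cases hrest : ∀ m, m ≠ i → m ≠ f i → f m = m
  · obtain ⟨σ, hσ, hσi⟩ := exists_even_tuple (n := 6) (k := 2) (by norm_num) (ι := ![i, f i])
      (by intro p q e; fin_cases p <;> fin_cases q <;> simp_all [Ne.symm hi])
      (ι' := ![0, 1]) (by decide)
    have h0 : σ.symm 0 = i := σ.symm_apply_eq.2 (hσi 0).symm
    have h1 : σ.symm 1 = f i := σ.symm_apply_eq.2 (hσi 1).symm
    have hr : ∀ m : Fin 6, m ≠ 0 → m ≠ 1 → σ.symm m ≠ i ∧ σ.symm m ≠ f i := fun m m0 m1 =>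
      ⟨fun e => m0 (σ.symm.injective (e.trans h0.symm)), fun e => m1 (σ.symm.injective (e.trans h1.symm))⟩
    have hfx : ∀ m : Fin 6, m ≠ 0 → m ≠ 1 → f (σ.symm m) = σ.symm m := fun m m0 m1 =>
      hrest _ (hr m m0 m1).1 (hr m m0 m1).2
    by_cases hs : ∀ m : Fin 6, m ≠ 0 → m ≠ 1 → s (σ.symm m) = s (σ.symm 2)
    · exfalso
      have hswap : fp = Equiv.swap i (f i) := Equiv.ext fun z => by
        show f z = _
        by_cases zi : z = i
        · subst zi; rw [Equiv.swap_apply_left]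
        by_cases zj : z = f i
        · subst zj; rw [Equiv.swap_apply_right, hfi]
        rw [Equiv.swap_apply_of_ne_of_ne zi zj, hrest z zi zj]
      rw [hswap, Equiv.Perm.sign_swap (Ne.symm hi), hprod σ, Fin.prod_univ_six, h0, h1, hsf,
        hs 3 (by decide) (by decide), hs 4 (by decide) (by decide), hs 5 (by decide) (by decide),
        hsq, one_mul, hsq, one_mul, hsq] at hdet
      simp at hdet
      exact h2 (by linear_combination -hdet)
    push Not at hs
    obtain ⟨m, m0, m1, hm⟩ := hs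
    obtain ⟨e, e0, e1, e2, em⟩ : ∃ e : Fin 6, e ≠ 0 ∧ e ≠ 1 ∧ e ≠ 2 ∧ e ≠ m := by
      clear * - m
      revert m
      decide
    exact hmix _ _ _ (hfx 2 (by decide) (by decide)) (hfx m m0 m1) (hfx e e0 e1) hm
      (fun h => e2 (σ.symm.injective h)) fun h => em (σ.symm.injective h)
  push Not at hrest
  obtain ⟨k, hki, hkj, hk⟩ := hrest
  have hfk : f (f k) = k := (hf k).2.2.1
  have hli : f k ≠ i := fun e => hkj (by rw [← e, hfk])
  have hlj : f k ≠ f i := fun e => hki (by rw [← hfk, e, hfi])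
  have hinj : Function.Injective ![i, f i, k, f k] := by
    intro p q e
    fin_cases p <;> fin_cases q <;> simp at e ⊢ <;>
      first | exact hi e.symm | exact hi e | exact hki e | exact hki e.symm | exact hkj e | exact hkj e.symm |
        exact hk e | exact hk e.symm | exact hli e | exact hli e.symm | exact hlj e | exact hlj e.symm
  obtain ⟨σ, hσ, hσi⟩ := exists_even_tuple (n := 6) (k := 4) (by norm_num) hinj (ι' := ![0, 1, 2, 3]) (by decide)
  set a := σ.symm 4 with ha
  set b := σ.symm 5 with hb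
  have h0 : σ.symm 0 = i := σ.symm_apply_eq.2 (hσi 0).symm
  have h1 : σ.symm 1 = f i := σ.symm_apply_eq.2 (hσi 1).symm
  have h2' : σ.symm 2 = k := σ.symm_apply_eq.2 (hσi 2).symm
  have h3 : σ.symm 3 = f k := σ.symm_apply_eq.2 (hσi 3).symm
  have hall : ∀ z, z = i ∨ z = f i ∨ z = k ∨ z = f k ∨ z = a ∨ z = b := fun z => by
    obtain ⟨m, rfl⟩ : ∃ m, σ.symm m = z := σ.symm.surjective z
    fin_cases m
    · exact Or.inl h0
    · exact Or.inr (Or.inl h1)
    · exact Or.inr (Or.inr (Or.inl h2'))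
    · exact Or.inr (Or.inr (Or.inr (Or.inl h3)))
    · exact Or.inr (Or.inr (Or.inr (Or.inr (Or.inl rfl))))
    · exact Or.inr (Or.inr (Or.inr (Or.inr (Or.inr rfl))))
  have hd4 : ∀ m : Fin 6, m = 4 ∨ m = 5 → σ.symm m ≠ i ∧ σ.symm m ≠ f i ∧ σ.symm m ≠ k ∧ σ.symm m ≠ f k := by
    intro m hm
    refine ⟨fun e => ?_, fun e => ?_, fun e => ?_, fun e => ?_⟩
    · have := σ.symm.injective (e.trans h0.symm); subst this; revert hm; decide
    · have := σ.symm.injective (e.trans h1.symm); subst this; revert hm; decide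
    · have := σ.symm.injective (e.trans h2'.symm); subst this; revert hm; decide
    · have := σ.symm.injective (e.trans h3.symm); subst this; revert hm; decide
  obtain ⟨hai, haj, hak, hal⟩ : a ≠ i ∧ a ≠ f i ∧ a ≠ k ∧ a ≠ f k := hd4 4 (Or.inl rfl)
  obtain ⟨hbi, hbj, hbk, hbl⟩ : b ≠ i ∧ b ≠ f i ∧ b ≠ k ∧ b ≠ f k := hd4 5 (Or.inr rfl)
  have hab : a ≠ b := fun e => absurd (σ.symm.injective e) (by decide)
  have hp : ∏ m, s m = s a * s b := by
    rw [hprod σ, Fin.prod_univ_six, h0, h1, h2', h3, hsf, hsf, hsq, one_mul, mul_assoc, hsq, one_mul]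
  have hfa : f a = a ∨ f a = b := by
    rcases hall (f a) with e | e | e | e | e | e
    · exact absurd ((hf a).2.2.1.symm.trans (congrArg f e)) haj
    · exact absurd (((hf a).2.2.1.symm.trans (congrArg f e)).trans hfi) hai
    · exact absurd ((hf a).2.2.1.symm.trans (congrArg f e)) hal
    · exact absurd (((hf a).2.2.1.symm.trans (congrArg f e)).trans hfk) hak
    · exact Or.inl e
    · exact Or.inr e
  rcases hfa with fa | fa
  swap
  · exfalso
    have fb : f b = a := by rw [← fa, (hf a).2.2.1]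
    have hswap : fp = Equiv.swap i (f i) * Equiv.swap k (f k) * Equiv.swap a b := Equiv.ext fun z => by
      show f z = _
      rcases hall z with e | e | e | e | e | e <;> rw [e, Equiv.Perm.mul_apply, Equiv.Perm.mul_apply]
      · rw [Equiv.swap_apply_of_ne_of_ne (Ne.symm hai) (Ne.symm hbi),
          Equiv.swap_apply_of_ne_of_ne (Ne.symm hki) (Ne.symm hli), Equiv.swap_apply_left]
      · rw [Equiv.swap_apply_of_ne_of_ne (Ne.symm haj) (Ne.symm hbj),
          Equiv.swap_apply_of_ne_of_ne (Ne.symm hkj) (Ne.symm hlj), Equiv.swap_apply_right, hfi]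
      · rw [Equiv.swap_apply_of_ne_of_ne (Ne.symm hak) (Ne.symm hbk), Equiv.swap_apply_left,
          Equiv.swap_apply_of_ne_of_ne hli hlj]
      · rw [Equiv.swap_apply_of_ne_of_ne (Ne.symm hal) (Ne.symm hbl), Equiv.swap_apply_right,
          Equiv.swap_apply_of_ne_of_ne hki hkj, hfk]
      · rw [Equiv.swap_apply_left, Equiv.swap_apply_of_ne_of_ne hbk hbl, Equiv.swap_apply_of_ne_of_ne hbi hbj, fa]
      · rw [Equiv.swap_apply_right, Equiv.swap_apply_of_ne_of_ne hak hal, Equiv.swap_apply_of_ne_of_ne hai haj, fb]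
    have hsb : s b = s a := by rw [← fa, hsf]
    rw [hswap, map_mul, map_mul, Equiv.Perm.sign_swap (Ne.symm hi), Equiv.Perm.sign_swap (Ne.symm hk),
      Equiv.Perm.sign_swap hab, hp, hsb, hsq] at hdet
    simp at hdet
    exact h2 (by linear_combination -hdet)
  have fb : f b = b := by
    rcases hall (f b) with e | e | e | e | e | e
    · exact absurd ((hf b).2.2.1.symm.trans (congrArg f e)) hbj
    · exact absurd (((hf b).2.2.1.symm.trans (congrArg f e)).trans hfi) hbi
    · exact absurd ((hf b).2.2.1.symm.trans (congrArg f e)) hbl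
    · exact absurd (((hf b).2.2.1.symm.trans (congrArg f e)).trans hfk) hbk
    · exact absurd (((hf b).2.2.1.symm.trans (congrArg f e)).trans fa) (Ne.symm hab)
    · exact e
  by_cases hsab : s a = s b
  swap
  · exfalso
    have hswap : fp = Equiv.swap i (f i) * Equiv.swap k (f k) := Equiv.ext fun z => by
      show f z = _
      rcases hall z with e | e | e | e | e | e <;> rw [e, Equiv.Perm.mul_apply]
      · rw [Equiv.swap_apply_of_ne_of_ne (Ne.symm hki) (Ne.symm hli), Equiv.swap_apply_left]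
      · rw [Equiv.swap_apply_of_ne_of_ne (Ne.symm hkj) (Ne.symm hlj), Equiv.swap_apply_right, hfi]
      · rw [Equiv.swap_apply_left, Equiv.swap_apply_of_ne_of_ne hli hlj]
      · rw [Equiv.swap_apply_right, Equiv.swap_apply_of_ne_of_ne hki hkj, hfk]
      · rw [Equiv.swap_apply_of_ne_of_ne hak hal, Equiv.swap_apply_of_ne_of_ne hai haj, fa]
      · rw [Equiv.swap_apply_of_ne_of_ne hbk hbl, Equiv.swap_apply_of_ne_of_ne hbi hbj, fb]
    rw [hswap, map_mul, Equiv.Perm.sign_swap (Ne.symm hi), Equiv.Perm.sign_swap (Ne.symm hk), hp,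
      hne a b hsab, neg_mul (s b), hsq] at hdet
    simp at hdet
    exact h2 (by linear_combination -hdet)
  -- the plane of the opposite sign
  set τ := s a with hτ
  have hττ : τ * τ = 1 := hsq a
  have hS : ∀ m, τ * s m = 1 ∨ τ * s m = -1 := fun m => by
    rcases (hf a).1 with e | e <;> rcases (hf m).1 with e' | e' <;> rw [hτ, e, e'] <;> simp
  obtain ⟨h, hh, hhm, hval, hout⟩ := exists_canon O hinj (hS i) (hS k)
  have hvec : ∀ m : Fin 6, f m ≠ m → m ≠ a → m ≠ b → f m ≠ a → f m ≠ b →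
      x⁻¹.1 (sd m (f m) (-(τ * s m)) : V) a = 0 ∧ x⁻¹.1 (sd m (f m) (-(τ * s m)) : V) b = 0 := by
    intro m hm hma hmb hfa hfb
    have hwq : w.1 (sd m (f m) (-(τ * s m)) : V) = -τ • sd m (f m) (-(τ * s m)) := funext fun l => by
      rw [(hf l).2.2.2, sd_apply, Pi.smul_apply, smul_eq_mul, sd_apply]
      by_cases lm : l = m
      · subst lm
        rw [if_neg hm, if_pos rfl, if_pos rfl, if_neg (Ne.symm hm)]
        linear_combination -τ * hsq l
      by_cases lf : l = f m
      · subst lf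
        rw [(hf m).2.2.1, if_pos rfl, if_neg (Ne.symm hm), if_neg hm, if_pos rfl, hsf]
        linear_combination -s m * hττ
      have e1 : f l ≠ m := fun e => lf (by rw [← e, (hf l).2.2.1])
      have e2 : f l ≠ f m := fun e => lm (by rw [← (hf l).2.2.1, e, (hf m).2.2.1])
      rw [if_neg e1, if_neg e2, if_neg lm, if_neg lf]
      ring
    set q := (sd m (f m) (-(τ * s m)) : V) with hq
    have hv : w.1 (x⁻¹.1 q) = -τ • x⁻¹.1 q := by
      rw [← map_smul, ← hwq, ← mul_app, ← mul_app]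
      congr 2
      rw [eq_inv_mul_iff_mul_eq, ← mul_assoc, hc, mul_assoc, mul_inv_cancel, mul_one]
    have key : ∀ c, f c = c → s c = τ → x⁻¹.1 q c = 0 := fun c fc sc => by
      have e := congrFun hv c
      rw [(hf c).2.2.2, fc, sc, Pi.smul_apply, smul_eq_mul] at e
      exact (mul_eq_zero.1 (show (2 * τ) * x⁻¹.1 q c = 0 by linear_combination e)).resolve_left
        (mul_ne_zero h2 fun e0 => by rw [e0, zero_mul] at hττ; exact zero_ne_one hττ)
    exact ⟨key a fa rfl, key b fb hsab.symm⟩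
  have hqi := hvec i hi (Ne.symm hai) (Ne.symm hbi) (Ne.symm haj) (Ne.symm hbj)
  have hqk := hvec k hk (Ne.symm hak) (Ne.symm hbk) (Ne.symm hal) (Ne.symm hbl)
  have hzero : ∀ v : V, v a = 0 ∧ v b = 0 → h.1 v 4 = 0 ∧ h.1 v 5 = 0 := fun v ⟨va, vb⟩ =>
    (hout v).2 fun m n1 n2 n3 n4 => by
      rcases hall m with rfl | rfl | rfl | rfl | rfl | rfl
      · exact absurd rfl n1
      · exact absurd rfl n2
      · exact absurd rfl n3
      · exact absurd rfl n4
      · exact va
      · exact vb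
  have hsq' : ∀ m, τ * s m * (τ * s m) = 1 := fun m => by
    linear_combination (s m * s m) * hττ + hsq m
  have himg : h.1 (sd i (f i) (-(τ * s i)) : V) = sd 0 1 (-1) ∧
      h.1 (sd k (f k) (-(τ * s k)) : V) = sd 2 3 (-1) := by
    constructor <;> funext m
    · obtain ⟨e0, e1, e2, e3⟩ := hval (sd i (f i) (-(τ * s i)) : V)
      obtain ⟨e4, e5⟩ := hzero (sd i (f i) (-(τ * s i)) : V) ⟨by simp [sd_apply, hai, haj], by simp [sd_apply, hbi, hbj]⟩
      fin_cases m
      · refine e0.trans ?_; simp [sd_apply, Ne.symm hi]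
      · refine e1.trans ?_; simp [sd_apply, hi, mul_comm]; linear_combination hsq' i
      · refine e2.trans ?_; simp [sd_apply, hki, hkj]
      · refine e3.trans ?_; simp [sd_apply, hli, hlj]
      · exact e4.trans (by simp [sd_apply])
      · exact e5.trans (by simp [sd_apply])
    · obtain ⟨e0, e1, e2, e3⟩ := hval (sd k (f k) (-(τ * s k)) : V)
      obtain ⟨e4, e5⟩ := hzero (sd k (f k) (-(τ * s k)) : V) ⟨by simp [sd_apply, hak, hal], by simp [sd_apply, hbk, hbl]⟩
      fin_cases m
      · refine e0.trans ?_; simp [sd_apply, Ne.symm hki, Ne.symm hli]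
      · refine e1.trans ?_; simp [sd_apply, Ne.symm hkj, Ne.symm hlj]
      · refine e2.trans ?_; simp [sd_apply, Ne.symm hk]
      · refine e3.trans ?_; simp [sd_apply, hk, mul_comm]; linear_combination hsq' k
      · exact e4.trans (by simp [sd_apply])
      · exact e5.trans (by simp [sd_apply])
  have hy : Mono (h * x * h⁻¹) := by
    have hinv : ∀ v : V, (h * x * h⁻¹)⁻¹.1 (h.1 v) = h.1 (x⁻¹.1 v) := fun v => by
      rw [show (h * x * h⁻¹)⁻¹ = h * x⁻¹ * h⁻¹ by group, mul_app, mul_app, inv_map]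
    refine mono_of_plane O hstar (mul_mem (mul_mem hh hx) (inv_mem hh)) ?_ ?_
    · rw [← himg.1, hinv]
      exact hzero _ hqi
    · rw [← himg.2, hinv]
      exact hzero _ hqk
  have e := ((mono_inv hhm).mul hy).mul hhm
  rwa [show h⁻¹ * (h * x * h⁻¹) * h = x by group] at e

/-- An overgroup with an element outside the monomial group has one with a monomial column. -/
theorem exists_col_six (O : Ov G) {g : quadIso (Q1 F 6)} (hg : g ∈ G) (hgm : ¬ Mono g) :
    ∃ y ∈ G, ¬ Mono y ∧ ∃ i, IsE (y.1 (ee i : V)) := by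
  classical
  by_contra hh
  have hstar : Star G := fun y hy hc => by
    by_contra hm
    exact hh ⟨y, hy, hm, hc⟩
  have h2 := O.two
  have hm1 : (-1 : F) * -1 = 1 := by ring
  set x := g * (rf (ee 4 : V) * rf (ee 5)) * g⁻¹ with hx
  have hxG : x ∈ G := mul_mem (mul_mem hg (O.pair_ee (by norm_num) 4 5)) (inv_mem hg)
  have hxm : ¬ Mono x := fun h =>
    hgm (mono_of_pair O hstar hg (show (4 : Fin 6) ≠ 5 by decide) (by rw [← conj_pair]; exact h))
  have hxx : x * x = 1 := by
    rw [hx, conj_pair]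
    exact pair_sq h2 (by rw [norm_image h2 g 4]; exact one_ne_zero) (image_orth h2 g (by decide))
  set t := rf (sd 0 1 (-1) : V) * rf (sd 2 3 (-1)) with ht
  have htG : t ∈ G := sd_pair_mem O (by decide) (by decide) hm1 hm1
  have htv : ∀ v : V, t.1 v = ![v 1, v 0, v 3, v 2, v 4, v 5] := fun v => funext fun m => by
    rw [ht, sdp_apply h2 (by decide) (by decide) hm1 hm1 (by decide) (by decide) (by decide) (by decide)]
    fin_cases m <;> simp
  have htt : t * t = 1 := ext_iso fun v => funext fun m => by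
    rw [mul_app, htv, htv]
    fin_cases m <;> simp <;> rfl
  have hcl : Subgroup.closure ({t, x} : Set (quadIso (Q1 F 6))) ≤ G := (Subgroup.closure_le _).2 (by
    rintro _ (rfl | rfl)
    · exact htG
    · exact hxG)
  rcases Nat.even_or_odd (orderOf (t * x)) with ⟨m, hm⟩ | hodd
  swap
  · obtain ⟨h, hh', hht⟩ := dihedral_odd htt hxx hodd
    refine no_conj O hstar (mul_mem (hcl hh') hg)
      ((mono_rf_sd h2 (by decide) hm1).mul (mono_rf_sd h2 (by decide) hm1)) (w := t) ?_ fun j => ?_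
    · rw [← hht, hx]
      group
    · rw [htv]
      fin_cases j <;> simp [ee_apply] <;> exact fun e => h2 (by linear_combination e)
  rw [← two_mul] at hm
  have hmpos : 0 < m := by have := orderOf_pos (t * x); omega
  obtain ⟨hw1, hww, hwt, hwx⟩ := dihedral_even htt hxx hm hmpos
  have hwG : (t * x) ^ m ∈ G := pow_mem (mul_mem htG hxG) m
  set w := (t * x) ^ m with hw
  have hwi : w⁻¹ = w := inv_eq_of_mul_eq_one_right hww
  have hpl : ∀ p : V, t.1 p = -p → w⁻¹.1 p 4 = 0 ∧ w⁻¹.1 p 5 = 0 := fun p hp => by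
    have e : t.1 (w⁻¹.1 p) = -w⁻¹.1 p := by
      rw [hwi, ← mul_app, hwt, mul_app, hp, map_neg]
    have e4 := congrFun e 4
    have e5 := congrFun e 5
    rw [htv] at e4 e5
    simp at e4 e5
    constructor
    · exact (mul_eq_zero.1 (show (2 : F) * w⁻¹.1 p 4 = 0 by linear_combination e4)).resolve_left h2
    · exact (mul_eq_zero.1 (show (2 : F) * w⁻¹.1 p 5 = 0 by linear_combination e5)).resolve_left h2
  have hwm : Mono w := mono_of_plane O hstar hwG
    (hpl _ (funext fun m => by rw [htv]; fin_cases m <;> simp [sd_apply]))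
    (hpl _ (funext fun m => by rw [htv]; fin_cases m <;> simp [sd_apply]))
  -- a common fixed vector
  let L : V →ₗ[F] (Fin 4 → F) :=
    { toFun := fun v i => (![sd 0 1 (-1), sd 2 3 (-1), g.1 (ee 4), g.1 (ee 5)] : Fin 4 → V) i ⬝ᵥ v
      map_add' := fun a b => funext fun i => dotProduct_add _ _ _
      map_smul' := fun c a => funext fun i => by simp [dotProduct_smul] }
  obtain ⟨ξ, hξL, hξ⟩ := Submodule.exists_mem_ne_zero_of_ne_bot
    (LinearMap.ker_ne_bot_of_finrank_lt (f := L) (by simp))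
  have hdotξ : ∀ i, (![sd 0 1 (-1), sd 2 3 (-1), g.1 (ee 4), g.1 (ee 5)] : Fin 4 → V) i ⬝ᵥ ξ = 0 :=
    fun i => congrFun (LinearMap.mem_ker.1 hξL) i
  have htξ : t.1 ξ = ξ := by
    have k0 : (sd 0 1 (-1) : V) ⬝ᵥ ξ = 0 := hdotξ 0
    have k1 : (sd 2 3 (-1) : V) ⬝ᵥ ξ = 0 := hdotξ 1
    rw [ht, mul_app, rf_perp (by rw [sd_norm (by decide) hm1]; exact h2) k1,
      rf_perp (by rw [sd_norm (by decide) hm1]; exact h2) k0]
  have hxξ : x.1 ξ = ξ := by
    have k2 : g.1 (ee 4 : V) ⬝ᵥ ξ = 0 := hdotξ 2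
    have k3 : g.1 (ee 5 : V) ⬝ᵥ ξ = 0 := hdotξ 3
    rw [hx, conj_pair, mul_app, rf_perp (by rw [norm_image h2 g 5]; exact one_ne_zero) k3,
      rf_perp (by rw [norm_image h2 g 4]; exact one_ne_zero) k2]
  have hwξ : w.1 ξ = ξ := by
    rw [hw]
    clear * - htξ hxξ
    induction m with
    | zero => rfl
    | succ m ih => rw [pow_succ, mul_app, mul_app t, hxξ, htξ, ih]
  exact hxm (mono_of_invol O hstar hxG hwG hwm hww hw1 hξ hwξ hwx)

/-- An overgroup with an element outside the monomial group contains the derived group. -/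
theorem overgroup_top_six' (O : Ov G) (hp : (Fintype.card F).Prime) {g : quadIso (Q1 F 6)} (hg : g ∈ G)
    (hgm : ¬ Mono g) : commutator (quadIso (Q1 F 6)) ≤ G := by
  classical
  have hn : 5 ≤ 6 := by norm_num
  refine le_of_gam_all O hn hp ?_
  obtain ⟨y, hy, hym, i, hi⟩ := exists_col_six O hg hgm
  obtain ⟨v0, hv0, h30, hlt0⟩ := exists_weight O hn hy hym hi
  have hex : ∃ k, 3 ≤ k ∧ ∃ v, Gam G v ∧ (supp v).card = k := ⟨_, h30, v0, hv0, rfl⟩
  obtain ⟨h3s, v, hv, hvs⟩ := Nat.find_spec hex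
  have hmin : ∀ u, Gam G u → 3 ≤ (supp u).card → Nat.find hex ≤ (supp u).card := fun u hu h =>
    Nat.find_min' hex ⟨h, u, hu, rfl⟩
  rcases lt_or_ge 4 (Nat.find hex) with h5 | h5
  · exact (no_large O le_rfl (sq_of_three hp) hmin h5 hv hvs ((hmin v0 hv0 h30).trans_lt hlt0)).elim
  rcases eq_or_ne (Nat.find hex) 4 with h4 | h4
  · by_cases h3 : (3 : F) = 0
    · exact gam_all_of_four O le_rfl h3 (sq_of_three hp h3) hv (hvs.trans h4)
    · exact (no_four O hn h3 (h4 ▸ hmin) hv (hvs.trans h4)).elim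
  have hs3 : (supp v).card = 3 := by omega
  have h3 : (3 : F) ≠ 0 := fun h3 => by
    have h1 := hv.1
    rw [dot_eq_sum (Finset.Subset.refl _), Finset.sum_congr rfl fun k hk =>
      sq_of_three hp h3 (v k) (mem_supp.1 hk), Finset.sum_const, hs3, nsmul_eq_mul, mul_one] at h1
    push_cast at h1
    rw [h3] at h1
    exact zero_ne_one h1
  exact gam_all_of_three O hn h3 (hcast_of_prime hp) hv hs3

end CfsgLib.MaxSub.Frame.Six

namespace CfsgLib.MaxSub.Frame

open QuadraticMap CfsgLib.WittExtension CfsgLib.SpinorNorm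

/-- An overgroup with an element outside the monomial group contains the derived group. -/
theorem overgroup_top_six {F : Type*} [Field F] [Fintype F] {G : Subgroup (quadIso (Q1 F 6))} (O : Ov G)
    (hp : (Fintype.card F).Prime) {g : quadIso (Q1 F 6)} (hg : g ∈ G) (hgm : ¬ Mono g) :
    commutator (quadIso (Q1 F 6)) ≤ G :=
  Six.overgroup_top_six' O hp hg hgm

end CfsgLib.MaxSub.Frame
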