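import Cfsg.Agent.Lib.SpinorMatrix
import Cfsg.Agent.Lib.OmegaSimple

/-!
Orthogonal frames, part 1: the standard form, reflections, signed permutations and the reflection set of a
subgroup.
-/

set_option autoImplicit false
set_option linter.unusedSectionVars false
set_option maxHeartbeats 400000

namespace CfsgLib.MaxSub.Frame

open QuadraticMap CfsgLib.WittExtension CfsgLib.SpinorNorm Module

variable {F : Type*} [Field F] {n : ℕ}

local notation "V" => Fin n → F

variable (F n) in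
/-- The sum of squares. -/
noncomputable def Q1 : QuadraticForm F (Fin n → F) := QuadraticMap.weightedSumSquares F (fun _ : Fin n => (1 : F))

theorem Q1_apply (x : V) : Q1 F n x = x ⬝ᵥ x := by
  simp [Q1, QuadraticMap.weightedSumSquares_apply, dotProduct]

theorem polar_Q1 (x y : V) : polar (Q1 F n) x y = 2 * (x ⬝ᵥ y) := by
  simp only [polar, Q1_apply, add_dotProduct, dotProduct_add, dotProduct_comm y x]
  ring

theorem nondeg (h2 : (2 : F) ≠ 0) : (polarBilin (Q1 F n)).Nondegenerate := by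
  have key : ∀ x : V, (∀ y, polar (Q1 F n) x y = 0) → x = 0 := fun x h => funext fun i => by
    have h1 := h (Pi.single i 1)
    rw [polar_Q1, dotProduct_single, mul_one, mul_eq_zero] at h1
    exact h1.resolve_left h2
  exact ⟨key, fun y h => key y fun x => by rw [polar_comm]; exact h x⟩

theorem dot_map (g : quadIso (Q1 F n)) (h2 : (2 : F) ≠ 0) (x y : V) : g.1 x ⬝ᵥ g.1 y = x ⬝ᵥ y := by
  have h := OrthOrder.polar_map g.2 x y
  rw [polar_Q1, polar_Q1] at h
  exact mul_left_cancel₀ h2 h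

theorem ext_iso {g g' : quadIso (Q1 F n)} (h : ∀ x, g.1 x = g'.1 x) : g = g' :=
  Subtype.ext (LinearEquiv.ext h)

theorem ext_std {g g' : quadIso (Q1 F n)} (h : ∀ i, g.1 (Pi.single i 1) = g'.1 (Pi.single i 1)) : g = g' :=
  Subtype.ext (LinearEquiv.toLinearMap_injective (LinearMap.pi_ext' fun i => LinearMap.ext_ring (h i)))

open Classical in
/-- The reflection in a vector, the identity for a singular one. -/
noncomputable def rf (v : V) : quadIso (Q1 F n) :=
  if h : Q1 F n v ≠ 0 then refl (Q1 F n) h else 1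

theorem rf_eq {v : V} (h : Q1 F n v ≠ 0) : rf v = refl (Q1 F n) h := dif_pos h

theorem rf_apply {v : V} (h : v ⬝ᵥ v ≠ 0) (x : V) :
    (rf v).1 x = x - (2 * (v ⬝ᵥ x) / (v ⬝ᵥ v)) • v := by
  have h' : Q1 F n v ≠ 0 := by rwa [Q1_apply]
  rw [rf_eq h', refl_apply, polar_Q1, Q1_apply, sub_eq_add_neg, neg_smul, div_eq_inv_mul]

theorem rf_mul_self (v : V) : rf v * rf v = 1 := by
  unfold rf
  split_ifs with h
  · exact refl_mul_self _ h
  · exact one_mul 1

theorem rf_inv (v : V) : (rf v)⁻¹ = rf v := inv_eq_of_mul_eq_one_right (rf_mul_self v)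

theorem rf_conj (g : quadIso (Q1 F n)) (v : V) : g * rf v * g⁻¹ = rf (g.1 v) := by
  by_cases h : Q1 F n v ≠ 0
  · have h' : Q1 F n (g.1 v) ≠ 0 := by rw [g.2]; exact h
    rw [rf_eq h, rf_eq h']
    exact Eichler.conj_refl _ g h h'
  · have h' : ¬ Q1 F n (g.1 v) ≠ 0 := by rw [g.2]; exact h
    rw [rf, rf, dif_neg h, dif_neg h', mul_one, mul_inv_cancel]

theorem rf_perp {v x : V} (h : v ⬝ᵥ v ≠ 0) (hx : v ⬝ᵥ x = 0) : (rf v).1 x = x := by
  rw [rf_apply h, hx]
  simp

theorem rf_self {v : V} (h : v ⬝ᵥ v ≠ 0) : (rf v).1 v = -v := by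
  rw [rf_apply h, mul_div_assoc, div_self h, mul_one]
  module

theorem rf_smul {v : V} (h : v ⬝ᵥ v ≠ 0) {s : F} (hs : s ≠ 0) : rf (s • v) = rf v := by
  refine ext_iso fun x => ?_
  have h' : (s • v) ⬝ᵥ (s • v) ≠ 0 := by
    simp only [smul_dotProduct, dotProduct_smul, smul_eq_mul]
    exact mul_ne_zero hs (mul_ne_zero hs h)
  rw [rf_apply h', rf_apply h, smul_smul]
  simp only [smul_dotProduct, dotProduct_smul, smul_eq_mul]
  congr 2
  field_simp

theorem rf_neg {v : V} (h : v ⬝ᵥ v ≠ 0) : rf (-v) = rf v := by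
  rw [← neg_one_smul F v, rf_smul h (neg_ne_zero.2 one_ne_zero)]

/-- The basis vectors. -/
def ee (i : Fin n) : V := Pi.single i 1

theorem ee_apply (i j : Fin n) : (ee i : V) j = if j = i then 1 else 0 := by
  simp [ee, Pi.single_apply]

theorem ee_self (i : Fin n) : (ee i : V) i = 1 := by simp [ee]

theorem ee_ne {i j : Fin n} (h : j ≠ i) : (ee i : V) j = 0 := by simp [ee, h]

theorem ee_dot (i : Fin n) (x : V) : ee i ⬝ᵥ x = x i := by simp [ee]

theorem dot_ee (i : Fin n) (x : V) : x ⬝ᵥ ee i = x i := by simp [ee]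

theorem ee_norm (i : Fin n) : (ee i : V) ⬝ᵥ ee i = 1 := by rw [ee_dot, ee_self]

theorem rf_ee_apply (i j : Fin n) (x : V) : (rf (ee i : V)).1 x j = if j = i then -x j else x j := by
  rw [rf_apply (by rw [ee_norm]; exact one_ne_zero), ee_norm, ee_dot]
  simp only [Pi.sub_apply, Pi.smul_apply, smul_eq_mul, ee_apply]
  split_ifs with h
  · subst h; ring
  · ring

/-- A difference of two basis vectors. -/
def dd (i j : Fin n) : V := ee i - ee j

theorem diff_norm {i j : Fin n} (hij : i ≠ j) : (dd i j : V) ⬝ᵥ dd i j = 2 := by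
  rw [dd, sub_dotProduct, ee_dot, ee_dot]
  simp [ee_apply, hij, hij.symm]
  norm_num

theorem rf_swap (h2 : (2 : F) ≠ 0) {i j : Fin n} (hij : i ≠ j) (x : V) (k : Fin n) :
    (rf (dd i j : V)).1 x k = x (Equiv.swap i j k) := by
  rw [rf_apply (by rw [diff_norm hij]; exact h2), diff_norm hij, dd, sub_dotProduct, ee_dot, ee_dot]
  simp only [Pi.sub_apply, Pi.smul_apply, smul_eq_mul, ee_apply]
  rcases eq_or_ne k i with rfl | hki
  · rw [Equiv.swap_apply_left, if_pos rfl, if_neg hij]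
    field_simp
    ring
  rcases eq_or_ne k j with rfl | hkj
  · rw [Equiv.swap_apply_right, if_neg hki, if_pos rfl]
    field_simp
    ring
  rw [Equiv.swap_apply_of_ne_of_ne hki hkj, if_neg hki, if_neg hkj]
  ring

/-- A basis vector or its negative. -/
def IsE (v : V) : Prop := ∃ j, v = ee j ∨ v = -ee j

/-- Monomial isometries. -/
def Mono (g : quadIso (Q1 F n)) : Prop := ∀ i, IsE (g.1 (ee i))

/-- The support of a vector. -/
noncomputable def supp (v : V) : Finset (Fin n) := by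
  classical exact Finset.univ.filter fun i => v i ≠ 0

theorem mem_supp {v : V} {i : Fin n} : i ∈ supp v ↔ v i ≠ 0 := by simp [supp]

theorem notMem_supp {v : V} {i : Fin n} : i ∉ supp v ↔ v i = 0 := by simp [supp]

theorem dot_eq_sum {v : V} {s : Finset (Fin n)} (hs : supp v ⊆ s) (w : V) :
    v ⬝ᵥ w = ∑ i ∈ s, v i * w i := by
  refine (Finset.sum_subset (Finset.subset_univ s) fun i _ hi => ?_).symm
  rw [notMem_supp.1 fun h => hi (hs h), zero_mul]

theorem IsE.card_supp {v : V} (h : IsE v) : (supp v).card = 1 := by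
  obtain ⟨j, hj⟩ := h
  refine Finset.card_eq_one.2 ⟨j, Finset.ext fun i => ?_⟩
  rw [mem_supp, Finset.mem_singleton]
  rcases hj with rfl | rfl <;> by_cases hij : i = j <;> simp [ee_apply, hij]

theorem isE_of_card {v : V} (hv : v ⬝ᵥ v = 1) (h : (supp v).card ≤ 1) : IsE v := by
  obtain ⟨j, hj⟩ : ∃ j, v j ≠ 0 := by
    by_contra hh
    push Not at hh
    rw [show v = 0 from funext hh, zero_dotProduct] at hv
    exact zero_ne_one hv
  have hz : ∀ i, i ≠ j → v i = 0 := fun i hi => by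
    by_contra hne
    exact hi (Finset.card_le_one.1 h i (mem_supp.2 hne) j (mem_supp.2 hj))
  rw [dotProduct, Finset.sum_eq_single j (fun i _ hi => by rw [hz i hi, zero_mul])
    (fun hh => absurd (Finset.mem_univ j) hh), mul_self_eq_one_iff] at hv
  refine ⟨j, hv.imp (fun h1 => ?_) (fun h1 => ?_)⟩ <;> funext i <;> by_cases hi : i = j
  · subst hi; rw [h1, ee_self]
  · rw [hz i hi, ee_ne hi]
  · subst hi; simp [h1, ee_self]
  · simp [hz i hi, ee_ne hi]

theorem two_le_supp {v : V} (hv : v ⬝ᵥ v = 1) (h : ¬ IsE v) : 2 ≤ (supp v).card := by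
  by_contra hh
  exact h (isE_of_card hv (by omega))

theorem norm_image (h2 : (2 : F) ≠ 0) (g : quadIso (Q1 F n)) (i : Fin n) :
    g.1 (ee i : V) ⬝ᵥ g.1 (ee i) = 1 := by
  rw [dot_map g h2, ee_norm]

theorem IsE.map {v : V} (h : IsE v) {g : quadIso (Q1 F n)} (hg : Mono g) : IsE (g.1 v) := by
  obtain ⟨j, hj⟩ := h
  obtain ⟨k, hk⟩ := hg j
  rcases hj with rfl | rfl
  · exact ⟨k, hk⟩
  · refine ⟨k, ?_⟩
    rw [map_neg]
    rcases hk with e | e <;> rw [e] <;> simp

theorem Mono.mul {g h : quadIso (Q1 F n)} (hg : Mono g) (hh : Mono h) : Mono (g * h) :=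
  fun i => (hh i).map hg

theorem mono_one : Mono (1 : quadIso (Q1 F n)) := fun i => ⟨i, Or.inl rfl⟩

theorem mono_rf_ee (i : Fin n) : Mono (rf (ee i : V)) := fun j => by
  refine ⟨j, ?_⟩
  by_cases h : j = i
  · subst h
    exact Or.inr (rf_self (by rw [ee_norm]; exact one_ne_zero))
  · refine Or.inl (rf_perp (by rw [ee_norm]; exact one_ne_zero) ?_)
    rw [ee_dot, ee_ne (Ne.symm h)]

theorem rf_swap_ee (h2 : (2 : F) ≠ 0) {i j : Fin n} (hij : i ≠ j) (k : Fin n) :
    (rf (dd i j : V)).1 (ee k) = ee (Equiv.swap i j k) := by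
  funext l
  rw [rf_swap h2 hij, ee_apply, ee_apply]
  exact if_congr Equiv.swap_apply_eq_iff rfl rfl

theorem mono_rf_swap (h2 : (2 : F) ≠ 0) {i j : Fin n} (hij : i ≠ j) : Mono (rf (dd i j : V)) :=
  fun k => ⟨_, Or.inl (rf_swap_ee h2 hij k)⟩

theorem perm_apply {g : quadIso (Q1 F n)} {σ : Equiv.Perm (Fin n)}
    (hg : ∀ i, g.1 (ee i) = ee (σ i)) (x : V) (i : Fin n) : g.1 x (σ i) = x i := by
  conv_lhs => rw [pi_eq_sum_univ' x]
  rw [map_sum, Finset.sum_apply, Finset.sum_eq_single i]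
  · rw [map_smul, Pi.smul_apply, smul_eq_mul]
    show x i * g.1 (ee i) (σ i) = x i
    rw [hg, ee_self, mul_one]
  · intro k _ hk
    rw [map_smul, Pi.smul_apply, smul_eq_mul]
    show x k * g.1 (ee k) (σ i) = 0
    rw [hg, ee_ne fun e => hk (σ.injective e).symm, mul_zero]
  · exact fun h => absurd (Finset.mem_univ i) h

section finite

variable [Fintype F]

instance instFiniteIso : Finite (quadIso (Q1 F n)) :=
  Finite.of_injective (fun g => ((g.1 : V ≃ₗ[F] V) : V → V)) fun a b h => Subtype.ext (DFunLike.coe_injective h)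

/-- The derived group contains pairs of reflections of equal norm. -/
theorem pair_mem (h2 : (2 : F) ≠ 0) (hn : 5 ≤ n) {u v : V} (hu : u ⬝ᵥ u ≠ 0) (huv : u ⬝ᵥ u = v ⬝ᵥ v) :
    rf u * rf v ∈ commutator (quadIso (Q1 F n)) := by
  have hu' : Q1 F n u ≠ 0 := by rwa [Q1_apply]
  have hv' : Q1 F n v ≠ 0 := by rwa [Q1_apply, ← huv]
  have hfr : 5 ≤ finrank F V := by simpa using hn
  obtain ⟨k, hk, hkv⟩ := OmegaSimple.transitive' (Q1 F n) (nondeg h2) hfr _
    (fun e w he0 he hew g hg => OmegaSimple.eich_mem (Q1 F n) (nondeg h2) hfr he0 he hew hg) hu'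
    (show Q1 F n u = Q1 F n v by rw [Q1_apply, Q1_apply, huv])
  rw [← OmegaSimple.commutator_eq (Q1 F n) (nondeg h2) hfr] at hk
  rw [← hkv, ← rf_conj k u, show rf u * (k * rf u * k⁻¹) = (rf u * k * (rf u)⁻¹) * k⁻¹ by
    rw [rf_inv]; group]
  exact mul_mem (Subgroup.Normal.conj_mem inferInstance k hk _) (inv_mem hk)

/-- The Dickson invariant. -/
theorem hclos (h2 : (2 : F) ≠ 0) : Subgroup.closure (Refl (Q1 F n)) = ⊤ :=
  SpinorMatrix.hc_odd (Q1 F n) h2 (nondeg h2)

/-- The Dickson homomorphism of the sum of squares. -/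
noncomputable def dk (h2 : (2 : F) ≠ 0) : quadIso (Q1 F n) →* ℤˣ :=
  dicksonHom (Q1 F n) (nondeg h2) (hclos h2)

theorem dk_rf (h2 : (2 : F) ≠ 0) {v : V} (hv : v ⬝ᵥ v ≠ 0) : dk h2 (rf v) = -1 := by
  rw [rf_eq (by rwa [Q1_apply])]
  exact dicksonHom_refl _ _ _ _

theorem dk_commutator (h2 : (2 : F) ≠ 0) {g : quadIso (Q1 F n)} (hg : g ∈ commutator (quadIso (Q1 F n))) :
    dk h2 g = 1 :=
  MonoidHom.mem_ker.1 (Abelianization.commutator_subset_ker _ hg)

theorem rf_notMem (h2 : (2 : F) ≠ 0) {v : V} (hv : v ⬝ᵥ v ≠ 0) :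
    rf v ∉ commutator (quadIso (Q1 F n)) := fun h => by
  have := dk_commutator h2 h
  rw [dk_rf h2 hv] at this
  exact absurd this (by decide)

end finite

/-- An overgroup of the monomial part of `Ω`. -/
structure Ov (G : Subgroup (quadIso (Q1 F n))) : Prop where
  two : (2 : F) ≠ 0
  le : G ≤ commutator (quadIso (Q1 F n))
  mono : ∀ g ∈ commutator (quadIso (Q1 F n)), Mono g → g ∈ G

/-- The vectors of norm one whose reflection times the first standard one is in the group. -/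
def Gam (G : Subgroup (quadIso (Q1 F n))) (v : V) : Prop :=
  v ⬝ᵥ v = 1 ∧ ∀ i, rf v * rf (ee i) ∈ G

variable [Fintype F] {G : Subgroup (quadIso (Q1 F n))}

theorem Ov.pair_ee (O : Ov G) (hn : 5 ≤ n) (i j : Fin n) : rf (ee i : V) * rf (ee j) ∈ G :=
  O.mono _ (pair_mem O.two hn (by rw [ee_norm]; exact one_ne_zero) (by rw [ee_norm, ee_norm]))
    ((mono_rf_ee i).mul (mono_rf_ee j))

theorem Ov.pair_swap (O : Ov G) (hn : 5 ≤ n) {i j k l : Fin n} (hij : i ≠ j) (hkl : k ≠ l) :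
    rf (dd i j : V) * rf (dd k l : V) ∈ G :=
  O.mono _ (pair_mem O.two hn (by rw [diff_norm hij]; exact O.two) (by rw [diff_norm hij, diff_norm hkl]))
    ((mono_rf_swap O.two hij).mul (mono_rf_swap O.two hkl))

theorem gam_of (O : Ov G) (hn : 5 ≤ n) {v : V} (hv : v ⬝ᵥ v = 1) (i : Fin n)
    (h : rf v * rf (ee i) ∈ G) : Gam G v :=
  ⟨hv, fun j => by
    have := mul_mem h (O.pair_ee hn i j)
    rwa [mul_assoc, ← mul_assoc (rf (ee i : V)), rf_mul_self, one_mul] at this⟩

theorem gam_ee (O : Ov G) (hn : 5 ≤ n) (i : Fin n) : Gam G (ee i) := ⟨ee_norm i, fun j => O.pair_ee hn i j⟩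

theorem Gam.pair_mem (hn : 0 < n) {u v : V} (hu : Gam G u) (hv : Gam G v) : rf u * rf v ∈ G := by
  have h := mul_mem (hu.2 ⟨0, hn⟩) (inv_mem (hv.2 ⟨0, hn⟩))
  rwa [mul_inv_rev, rf_inv, rf_inv, mul_assoc, ← mul_assoc (rf (ee ⟨0, hn⟩ : V)), rf_mul_self, one_mul] at h

theorem Gam.refl (O : Ov G) (hn : 5 ≤ n) {u v : V} (hu : Gam G u) (hv : Gam G v) : Gam G ((rf u).1 v) := by
  refine gam_of O hn (by rw [dot_map _ O.two]; exact hv.1) ⟨0, by omega⟩ ?_
  rw [← rf_conj (rf u) v, show rf u * rf v * (rf u)⁻¹ * rf (ee ⟨0, by omega⟩ : V) =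
    (rf u * rf v) * (rf u * rf (ee ⟨0, by omega⟩ : V)) by rw [rf_inv]; group]
  exact mul_mem (hu.pair_mem (by omega) hv) (hu.2 _)

theorem Gam.sign (O : Ov G) (hn : 5 ≤ n) (i : Fin n) {v : V} (hv : Gam G v) : Gam G ((rf (ee i : V)).1 v) :=
  (gam_ee O hn i).refl O hn hv

theorem rf_isE {w : V} (h : IsE w) : ∃ j, rf w = rf (ee j : V) := by
  obtain ⟨j, rfl | rfl⟩ := h
  · exact ⟨j, rfl⟩
  · exact ⟨j, rf_neg (by rw [ee_norm]; exact one_ne_zero)⟩

/-- An element of the group with a monomial column preserves the set. -/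
theorem Gam.map (O : Ov G) (hn : 5 ≤ n) {g : quadIso (Q1 F n)} (hg : g ∈ G) {i : Fin n}
    (hgi : IsE (g.1 (ee i))) {v : V} (hv : Gam G v) : Gam G (g.1 v) := by
  obtain ⟨j, hj⟩ := rf_isE hgi
  refine gam_of O hn (by rw [dot_map g O.two]; exact hv.1) j ?_
  rw [← hj, ← rf_conj g v, ← rf_conj g (ee i),
    show g * rf v * g⁻¹ * (g * rf (ee i) * g⁻¹) = g * (rf v * rf (ee i)) * g⁻¹ by group]
  exact mul_mem (mul_mem hg (hv.2 i)) (inv_mem hg)

/-- The permutation isometries. -/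
theorem exists_perm_iso (h2 : (2 : F) ≠ 0) (hn : 5 ≤ n) (σ : Equiv.Perm (Fin n)) :
    ∃ g : quadIso (Q1 F n), (∀ i, g.1 (ee i) = ee (σ i)) ∧ Mono g ∧
      ∀ i j : Fin n, i ≠ j →
        (Equiv.Perm.sign σ = 1 → g ∈ commutator (quadIso (Q1 F n))) ∧
        (Equiv.Perm.sign σ = -1 → g * rf (dd i j : V) ∈ commutator (quadIso (Q1 F n))) := by
  induction σ using Equiv.Perm.swap_induction_on with
  | one =>
    refine ⟨1, fun i => rfl, mono_one, fun i j _ => ⟨fun _ => one_mem _, fun h => ?_⟩⟩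
    rw [Equiv.Perm.sign_one] at h
    exact absurd h (by decide)
  | swap_mul f x y hxy ih =>
    obtain ⟨g, hg, hm, hmem⟩ := ih
    refine ⟨rf (dd x y : V) * g, fun i => ?_, (mono_rf_swap h2 hxy).mul hm, fun i j hij => ?_⟩
    · show (rf (dd x y : V)).1 (g.1 (ee i)) = _
      rw [hg, rf_swap_ee h2 hxy, Equiv.Perm.mul_apply]
    have hpair : ∀ a b : Fin n, a ≠ b → rf (dd x y : V) * rf (dd a b : V) ∈
        commutator (quadIso (Q1 F n)) := fun a b hab =>
      pair_mem h2 hn (by rw [diff_norm hxy]; exact h2) (by rw [diff_norm hxy, diff_norm hab])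
    rw [map_mul, Equiv.Perm.sign_swap hxy]
    rcases Int.units_eq_one_or (Equiv.Perm.sign f) with hf | hf <;> rw [hf]
    · refine ⟨fun h => absurd h (by decide), fun _ => ?_⟩
      have h1 := (hmem i j hij).1 hf
      rw [show rf (dd x y : V) * g * rf (dd i j : V) =
        (rf (dd x y : V) * g * (rf (dd x y : V))⁻¹) *
          (rf (dd x y : V) * rf (dd i j : V)) by rw [rf_inv]; simp [mul_assoc, ← mul_assoc (rf (dd x y : V)) (rf (dd x y : V)), rf_mul_self]]
      exact mul_mem (Subgroup.Normal.conj_mem inferInstance g h1 _) (hpair i j hij)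
    · refine ⟨fun _ => ?_, fun h => absurd h (by decide)⟩
      have h1 := (hmem x y hxy).2 hf
      have e : rf (dd x y : V) * g =
          rf (dd x y : V) * (g * rf (dd x y : V)) * (rf (dd x y : V))⁻¹ := by
        rw [mul_assoc, mul_assoc g, mul_inv_cancel, mul_one]
      rw [e]
      exact Subgroup.Normal.conj_mem inferInstance _ h1 _

/-- An even permutation in the group. -/
theorem Ov.exists_even (O : Ov G) (hn : 5 ≤ n) {σ : Equiv.Perm (Fin n)} (hσ : Equiv.Perm.sign σ = 1) :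
    ∃ g ∈ G, ∀ i, g.1 (ee i) = ee (σ i) := by
  obtain ⟨g, hg, hm, hmem⟩ := exists_perm_iso O.two hn σ
  exact ⟨g, O.mono g ((hmem ⟨0, by omega⟩ ⟨1, by omega⟩ (by simp)).1 hσ) hm, hg⟩

/-- The set is invariant under even permutations. -/
theorem Gam.perm (O : Ov G) (hn : 5 ≤ n) {σ : Equiv.Perm (Fin n)} (hσ : Equiv.Perm.sign σ = 1) {v : V}
    (hv : Gam G v) : Gam G fun i => v (σ.symm i) := by
  obtain ⟨g, hg, hgσ⟩ := O.exists_even hn hσ
  have h := hv.map O hn hg (i := ⟨0, by omega⟩) ⟨_, Or.inl (hgσ _)⟩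
  convert h using 1
  funext i
  rw [← perm_apply hgσ v (σ.symm i), Equiv.apply_symm_apply]

end CfsgLib.MaxSub.Frame
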