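import Cfsg.Agent.Lib.MaxSub.Frame.OddFirst

/-!
Orthogonal frames, part 5: the reflection set contains a vector of weight three (or four in characteristic
three).
-/

set_option autoImplicit false
set_option linter.unusedSectionVars false
set_option maxHeartbeats 400000

namespace CfsgLib.MaxSub.Frame

open QuadraticMap CfsgLib.WittExtension CfsgLib.SpinorNorm

variable {F : Type*} [Field F] [Fintype F] {n : ℕ} {G : Subgroup (quadIso (Q1 F n))}

local notation "V" => Fin n → F

theorem exists_even_map (hn : 5 ≤ n) {k l a i : Fin n} (hkl : k ≠ l) (hai : a ≠ i) :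
    ∃ σ : Equiv.Perm (Fin n), Equiv.Perm.sign σ = 1 ∧ σ k = a ∧ σ l = i := by
  classical
  set σ : Equiv.Perm (Fin n) := Equiv.swap (Equiv.swap k a l) i * Equiv.swap k a with hσ
  have hk : σ k = a := by
    rw [hσ, Equiv.Perm.mul_apply, Equiv.swap_apply_left, Equiv.swap_apply_of_ne_of_ne _ hai]
    intro e
    apply hkl
    have h := congrArg (Equiv.swap k a) e
    rwa [Equiv.swap_apply_right, Equiv.swap_apply_self] at h
  have hl : σ l = i := by rw [hσ, Equiv.Perm.mul_apply, Equiv.swap_apply_left]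
  rcases Int.units_eq_one_or (Equiv.Perm.sign σ) with hs | hs
  · exact ⟨σ, hs, hk, hl⟩
  obtain ⟨c, d, hc, hd, hcd⟩ := Finset.one_lt_card_iff.1 (show 1 < ({a, i} : Finset (Fin n))ᶜ.card by
    rw [Finset.card_compl, Fintype.card_fin, Finset.card_pair hai]; omega)
  simp only [Finset.mem_compl, Finset.mem_insert, Finset.mem_singleton, not_or] at hc hd
  refine ⟨Equiv.swap c d * σ, by rw [map_mul, hs, Equiv.Perm.sign_swap hcd]; rfl, ?_, ?_⟩
  · rw [Equiv.Perm.mul_apply, hk, Equiv.swap_apply_of_ne_of_ne (Ne.symm hc.1) (Ne.symm hd.1)]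
  · rw [Equiv.Perm.mul_apply, hl, Equiv.swap_apply_of_ne_of_ne (Ne.symm hc.2) (Ne.symm hd.2)]

/-- Vectors of weight two are invariant under changing their support. -/
theorem Gam.two (O : Ov G) (hn : 5 ≤ n) {k l a i : Fin n} (hkl : k ≠ l) (hai : a ≠ i) {v : V} (hv : Gam G v)
    (hs : supp v ⊆ {k, l}) : Gam G (v k • ee a + v l • ee i) := by
  obtain ⟨σ, hσ, hka, hli⟩ := exists_even_map hn hkl hai
  have h := hv.perm O hn hσ
  convert h using 1
  funext j
  simp only [Pi.add_apply, Pi.smul_apply, smul_eq_mul, ee_apply]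
  by_cases hja : j = a
  · subst hja
    rw [if_pos rfl, if_neg hai, ← hka, Equiv.symm_apply_apply]
    ring
  by_cases hji : j = i
  · subst hji
    rw [if_pos rfl, if_neg hja, ← hli, Equiv.symm_apply_apply]
    ring
  rw [if_neg hja, if_neg hji, mul_zero, mul_zero, add_zero, eq_comm]
  refine notMem_supp.1 fun h => ?_
  rcases Finset.mem_insert.1 (hs h) with e | e
  · exact hja (by rw [← hka, ← e, Equiv.apply_symm_apply])
  · exact hji (by rw [← hli, ← Finset.mem_singleton.1 e, Equiv.apply_symm_apply])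

theorem card_three_of {v : V} {i j k : Fin n} (hij : i ≠ j) (hik : i ≠ k) (hjk : j ≠ k) (hi : v i ≠ 0)
    (hj : v j ≠ 0) (hk : v k ≠ 0) (ho : ∀ l, l ≠ i → l ≠ j → l ≠ k → v l = 0) : (supp v).card = 3 := by
  rw [show supp v = {i, j, k} from ?_]
  · rw [Finset.card_insert_of_notMem (by simp [hij, hik]), Finset.card_pair hjk]
  ext l
  rw [mem_supp, Finset.mem_insert, Finset.mem_insert, Finset.mem_singleton]
  refine ⟨fun h => ?_, by rintro (rfl | rfl | rfl) <;> assumption⟩
  by_contra hh
  simp only [not_or] at hh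
  exact h (ho l hh.1 hh.2.1 hh.2.2)

/-- A plane rotation preserving the set gives weight three. -/
theorem plane_three (O : Ov G) (hn : 5 ≤ n) {w : quadIso (Q1 F n)} (hw : ∀ x, Gam G x → Gam G (w.1 x))
    {i j : Fin n} (hij : i ≠ j) {α β : F} (hα : α ≠ 0) (hβ : β ≠ 0) (hi : w.1 (ee i : V) = α • ee i + β • ee j)
    (ho : ∀ k, k ≠ i → k ≠ j → w.1 (ee k : V) = ee k) : ∃ u, Gam G u ∧ (supp u).card = 3 := by
  classical
  obtain ⟨z, hz⟩ := Finset.card_pos.1 (show 0 < ({i, j} : Finset (Fin n))ᶜ.card by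
    rw [Finset.card_compl, Fintype.card_fin, Finset.card_pair hij]; omega)
  simp only [Finset.mem_compl, Finset.mem_insert, Finset.mem_singleton, not_or] at hz
  obtain ⟨hzi, hzj⟩ := hz
  have hy := hw _ (gam_ee O hn i)
  rw [hi] at hy
  have hy' : Gam G (α • ee j + β • ee z : V) := by
    have h := hy.two O hn hij (Ne.symm hzj) (fun l hl => by
      by_contra hl'
      simp only [Finset.mem_insert, Finset.mem_singleton, not_or] at hl'
      exact mem_supp.1 hl (by simp [ee_ne hl'.1, ee_ne hl'.2]))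
    simpa [ee_self, ee_ne hij, ee_ne hij.symm] using h
  have hjo : ∀ l, l ≠ i → l ≠ j → w.1 (ee j : V) l = 0 := fun l hli hlj => by
    have h1 := image_orth O.two w (Ne.symm hlj)
    rwa [ho l hli hlj, dot_ee] at h1
  have hn1 := norm_image O.two w j
  rw [dot_pair hij (fun l hl => by
    by_contra hl'
    simp only [Finset.mem_insert, Finset.mem_singleton, not_or] at hl'
    exact mem_supp.1 hl (hjo l hl'.1 hl'.2))] at hn1
  have h1 := image_orth O.two w hij.symm
  rw [hi, dotProduct_add, dotProduct_smul, dotProduct_smul, dot_ee, dot_ee, smul_eq_mul, smul_eq_mul] at h1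
  have hji : w.1 (ee j : V) i ≠ 0 := fun h => by
    rw [h, mul_zero, zero_add] at h1
    rw [h, (mul_eq_zero.1 h1).resolve_left hβ] at hn1
    simp at hn1
  have hjj : w.1 (ee j : V) j ≠ 0 := fun h => by
    rw [h, mul_zero, add_zero] at h1
    rw [h, (mul_eq_zero.1 h1).resolve_left hα] at hn1
    simp at hn1
  refine ⟨_, hw _ hy', ?_⟩
  rw [map_add, map_smul, map_smul, ho z hzi hzj]
  refine card_three_of hij (Ne.symm hzi) (Ne.symm hzj) ?_ ?_ ?_ fun l h1 h2 h3 => ?_
  · rw [Pi.add_apply, Pi.smul_apply, Pi.smul_apply, ee_ne (Ne.symm hzi), smul_zero, add_zero]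
    exact smul_ne_zero hα hji
  · rw [Pi.add_apply, Pi.smul_apply, Pi.smul_apply, ee_ne (Ne.symm hzj), smul_zero, add_zero]
    exact smul_ne_zero hα hjj
  · rw [Pi.add_apply, Pi.smul_apply, Pi.smul_apply, hjo z hzi hzj, ee_self, smul_zero, zero_add, smul_eq_mul,
      mul_one]
    exact hβ
  · rw [Pi.add_apply, Pi.smul_apply, Pi.smul_apply, hjo l h1 h2, ee_ne h3, smul_zero, smul_zero, add_zero]

/-- Two coordinates with different squares lighten a vector. -/
theorem pair_step (O : Ov G) (hn : 5 ≤ n) {v : V} (hv : Gam G v) (h4 : 4 ≤ (supp v).card) {a b : Fin n}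
    (ha : a ∈ supp v) (hb : b ∈ supp v) (hne : v a * v a ≠ v b * v b) :
    (∃ u, Gam G u ∧ (supp u).card = 3) ∨
      (∃ u, Gam G u ∧ 3 ≤ (supp u).card ∧ (supp u).card + 2 ≤ (supp v).card) ∨
      ((supp v).card = 4 ∧ ∀ c ∈ supp v, ∀ d ∈ supp v, c ≠ a → c ≠ b → d ≠ a → d ≠ b →
        v c * v c = v d * v d) := by
  classical
  have h2 := O.two
  have hab : a ≠ b := fun e => hne (by rw [e])
  have hv0 : v ⬝ᵥ v ≠ 0 := by rw [hv.1]; exact one_ne_zero
  have hone : ∀ j : Fin n, (ee j : V) ⬝ᵥ ee j ≠ 0 := fun j => by rw [ee_norm]; exact one_ne_zero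
  set D := rf (ee a : V) * rf (ee b : V) with hD
  set r := rf v with hr
  have hDv : ∀ (x : V) k, D.1 x k = if k = a ∨ k = b then -x k else x k := fun x k => by
    show (rf (ee a : V)).1 ((rf (ee b : V)).1 x) k = _
    simp only [rf_ee_apply]
    by_cases h : k = a
    · simp [h, hab]
    · by_cases h' : k = b <;> simp [h, h', Ne.symm hab]
  have hD2 : D * D = 1 := ext_iso fun x => funext fun k => by
    show D.1 (D.1 x) k = x k
    simp only [hDv]
    split_ifs <;> simp
  have hodd : ¬ Odd (orderOf (D * r)) := fun ho => by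
    have h1 : dk h2 ((D * r) ^ orderOf (D * r)) = 1 := by rw [pow_orderOf_eq_one, map_one]
    rw [map_pow, map_mul, hD, map_mul, dk_rf h2 (hone a), dk_rf h2 (hone b), hr, dk_rf h2 hv0] at h1
    rw [show ((-1 : ℤˣ) * -1 * -1) = -1 by decide, ho.neg_one_pow] at h1
    exact absurd h1 (by decide)
  obtain ⟨m, hm⟩ : ∃ m, orderOf (D * r) = 2 * m := by
    obtain ⟨m, hm⟩ := Nat.not_odd_iff_even.1 hodd
    exact ⟨m, by omega⟩
  obtain ⟨hw1, -, hwD, hwr⟩ := dihedral_even hD2 (rf_mul_self v) hm (by
    have := orderOf_pos (D * r); omega)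
  set w := (D * r) ^ m
  have hG : ∀ (k : ℕ) x, Gam G x → Gam G (((D * r) ^ k).1 x) := by
    intro k
    induction k with
    | zero => intro x hx; rw [pow_zero]; exact hx
    | succ k ih =>
      intro x hx
      rw [pow_succ]
      exact ih _ ((hv.refl O hn hx).sign O hn b |>.sign O hn a)
  have hwG : ∀ x, Gam G x → Gam G (w.1 x) := hG m
  have hcomD : ∀ x, D.1 (w.1 x) = w.1 (D.1 x) := fun x => congrArg (fun z : quadIso (Q1 F n) => z.1 x) hwD
  have hcomr : ∀ x, r.1 (w.1 x) = w.1 (r.1 x) := fun x => congrArg (fun z : quadIso (Q1 F n) => z.1 x) hwr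
  -- the span of the differences
  let H : Subgroup (quadIso (Q1 F n)) :=
    { carrier := {g | ∀ x, ∃ t : F, ∀ k, k ≠ a → k ≠ b → x k - g.1 x k = t * v k}
      one_mem' := fun x => ⟨0, fun k _ _ => by rw [zero_mul]; exact sub_self _⟩
      mul_mem' := fun {g h} hg hh x => by
        obtain ⟨t, ht⟩ := hh x
        obtain ⟨t', ht'⟩ := hg (h.1 x)
        exact ⟨t + t', fun k hka hkb => by
          show x k - g.1 (h.1 x) k = _
          linear_combination ht k hka hkb + ht' k hka hkb⟩
      inv_mem' := fun {g} hg x => by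
        obtain ⟨t, ht⟩ := hg (g⁻¹.1 x)
        refine ⟨-t, fun k hka hkb => ?_⟩
        have h1 := ht k hka hkb
        rw [show g.1 (g⁻¹.1 x) = x from g.1.apply_symm_apply x] at h1
        linear_combination -h1 }
  have hDH : D ∈ H := fun x => ⟨0, fun k hka hkb => by rw [hDv, if_neg (by simp [hka, hkb]), sub_self, zero_mul]⟩
  have hrH : r ∈ H := fun x => ⟨2 * (v ⬝ᵥ x), fun k _ _ => by
    rw [hr, rf_apply hv0, hv.1, div_one, Pi.sub_apply, Pi.smul_apply, smul_eq_mul]; ring⟩
  have hwH : w ∈ H := pow_mem (mul_mem hDH hrH) m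
  -- invariant plane
  have hDe : ∀ j : Fin n, D.1 (ee j : V) = if j = a ∨ j = b then -ee j else ee j := fun j => funext fun k => by
    rw [hDv]
    by_cases hk : k = j
    · subst hk; split_ifs <;> simp
    · split_ifs <;> simp [ee_ne hk]
  have hcross : ∀ i k, ¬ ((i = a ∨ i = b) ↔ (k = a ∨ k = b)) → w.1 (ee i : V) k = 0 := by
    intro i k hik
    have h1 := congrFun (hcomD (ee i)) k
    rw [hDv, hDe] at h1
    refine (mul_eq_zero.1 (show 2 * w.1 (ee i : V) k = 0 from ?_)).resolve_left h2
    by_cases hi : i = a ∨ i = b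
    · rw [if_pos hi, if_neg fun hk => hik (iff_of_true hi hk), map_neg, Pi.neg_apply] at h1
      linear_combination h1
    · rw [if_neg hi, if_pos (by by_contra hk; exact hik (iff_of_false hi hk))] at h1
      linear_combination -h1
  -- the image of the vector
  set c := v ⬝ᵥ w.1 v with hc
  have hwv : w.1 v = c • v := by
    have h1 := hcomr v
    rw [hr, rf_self hv0, map_neg, rf_apply hv0, hv.1, div_one, ← hc] at h1
    funext k
    have h3 := congrFun h1 k
    simp only [Pi.sub_apply, Pi.neg_apply, Pi.smul_apply, smul_eq_mul] at h3 ⊢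
    exact mul_left_cancel₀ h2 (by linear_combination h3)
  have hc2 : c = 1 ∨ c = -1 := by
    have h1 := dot_map w h2 v v
    rw [hwv, smul_dotProduct, dotProduct_smul, hv.1, smul_eq_mul, smul_eq_mul, mul_one] at h1
    exact mul_self_eq_one_iff.1 h1
  set S := ((supp v).erase a).erase b with hS
  have hScard : S.card + 2 = (supp v).card := by
    rw [hS, Finset.card_erase_of_mem (Finset.mem_erase.2 ⟨hab.symm, hb⟩), Finset.card_erase_of_mem ha]
    omega
  set o : V := fun k => if k = a ∨ k = b then 0 else v k with ho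
  have hoS : supp o = S := by
    ext k
    rw [hS, Finset.mem_erase, Finset.mem_erase, mem_supp, mem_supp]
    by_cases hk : k = a ∨ k = b
    · simp only [ho, if_pos hk]; tauto
    · simp only [ho, if_neg hk]; tauto
  have hov : o ⬝ᵥ v = o ⬝ᵥ o := by
    simp only [dotProduct, ho]
    exact Finset.sum_congr rfl fun k _ => by split_ifs <;> simp
  have hform : ∀ k, ¬ (k = a ∨ k = b) → ∃ t : F, w.1 (ee k : V) = ee k - t • o ∧
      (1 - c) * v k = t * (o ⬝ᵥ o) ∧ t * (t * (o ⬝ᵥ o) - 2 * o k) = 0 := by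
    intro k hk
    obtain ⟨t, ht⟩ := hwH (ee k)
    have he : w.1 (ee k : V) = ee k - t • o := by
      funext j
      simp only [Pi.sub_apply, Pi.smul_apply, smul_eq_mul, ho]
      by_cases hj : j = a ∨ j = b
      · rw [if_pos hj, hcross k j (fun h => hk (h.2 hj)), ee_ne (fun e : j = k => hk (e ▸ hj))]
        ring
      · rw [if_neg hj]
        linear_combination -(ht j (fun e => hj (Or.inl e)) fun e => hj (Or.inr e))
    refine ⟨t, he, ?_, ?_⟩
    · have h1 := dot_map w h2 (ee k) v
      rw [hwv, he, ee_dot, dotProduct_smul, sub_dotProduct, smul_dotProduct, ee_dot, hov, smul_eq_mul,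
        smul_eq_mul] at h1
      rcases hc2 with h | h <;> rw [h] at h1 ⊢
      · linear_combination h1
      · linear_combination -h1
    · have h1 := norm_image h2 w k
      rw [he] at h1
      simp only [dotProduct_sub, sub_dotProduct, smul_dotProduct, dotProduct_smul, ee_dot, ee_self, dot_ee,
        smul_eq_mul] at h1
      linear_combination h1
  have hSo : ∀ k ∈ S, ¬ (k = a ∨ k = b) ∧ v k ≠ 0 ∧ o k = v k := fun k hk => by
    rw [hS, Finset.mem_erase, Finset.mem_erase, mem_supp] at hk
    have h1 : ¬ (k = a ∨ k = b) := by tauto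
    exact ⟨h1, hk.2.2, if_neg h1⟩
  rcases hc2 with hc1 | hc1
  · -- the vector is fixed
    rw [hc1, one_smul] at hwv
    obtain ⟨o1, ho1⟩ : S.Nonempty := Finset.card_pos.1 (by omega)
    obtain ⟨ho1a, ho1b, ho1c⟩ := hSo o1 ho1
    have hfix1 : w.1 (ee o1 : V) = ee o1 := by
      obtain ⟨t, he, ht, ht'⟩ := hform o1 ho1a
      rw [hc1, sub_self, zero_mul] at ht
      rw [← ht, zero_sub, mul_neg, neg_eq_zero, ho1c] at ht'
      rw [he, (mul_eq_zero.1 ht').resolve_right (mul_ne_zero h2 ho1b), zero_smul, sub_zero]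
    have hfix : ∀ k, ¬ (k = a ∨ k = b) → w.1 (ee k : V) = ee k := by
      intro k hk
      by_cases hko : k = o1
      · rw [hko]; exact hfix1
      obtain ⟨t, he, -, -⟩ := hform k hk
      have h1 := image_orth h2 w hko
      rw [hfix1, he, dot_ee, Pi.sub_apply, Pi.smul_apply, ee_ne (Ne.symm hko), ho1c, zero_sub, neg_eq_zero,
        smul_eq_mul] at h1
      rw [he, (mul_eq_zero.1 h1).resolve_right ho1b, zero_smul, sub_zero]
    set p := w.1 (ee a : V) a with hp
    set q := w.1 (ee a : V) b with hq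
    have hwa : w.1 (ee a : V) = p • ee a + q • ee b := funext fun k => by
      simp only [Pi.add_apply, Pi.smul_apply, smul_eq_mul]
      by_cases hka : k = a
      · subst hka; rw [ee_self, ee_ne hab, hp]; ring
      by_cases hkb : k = b
      · subst hkb; rw [ee_self, ee_ne hab.symm, hq]; ring
      rw [hcross a k (by simp [hka, hkb]), ee_ne hka, ee_ne hkb]
      ring
    have he1 : p * v a + q * v b = v a := by
      have h1 := dot_map w h2 (ee a) v
      rwa [hwa, hwv, add_dotProduct, smul_dotProduct, smul_dotProduct, ee_dot, ee_dot] at h1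
    have he2 : p * p + q * q = 1 := by
      have h1 := norm_image h2 w a
      rw [hwa] at h1
      simp only [add_dotProduct, smul_dotProduct, dotProduct_add, dotProduct_smul, ee_dot, ee_self, ee_ne hab,
        ee_ne hab.symm, smul_eq_mul] at h1
      linear_combination h1
    have hva : v a ≠ 0 := mem_supp.1 ha
    have hvb : v b ≠ 0 := mem_supp.1 hb
    by_cases hp1 : p = 1
    · exfalso
      have hq0 : q = 0 := by
        rw [hp1, one_mul] at he1
        exact (mul_eq_zero.1 (show q * v b = 0 by linear_combination he1)).resolve_right hvb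
      rw [hp1, hq0, one_smul, zero_smul, add_zero] at hwa
      refine hw1 (ext_std fun k => ?_)
      show w.1 (ee k : V) = ee k
      by_cases hka : k = a
      · rw [hka]; exact hwa
      by_cases hkb : k = b
      swap
      · exact hfix k (by tauto)
      subst hkb
      have hcol : w.1 (ee k : V) = w.1 (ee k : V) k • ee k := funext fun j => by
        rw [Pi.smul_apply, smul_eq_mul, ee_apply]
        split_ifs with hj
        · rw [hj, mul_one]
        · rw [mul_zero]
          by_cases hja : j = a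
          · have h1 := image_orth h2 w (a := a) (b := k) hab
            rw [hwa, ee_dot] at h1
            rw [hja]; exact h1
          · exact hcross k j (by simp [hj, hja])
      have h1 := dot_map w h2 (ee k) v
      rw [hcol, hwv, smul_dotProduct, ee_dot, smul_eq_mul] at h1
      rw [hcol, mul_eq_right₀ hvb |>.1 h1, one_smul]
    have h3 : (1 + p) * (v b * v b) = (1 - p) * (v a * v a) := by
      refine mul_left_cancel₀ (sub_ne_zero.2 (Ne.symm hp1)) ?_
      linear_combination (q * v b + (1 - p) * v a) * he1 - (v b * v b) * he2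
    have hp0 : p ≠ 0 := fun h => hne (by rw [h] at h3; linear_combination -h3)
    have hq0 : q ≠ 0 := fun h => by
      rw [h, zero_mul, add_zero] at he1
      exact hp1 (mul_eq_right₀ hva |>.1 he1)
    exact Or.inl (plane_three O hn hwG hab hp0 hq0 hwa fun k h1 h2 => hfix k (by tauto))
  -- the vector is negated
  rw [hc1] at hform
  obtain ⟨o1, ho1⟩ : S.Nonempty := Finset.card_pos.1 (by omega)
  have hS0 : o ⬝ᵥ o ≠ 0 := fun h => by
    obtain ⟨t, -, ht, -⟩ := hform o1 (hSo o1 ho1).1
    rw [h, mul_zero] at ht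
    exact mul_ne_zero h2 (hSo o1 ho1).2.1 (by linear_combination ht)
  have himg : ∀ k, ¬ (k = a ∨ k = b) → w.1 (ee k : V) = ee k - (2 * v k / (o ⬝ᵥ o)) • o := fun k hk => by
    obtain ⟨t, he, ht, -⟩ := hform k hk
    rw [he, show t = 2 * v k / (o ⬝ᵥ o) by rw [eq_div_iff hS0]; linear_combination -ht]
  have hsub : ∀ k ∈ S, supp (w.1 (ee k : V)) ⊆ S := fun k hk l hl => by
    by_contra hlS
    refine mem_supp.1 hl ?_
    rw [himg k (hSo k hk).1, Pi.sub_apply, Pi.smul_apply, ee_ne (fun e : l = k => hlS (e ▸ hk)),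
      notMem_supp.1 (show l ∉ supp o by rw [hoS]; exact hlS), smul_zero, sub_zero]
  have hsup : ∀ k ∈ S, S.erase k ⊆ supp (w.1 (ee k : V)) := fun k hk l hl => by
    obtain ⟨hlk, hlS⟩ := Finset.mem_erase.1 hl
    rw [mem_supp, himg k (hSo k hk).1, Pi.sub_apply, Pi.smul_apply, ee_ne hlk, zero_sub, neg_ne_zero]
    exact smul_ne_zero (div_ne_zero (mul_ne_zero h2 (hSo k hk).2.1) hS0) (mem_supp.1 (show l ∈ supp o by rw [hoS]; exact hlS))
  have hzero : ∀ k ∈ S, w.1 (ee k : V) k = 0 → 2 * (v k * v k) = o ⬝ᵥ o := fun k hk h => by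
    rw [himg k (hSo k hk).1, Pi.sub_apply, Pi.smul_apply, ee_self, (hSo k hk).2.2, smul_eq_mul] at h
    field_simp at h
    linear_combination -h
  rcases le_or_gt 4 S.card with hS4 | hS4
  · refine Or.inr (Or.inl ⟨_, hwG _ (gam_ee O hn o1), ?_, ?_⟩)
    · have := Finset.card_le_card (hsup o1 ho1)
      rw [Finset.card_erase_of_mem ho1] at this
      omega
    · have := Finset.card_le_card (hsub o1 ho1)
      omega
  by_cases hS3 : S.card = 3
  · refine Or.inl ?_
    obtain ⟨k, hk, hkne⟩ : ∃ k ∈ S, w.1 (ee k : V) k ≠ 0 := by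
      by_contra hh
      push Not at hh
      have h1 : 2 * (o ⬝ᵥ o) = 3 * (o ⬝ᵥ o) := by
        conv_lhs => rw [dot_eq_sum hoS.le o, Finset.mul_sum, Finset.sum_congr rfl fun k hk => show
          2 * (o k * o k) = o ⬝ᵥ o by rw [(hSo k hk).2.2]; exact hzero k hk (hh k hk)]
        rw [Finset.sum_const, hS3, nsmul_eq_mul]
        norm_num
      exact hS0 (by linear_combination -h1)
    refine ⟨_, hwG _ (gam_ee O hn k), le_antisymm ((Finset.card_le_card (hsub k hk)).trans hS3.le) ?_⟩
    rw [← hS3]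
    refine Finset.card_le_card fun l hl => ?_
    by_cases hlk : l = k
    · exact mem_supp.2 (hlk ▸ hkne)
    · exact hsup k hk (Finset.mem_erase.2 ⟨hlk, hl⟩)
  have hS2 : S.card = 2 := by omega
  by_cases hsq : ∀ x ∈ S, ∀ y ∈ S, v x * v x = v y * v y
  · refine Or.inr (Or.inr ⟨by omega, fun x hx y hy hxa hxb hya hyb => ?_⟩)
    exact hsq x (by rw [hS]; simp [hxa, hxb, hx]) y (by rw [hS]; simp [hya, hyb, hy])
  push Not at hsq
  obtain ⟨x, hx, y, hy, hxy⟩ := hsq
  have hxny : x ≠ y := fun e => hxy (by rw [e])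
  have hSeq : S = {x, y} := by
    refine (Finset.eq_of_subset_of_card_le (by simp [Finset.insert_subset_iff, hx, hy]) ?_).symm
    rw [hS2, Finset.card_pair hxny]
  have hN : o ⬝ᵥ o = v x * v x + v y * v y := by
    rw [dot_pair hxny (hoS.trans hSeq).le, (hSo x hx).2.2, (hSo y hy).2.2]
  have hxx : w.1 (ee x : V) x ≠ 0 := fun h => hxy (by
    have h1 := hzero x hx h
    rw [hN] at h1
    linear_combination h1)
  have hxy' : w.1 (ee x : V) y ≠ 0 := mem_supp.1 (hsup x hx (Finset.mem_erase.2 ⟨hxny.symm, hy⟩))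
  obtain ⟨z, hz⟩ : ∃ z, z ∉ supp v := by
    obtain ⟨z, -, hz⟩ := Finset.exists_mem_notMem_of_card_lt_card (s := supp v) (t := Finset.univ)
      (by rw [Finset.card_univ, Fintype.card_fin]; omega)
    exact ⟨z, hz⟩
  have hzab : ¬ (z = a ∨ z = b) := fun h => hz (by rcases h with rfl | rfl <;> assumption)
  have hxz : x ≠ z := fun e => hz (e ▸ mem_supp.2 (hSo x hx).2.1)
  have hyz : y ≠ z := fun e => hz (e ▸ mem_supp.2 (hSo y hy).2.1)
  have hu := (hwG _ (gam_ee O hn x)).two O hn hxny hxz ((hsub x hx).trans hSeq.le)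
  refine Or.inl ⟨_, hwG _ hu, ?_⟩
  rw [map_add, map_smul, map_smul, show w.1 (ee z : V) = ee z by
    rw [himg z hzab, notMem_supp.1 hz]; simp]
  refine card_three_of hxny hxz hyz ?_ ?_ ?_ fun l h1 h2 h3 => ?_
  · rw [Pi.add_apply, Pi.smul_apply, Pi.smul_apply, ee_ne hxz, smul_zero, add_zero]
    exact smul_ne_zero hxx hxx
  · rw [Pi.add_apply, Pi.smul_apply, Pi.smul_apply, ee_ne hyz, smul_zero, add_zero]
    exact smul_ne_zero hxx hxy'
  · have hzz : w.1 (ee x : V) z = 0 := notMem_supp.1 fun h => hz (by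
      rcases Finset.mem_insert.1 (hSeq ▸ hsub x hx h) with e | e
      · exact absurd e.symm hxz
      · exact absurd (Finset.mem_singleton.1 e).symm hyz)
    rw [Pi.add_apply, Pi.smul_apply, Pi.smul_apply, hzz, ee_self, smul_zero, zero_add, smul_eq_mul, mul_one]
    exact hxy'
  · have hzl : w.1 (ee x : V) l = 0 := notMem_supp.1 fun h => by
      rcases Finset.mem_insert.1 (hSeq ▸ hsub x hx h) with e | e
      · exact h1 e
      · exact h2 (Finset.mem_singleton.1 e)
    rw [Pi.add_apply, Pi.smul_apply, Pi.smul_apply, hzl, ee_ne h3, smul_zero, smul_zero, add_zero]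

theorem Gam.signs (O : Ov G) (hn : 5 ≤ n) (E : Finset (Fin n)) {v : V} (hv : Gam G v) :
    Gam G fun k => if k ∈ E then -v k else v k := by
  classical
  induction E using Finset.induction_on with
  | empty => simpa using hv
  | @insert e E he ih =>
    convert ih.sign O hn e using 1
    funext k
    rw [rf_ee_apply]
    by_cases hk : k = e
    · subst hk; simp [he]
    · simp [hk]

/-- Moving one coordinate. -/
theorem Gam.move (O : Ov G) (hn : 5 ≤ n) {v : V} (hv : Gam G v) {i z c d : Fin n} (hiz : i ≠ z) (hcd : c ≠ d)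
    (hci : c ≠ i) (hcz : c ≠ z) (hdi : d ≠ i) (hdz : d ≠ z) (hz : v z = 0) (hsq : v c * v c = v d * v d) :
    Gam G fun k => if k = z then v i else if k = i then 0 else v k := by
  classical
  obtain ⟨r, hr, hdr⟩ : ∃ r : F, (r = 1 ∨ r = -1) ∧ v d = r * v c := by
    rcases mul_self_eq_mul_self_iff.1 hsq with h | h
    · exact ⟨1, Or.inl rfl, by rw [one_mul, h]⟩
    · exact ⟨-1, Or.inr rfl, by rw [h]; ring⟩
  have hp := hv.perm O hn (σ := Equiv.swap i z * Equiv.swap c d) (by
    rw [map_mul, Equiv.Perm.sign_swap hiz, Equiv.Perm.sign_swap hcd]; rfl)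
  have hσ : ∀ k, (Equiv.swap i z * Equiv.swap c d).symm k = Equiv.swap c d (Equiv.swap i z k) := fun k => rfl
  rcases hr with rfl | rfl
  · convert hp using 1
    funext k
    rw [hσ]
    by_cases hkz : k = z
    · subst hkz; simp [Equiv.swap_apply_of_ne_of_ne, hci.symm, hdi.symm]
    by_cases hki : k = i
    · subst hki; simp [Equiv.swap_apply_of_ne_of_ne, hcz.symm, hdz.symm, hz, hiz]
    rw [if_neg hkz, if_neg hki, Equiv.swap_apply_of_ne_of_ne hki hkz]
    by_cases hkc : k = c
    · subst hkc; simp [hdr]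
    by_cases hkd : k = d
    · subst hkd; simp [hdr]
    rw [Equiv.swap_apply_of_ne_of_ne hkc hkd]
  · convert hp.signs O hn {c, d} using 1
    funext k
    rw [hσ]
    by_cases hkz : k = z
    · subst hkz; simp [Equiv.swap_apply_of_ne_of_ne, hci.symm, hdi.symm, hcz.symm, hdz.symm]
    by_cases hki : k = i
    · subst hki; simp [Equiv.swap_apply_of_ne_of_ne, hcz.symm, hdz.symm, hci.symm, hdi.symm, hz, hiz]
    rw [if_neg hkz, if_neg hki, Equiv.swap_apply_of_ne_of_ne hki hkz]
    by_cases hkc : k = c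
    · subst hkc; simp [hdr]
    by_cases hkd : k = d
    · subst hkd; simp [hdr]
    rw [Equiv.swap_apply_of_ne_of_ne hkc hkd]
    simp [hkc, hkd]

/-- A vector of weight at least three in the set, missing a coordinate. -/
theorem exists_weight (O : Ov G) (hn : 5 ≤ n) {g : quadIso (Q1 F n)} (hg : g ∈ G) (hm : ¬ Mono g) {i : Fin n}
    (hi : IsE (g.1 (ee i : V))) : ∃ v, Gam G v ∧ 3 ≤ (supp v).card ∧ (supp v).card < n := by
  classical
  obtain ⟨a, ha⟩ := not_forall.1 hm
  have hv := (gam_ee O hn a).map O hn hg hi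
  obtain ⟨j, hj⟩ := hi
  have hai : a ≠ i := fun e => ha (e ▸ ⟨j, hj⟩)
  have h1 := image_orth O.two g hai
  have hvj : g.1 (ee a : V) j = 0 := by
    rcases hj with e | e <;> simpa [e, dotProduct_neg, dot_ee] using h1
  have hlt : (supp (g.1 (ee a : V))).card < n := by
    have : supp (g.1 (ee a : V)) ⊂ Finset.univ :=
      Finset.ssubset_univ_iff.2 fun e => notMem_supp.2 hvj (e ▸ Finset.mem_univ j)
    simpa using Finset.card_lt_card this
  rcases (two_le_supp (norm_image O.two g a) ha).lt_or_eq with h3 | h2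
  · exact ⟨_, hv, h3, hlt⟩
  obtain ⟨k, l, hkl, hs⟩ := Finset.card_eq_two.1 h2.symm
  have hu := (hv.two O hn hkl hai hs.le).map O hn hg ⟨j, hj⟩
  have hk : g.1 (ee a : V) k ≠ 0 := mem_supp.1 (by rw [hs]; simp)
  have hl : g.1 (ee a : V) l ≠ 0 := mem_supp.1 (by rw [hs]; simp)
  have hjk : k ≠ j := fun e => hk (e ▸ hvj)
  have hjl : l ≠ j := fun e => hl (e ▸ hvj)
  have ho : ∀ m, m ≠ k → m ≠ l → g.1 (ee a : V) m = 0 := fun m h1 h2 => notMem_supp.1 (by rw [hs]; simp [h1, h2])
  have hc : (supp (g.1 (g.1 (ee a : V) k • ee a + g.1 (ee a : V) l • ee i))).card = 3 := by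
    rw [map_add, map_smul, map_smul]
    rcases hj with e | e <;> rw [e] <;>
      refine card_three_of hkl hjk hjl ?_ ?_ ?_ (fun m h1 h2 h3 => ?_) <;>
      simp [hvj, ho, ee_ne, hk, hl, hjk, hjl, ee_self, *]
  exact ⟨_, hu, hc.ge, by omega⟩

section minimal

variable {s : ℕ}

/-- Equal squares slightly above the least weight. -/
theorem sq_eq_of_min (O : Ov G) (hn : 5 ≤ n) (hmin : ∀ u, Gam G u → 3 ≤ (supp u).card → s ≤ (supp u).card)
    (hs : 4 ≤ s) {u : V} (hu : Gam G u) (h5 : 5 ≤ (supp u).card) (hle : (supp u).card ≤ s + 1) :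
    ∀ a ∈ supp u, ∀ b ∈ supp u, u a * u a = u b * u b := by
  intro a ha b hb
  by_contra hne
  rcases pair_step O hn hu (by omega) ha hb hne with ⟨x, hx, hx3⟩ | ⟨x, hx, hx3, hxle⟩ | ⟨h4, -⟩
  · have := hmin x hx (by omega); omega
  · have := hmin x hx hx3; omega
  · omega

theorem four_sq (O : Ov G) (hn : 5 ≤ n) (hmin : ∀ u, Gam G u → 3 ≤ (supp u).card → 4 ≤ (supp u).card)
    {u : V} (hu : Gam G u) (h4 : (supp u).card = 4) {a b c d : Fin n} (ha : a ∈ supp u) (hb : b ∈ supp u)
    (hc : c ∈ supp u) (hd : d ∈ supp u) (hca : c ≠ a) (hcb : c ≠ b) (hda : d ≠ a) (hdb : d ≠ b) :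
    u a * u a = u b * u b ∨ u c * u c = u d * u d := by
  by_contra hh
  rw [not_or] at hh
  rcases pair_step O hn hu (by omega) ha hb hh.1 with ⟨x, hx, hx3⟩ | ⟨x, hx, hx3, hxle⟩ | ⟨-, h⟩
  · have := hmin x hx (by omega); omega
  · have := hmin x hx hx3; omega
  · exact hh.2 (h c hc d hd hca hcb hda hdb)

theorem no_large (O : Ov G) (hn : 6 ≤ n) (hp3 : (3 : F) = 0 → ∀ x : F, x ≠ 0 → x * x = 1)
    (hmin : ∀ u, Gam G u → 3 ≤ (supp u).card → s ≤ (supp u).card) (hs : 5 ≤ s) {v : V} (hv : Gam G v)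
    (hvs : (supp v).card = s) (hlt : s < n) : False := by
  classical
  have h2 := O.two
  have hn5 : 5 ≤ n := by omega
  obtain ⟨i, hi⟩ : (supp v).Nonempty := Finset.card_pos.1 (by omega)
  set A := v i * v i with hA
  have hall : ∀ k ∈ supp v, v k * v k = A := fun k hk =>
    sq_eq_of_min O hn5 hmin (by omega) hv (by omega) (by omega) k hk i hi
  have hsA : (s : F) * A = 1 := by
    have h1 := hv.1
    rw [dot_eq_sum (Finset.Subset.refl _), Finset.sum_congr rfl hall, Finset.sum_const, hvs, nsmul_eq_mul] at h1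
    exact h1
  have hA0 : A ≠ 0 := fun h => by rw [h, mul_zero] at hsA; exact zero_ne_one hsA
  have hdot : ∀ E : Finset (Fin n), E ⊆ supp v → ∀ U : Finset (Fin n), E ⊆ U → U ⊆ supp v →
      ∑ k ∈ U, v k * (if k ∈ E then -v k else v k) = ((U.card : F) - 2 * (E.card : F)) * A := by
    intro E hE U hEU hU
    rw [← Finset.sum_sdiff hEU, Finset.sum_congr rfl fun k hk => show
        v k * (if k ∈ E then -v k else v k) = A by
          rw [if_neg (Finset.mem_sdiff.1 hk).2, hall k (hU (Finset.mem_sdiff.1 hk).1)],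
      Finset.sum_congr rfl fun k hk => show v k * (if k ∈ E then -v k else v k) = -A by
          rw [if_pos hk, mul_neg, hall k (hE hk)],
      Finset.sum_const, Finset.sum_const, Finset.card_sdiff_of_subset hEU, nsmul_eq_mul, nsmul_eq_mul,
      Nat.cast_sub (Finset.card_le_card hEU)]
    ring
  have hv0 : v ⬝ᵥ v ≠ 0 := by rw [hv.1]; exact one_ne_zero
  by_cases h3 : (3 : F) = 0
  · have hA1 : A = 1 := hp3 h3 (v i) (mem_supp.1 hi)
    obtain ⟨E, hE, hEc⟩ := Finset.exists_subset_card_eq (s := supp v) (n := 4) (by omega)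
    set u : V := fun k => if k ∈ E then -v k else v k with hu
    have huG : Gam G u := hv.signs O hn5 E
    have hvu : v ⬝ᵥ u = -1 := by
      rw [dot_eq_sum (Finset.Subset.refl _), hu, hdot E hE _ hE (Finset.Subset.refl _), hvs, hEc, hA1]
      push_cast
      rw [hA1, mul_one] at hsA
      linear_combination hsA - 2 * h3
    have hR := hv.refl O hn5 huG
    have hcoord : ∀ k, (rf v).1 u k = u k + 2 * v k := fun k => by
      rw [rf_apply hv0, hvu, hv.1, Pi.sub_apply, Pi.smul_apply, smul_eq_mul]; ring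
    have hsupp : supp ((rf v).1 u) = E := by
      ext k
      rw [mem_supp, hcoord, hu]
      by_cases hk : k ∈ E
      · dsimp only
        rw [if_pos hk]
        simp only [hk, iff_true]
        intro h
        exact mem_supp.1 (hE hk) (by linear_combination h)
      · dsimp only
        rw [if_neg hk]
        simp only [hk, iff_false, not_not]
        linear_combination v k * h3
    have := hmin _ hR (by rw [hsupp, hEc]; norm_num)
    rw [hsupp, hEc] at this
    omega
  obtain ⟨o, ho, hbad⟩ : ∃ o ∈ Finset.range 4,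
      2 * ((((s - 1 : ℕ) : F) - 2 * (o : F)) * A) ∉ ({0, 1, -1} : Finset F) := by
    by_contra hh
    push Not at hh
    obtain ⟨x, hx, y, hy, hxy, he⟩ := Finset.exists_ne_map_eq_of_card_lt_of_maps_to
      (s := Finset.range 4) (t := ({0, 1, -1} : Finset F)) (by
        rw [Finset.card_range]; exact lt_of_le_of_lt Finset.card_le_three (by norm_num)) hh
    rw [Finset.mem_range] at hx hy
    have h4 : (x : F) - (y : F) = 0 := by
      refine (mul_eq_zero.1 (show (2 * 2 * A) * ((x : F) - y) = 0 by linear_combination -he)).resolve_left ?_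
      exact mul_ne_zero (mul_ne_zero h2 h2) hA0
    interval_cases x <;> interval_cases y <;> first | exact absurd rfl hxy | skip
    all_goals norm_num at h4
    all_goals
      first
        | exact one_ne_zero h4
        | exact h2 h4
        | exact h3 h4
        | exact h2 (by linear_combination h4)
        | exact h2 (by linear_combination -h4)
        | exact h3 (by linear_combination h4)
        | exact h3 (by linear_combination -h4)
        | exact one_ne_zero (show (1 : F) = 0 by linear_combination h4)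
        | exact one_ne_zero (show (1 : F) = 0 by linear_combination -h4)
  rw [Finset.mem_range] at ho
  simp only [Finset.mem_insert, Finset.mem_singleton, not_or] at hbad
  obtain ⟨z, -, hz⟩ := Finset.exists_mem_notMem_of_card_lt_card (s := supp v) (t := Finset.univ)
    (by rw [Finset.card_univ, Fintype.card_fin]; omega)
  have hiz : i ≠ z := fun e => hz (e ▸ hi)
  set U := (supp v).erase i with hU
  have hUc : U.card = s - 1 := by rw [hU, Finset.card_erase_of_mem hi, hvs]
  obtain ⟨E, hE, hEc⟩ := Finset.exists_subset_card_eq (s := U) (n := o) (by omega)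
  obtain ⟨c, d, hcU, hdU, hcd⟩ := Finset.one_lt_card_iff.1 (show 1 < U.card by omega)
  have hUi : ∀ k ∈ U, k ≠ i ∧ k ≠ z ∧ k ∈ supp v := fun k hk => by
    rw [hU, Finset.mem_erase] at hk
    exact ⟨hk.1, fun e => hz (e ▸ hk.2), hk.2⟩
  have hEv : E ⊆ supp v := fun k hk => (hUi k (hE hk)).2.2
  have hmove := (hv.signs O hn5 E).move O hn5 hiz hcd (hUi c hcU).1 (hUi c hcU).2.1 (hUi d hdU).1 (hUi d hdU).2.1
    (by rw [notMem_supp.1 hz]; simp)
    (by
      have hc := hall c (hUi c hcU).2.2
      have hd := hall d (hUi d hdU).2.2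
      split_ifs <;> linear_combination hc - hd)
  set u : V := fun k => if k = z then (if i ∈ E then -v i else v i) else if k = i then 0 else
    (if k ∈ E then -v k else v k) with hu
  have hiE : i ∉ E := fun h => (hUi i (hE h)).1 rfl
  have huG : Gam G u := hmove
  have hvu : v ⬝ᵥ u = (((s - 1 : ℕ) : F) - 2 * (o : F)) * A := by
    rw [dot_eq_sum (Finset.Subset.refl _), ← Finset.add_sum_erase _ _ hi, ← hU]
    have h1 : u i = 0 := by rw [hu]; simp [hiz]
    rw [h1, mul_zero, zero_add, Finset.sum_congr rfl fun k hk => show v k * u k = v k * (if k ∈ E then -v k else v k) by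
      rw [hu]; simp [(hUi k hk).1, (hUi k hk).2.1],
      hdot E hEv U hE (fun k hk => (hUi k hk).2.2), hUc, hEc]
  set q := 2 * ((((s - 1 : ℕ) : F) - 2 * (o : F)) * A) with hq
  have hR := hv.refl O hn5 huG
  have hcoord : ∀ k, (rf v).1 u k = u k - q * v k := fun k => by
    rw [rf_apply hv0, hvu, hv.1, Pi.sub_apply, Pi.smul_apply, smul_eq_mul, hq]; ring
  have hRi : (rf v).1 u i = -(q * v i) := by rw [hcoord, hu]; simp [hiz]
  have hRz : (rf v).1 u z = v i := by rw [hcoord, notMem_supp.1 hz, hu]; simp [hiE]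
  have hsupp : supp ((rf v).1 u) = insert z (supp v) := by
    ext k
    rw [mem_supp, Finset.mem_insert, mem_supp]
    by_cases hkz : k = z
    · subst hkz; rw [hRz]; simp [mem_supp.1 hi]
    by_cases hki : k = i
    · subst hki; rw [hRi]; simp [mem_supp.1 hi, hbad.1]
    rw [hcoord, hu]
    dsimp only
    rw [if_neg hkz, if_neg hki]
    simp only [hkz, false_or]
    split_ifs
    · rw [show -v k - q * v k = -(1 + q) * v k by ring, mul_ne_zero_iff]
      exact ⟨fun h => h.2, fun h => ⟨neg_ne_zero.2 fun h' => hbad.2.2 (by linear_combination h'), h⟩⟩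
    · rw [show v k - q * v k = (1 - q) * v k by ring, mul_ne_zero_iff]
      exact ⟨fun h => h.2, fun h => ⟨fun h' => hbad.2.1 (by linear_combination -h'), h⟩⟩
  have hcard : (supp ((rf v).1 u)).card = s + 1 := by rw [hsupp, Finset.card_insert_of_notMem hz, hvs]
  have h1 := sq_eq_of_min O hn5 hmin (by omega) hR (by omega) hcard.le z
    (by rw [hsupp]; simp) i (by rw [hsupp]; simp [hi])
  rw [hRz, hRi] at h1
  rcases mul_self_eq_one_iff.1 (show q * q = 1 from mul_right_cancel₀ hA0 (by rw [hA]; linear_combination -h1))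
    with h | h
  · exact hbad.2.1 h
  · exact hbad.2.2 h

theorem no_four (O : Ov G) (hn : 5 ≤ n) (h3 : (3 : F) ≠ 0)
    (hmin : ∀ u, Gam G u → 3 ≤ (supp u).card → 4 ≤ (supp u).card) {v : V} (hv : Gam G v)
    (hvs : (supp v).card = 4) : False := by
  classical
  have h2 := O.two
  have hn5 : 5 ≤ n := by omega
  obtain ⟨a, b, c, d, hab, hac, had, hbc, hbd, hcd, hab', hac', hs⟩ : ∃ a b c d, a ≠ b ∧ a ≠ c ∧ a ≠ d ∧ b ≠ c ∧
      b ≠ d ∧ c ≠ d ∧ v a * v a = v b * v b ∧ v a * v a = v c * v c ∧ supp v = {a, b, c, d} := by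
    obtain ⟨a, b, c, d, hab, hac, had, hbc, hbd, hcd, hs⟩ := Finset.card_eq_four.1 hvs
    have hm : ∀ x ∈ ({a, b, c, d} : Finset (Fin n)), x ∈ supp v := fun x hx => hs ▸ hx
    by_cases h1 : v a * v a = v b * v b
    · by_cases h2' : v a * v a = v c * v c
      · exact ⟨a, b, c, d, hab, hac, had, hbc, hbd, hcd, h1, h2', hs⟩
      · have h4 := (four_sq O hn5 hmin hv hvs (hm a (by simp)) (hm c (by simp)) (hm b (by simp)) (hm d (by simp))
          hab.symm hbc had.symm hcd.symm).resolve_left h2'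
        exact ⟨a, b, d, c, hab, had, hac, hbd, hbc, hcd.symm, h1, h1.trans h4, by rw [hs]; ext; simp; tauto⟩
    · have h4 := (four_sq O hn5 hmin hv hvs (hm a (by simp)) (hm b (by simp)) (hm c (by simp)) (hm d (by simp))
        hac.symm hbc.symm had.symm hbd.symm).resolve_left h1
      by_cases h5 : v a * v a = v c * v c
      · exact ⟨a, c, d, b, hac, had, hab, hcd, hbc.symm, hbd.symm, h5, h5.trans h4, by rw [hs]; ext; simp; tauto⟩
      · have h6 := (four_sq O hn5 hmin hv hvs (hm a (by simp)) (hm c (by simp)) (hm b (by simp)) (hm d (by simp))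
          hab.symm hbc had.symm hcd.symm).resolve_left h5
        exact ⟨b, c, d, a, hbc, hbd, hab.symm, hcd, hac.symm, had.symm, h6.trans h4.symm, h6,
          by rw [hs]; ext; simp; tauto⟩
  have hne : ∀ x ∈ ({a, b, c, d} : Finset (Fin n)), v x ≠ 0 := fun x hx => mem_supp.1 (hs ▸ hx)
  have hva := hne a (by simp)
  have hvb := hne b (by simp)
  have hvc := hne c (by simp)
  have hvd := hne d (by simp)
  obtain ⟨z, hz⟩ := Finset.card_pos.1 (show 0 < (supp v)ᶜ.card by
    rw [Finset.card_compl, Fintype.card_fin, hvs]; omega)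
  simp only [Finset.mem_compl, notMem_supp] at hz
  have hcne : ∀ x y : Fin n, v x ≠ 0 → v y = 0 → x ≠ y := fun x y hx hy e => hx (e ▸ hy)
  have hza := hcne a z hva hz
  have hzb := hcne b z hvb hz
  have hzc := hcne c z hvc hz
  have hzd := hcne d z hvd hz
  have hmove := ((hv.sign O hn5 c).move O hn5 hzd hab had hza hbd hzb
    (by rw [rf_ee_apply, if_neg (Ne.symm hzc)]; exact hz)
    (by rw [rf_ee_apply, rf_ee_apply, if_neg hac, if_neg hbc]; exact hab'))
  set u : V := fun k => if k = z then (rf (ee c : V)).1 v d else if k = d then 0 else (rf (ee c : V)).1 v k with hu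
  have hua : u a = v a := by rw [hu]; simp [hza, had, rf_ee_apply, hac]
  have hub : u b = v b := by rw [hu]; simp [hzb, hbd, rf_ee_apply, hbc]
  have huc : u c = -v c := by rw [hu]; simp [hzc, hcd, rf_ee_apply]
  have hud : u d = 0 := by rw [hu]; simp [hzd]
  have huz : u z = v d := by rw [hu]; simp [rf_ee_apply, hcd.symm]
  have huo : ∀ k, k ∉ ({a, b, c, d, z} : Finset (Fin n)) → u k = 0 := fun k hk => by
    simp only [Finset.mem_insert, Finset.mem_singleton, not_or] at hk
    rw [hu]
    simp only [if_neg hk.2.2.2.2, if_neg hk.2.2.2.1, rf_ee_apply, if_neg hk.2.2.1]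
    exact notMem_supp.1 (by rw [hs]; simp [hk.1, hk.2.1, hk.2.2.1, hk.2.2.2.1])
  have hsum : ∀ y : V, v ⬝ᵥ y = v a * y a + v b * y b + v c * y c + v d * y d := fun y => by
    rw [dot_eq_sum hs.le, Finset.sum_insert (by simp [hab, hac, had]), Finset.sum_insert (by simp [hbc, hbd]),
      Finset.sum_pair hcd]
    ring
  set A := v a * v a with hA
  have hvu : v ⬝ᵥ u = A := by
    rw [hsum, hua, hub, huc, hud]
    linear_combination -hab' + hac'
  have hv0 : v ⬝ᵥ v ≠ 0 := by rw [hv.1]; exact one_ne_zero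
  have hR := hv.refl O hn5 (show Gam G u from hmove)
  set R := (rf v).1 u with hRdef
  have hcoord : ∀ k, R k = u k - 2 * A * v k := fun k => by
    rw [hRdef, rf_apply hv0, hvu, hv.1, div_one, Pi.sub_apply, Pi.smul_apply, smul_eq_mul]
  have hA0 : A ≠ 0 := mul_ne_zero hva hva
  have hRa : R a = (1 - 2 * A) * v a := by rw [hcoord, hua]; ring
  have hRb : R b = (1 - 2 * A) * v b := by rw [hcoord, hub]; ring
  have hRc : R c = -(1 + 2 * A) * v c := by rw [hcoord, huc]; ring
  have hRd : R d = -(2 * A) * v d := by rw [hcoord, hud]; ring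
  have hRz : R z = v d := by rw [hcoord, huz, hz]; ring
  have hRo : ∀ k, k ∉ ({a, b, c, d, z} : Finset (Fin n)) → R k = 0 := fun k hk => by
    rw [hcoord, huo k hk, notMem_supp.1 (show k ∉ supp v by rw [hs]; simp at hk ⊢; tauto)]
    ring
  have hRd0 : R d ≠ 0 := by rw [hRd]; exact mul_ne_zero (neg_ne_zero.2 (mul_ne_zero h2 hA0)) hvd
  by_cases h1 : 1 - 2 * A = 0
  · have hRc0 : R c ≠ 0 := by
      rw [hRc]
      exact mul_ne_zero (neg_ne_zero.2 fun h => h2 (by linear_combination h + h1)) hvc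
    have h3' := card_three_of hcd hzc hzd hRc0 hRd0 (by rw [hRz]; exact hvd) fun l h4 h5 h6 => by
      by_cases hla : l = a
      · rw [hla, hRa, h1, zero_mul]
      by_cases hlb : l = b
      · rw [hlb, hRb, h1, zero_mul]
      exact hRo l (by simp [hla, hlb, h4, h5, h6])
    have := hmin R hR h3'.ge
    omega
  have hRa0 : R a ≠ 0 := by rw [hRa]; exact mul_ne_zero h1 hva
  have hRb0 : R b ≠ 0 := by rw [hRb]; exact mul_ne_zero h1 hvb
  by_cases h1' : 1 + 2 * A = 0
  · have hRc0 : R c = 0 := by rw [hRc, h1', neg_zero, zero_mul]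
    have hsR : supp R = {a, b, d, z} := by
      ext k
      rw [mem_supp]
      by_cases hk : k ∈ ({a, b, c, d, z} : Finset (Fin n))
      · simp only [Finset.mem_insert, Finset.mem_singleton] at hk
        rcases hk with rfl | rfl | rfl | rfl | rfl
        · simp [hRa0]
        · simp [hRb0]
        · simp [hRc0, hac.symm, hbc.symm, hcd, hzc]
        · simp [hRd0]
        · simp [hRz, hvd]
      · rw [hRo k hk]; simp at hk ⊢; tauto
    have h4 : (supp R).card = 4 := by
      rw [hsR, Finset.card_insert_of_notMem (by simp [hab, had, hza]),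
        Finset.card_insert_of_notMem (by simp [hbd, hzb]), Finset.card_pair hzd]
    have h5 := four_sq O hn5 hmin hR h4 (a := a) (b := d) (c := b) (d := z) (by simp [hsR]) (by simp [hsR])
      (by simp [hsR]) (by simp [hsR]) hab.symm hbd hza.symm hzd.symm
    rw [hRa, hRb, hRd, hRz] at h5
    have hD : 4 * A = v d * v d := by
      rcases h5 with h | h
      · linear_combination h + (3 * A - 2 * A * A + 2 * A * (v d * v d) - v d * v d) * h1'
      · linear_combination h + 4 * hab' + (3 * (v b * v b) - 2 * A * (v b * v b)) * h1'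
    have hone : A + A + A + v d * v d = 1 := by
      have h := hv.1
      rw [hsum] at h
      linear_combination h + hab' + hac'
    have h9 : (3 : F) * 3 = 0 := by linear_combination 7 * h1' - 2 * hone - 2 * hD
    exact mul_ne_zero h3 h3 h9
  have hRc0 : R c ≠ 0 := by rw [hRc]; exact mul_ne_zero (neg_ne_zero.2 h1') hvc
  have hsR : supp R = {a, b, c, d, z} := by
    ext k
    rw [mem_supp]
    refine ⟨fun h => by_contra fun hk => h (hRo k hk), fun hk => ?_⟩
    simp only [Finset.mem_insert, Finset.mem_singleton] at hk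
    rcases hk with rfl | rfl | rfl | rfl | rfl <;> first | assumption | (rw [hRz]; exact hvd)
  have h5 : (supp R).card = 5 := by
    rw [hsR, Finset.card_insert_of_notMem (by simp [hab, hac, had, hza]),
      Finset.card_insert_of_notMem (by simp [hbc, hbd, hzb]), Finset.card_insert_of_notMem (by simp [hcd, hzc]),
      Finset.card_pair hzd]
  have h6 := sq_eq_of_min O hn5 hmin le_rfl hR h5.ge (by omega) a (by simp [hsR]) c (by simp [hsR])
  rw [hRa, hRc] at h6
  exact mul_ne_zero (pow_ne_zero 3 h2) (mul_ne_zero hA0 hA0)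
    (show (2 : F) ^ 3 * (A * A) = 0 by linear_combination -h6 + (1 + 2 * A) * (1 + 2 * A) * hac')

end minimal

/-- The set contains a vector of weight three, or four in characteristic three. -/
theorem exists_small (O : Ov G) (hn : 7 ≤ n) (hd : 10 ≤ n ∨ Odd n) (hp3 : (3 : F) = 0 → ∀ x : F, x ≠ 0 → x * x = 1)
    {g : quadIso (Q1 F n)} (hg : g ∈ G) (hgm : ¬ Mono g) :
    ((3 : F) ≠ 0 ∧ ∃ v, Gam G v ∧ (supp v).card = 3) ∨ ((3 : F) = 0 ∧ ∃ v, Gam G v ∧ (supp v).card = 4) := by
  classical
  obtain ⟨y, hy, hym, i, hi⟩ := hd.elim (fun h => exists_col O h hg hgm) fun h => exists_col_odd O hn h hg hgm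
  obtain ⟨v0, hv0, h30, hlt0⟩ := exists_weight O (by omega) hy hym hi
  have hex : ∃ k, 3 ≤ k ∧ ∃ v, Gam G v ∧ (supp v).card = k := ⟨_, h30, v0, hv0, rfl⟩
  obtain ⟨h3s, v, hv, hvs⟩ := Nat.find_spec hex
  have hmin : ∀ u, Gam G u → 3 ≤ (supp u).card → Nat.find hex ≤ (supp u).card := fun u hu h =>
    Nat.find_min' hex ⟨h, u, hu, rfl⟩
  rcases lt_or_ge 4 (Nat.find hex) with h5 | h5
  · exact (no_large O (by omega) hp3 hmin h5 hv hvs ((hmin v0 hv0 h30).trans_lt hlt0)).elim
  rcases eq_or_ne (Nat.find hex) 4 with h4 | h4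
  · by_cases h3 : (3 : F) = 0
    · exact Or.inr ⟨h3, v, hv, hvs.trans h4⟩
    · exact (no_four O (by omega) h3 (h4 ▸ hmin) hv (hvs.trans h4)).elim
  have hs3 : (supp v).card = 3 := by omega
  by_cases h3 : (3 : F) = 0
  · exfalso
    have h1 := hv.1
    rw [dot_eq_sum (Finset.Subset.refl _), Finset.sum_congr rfl fun k hk => hp3 h3 (v k) (mem_supp.1 hk),
      Finset.sum_const, hs3, nsmul_eq_mul, mul_one] at h1
    push_cast at h1
    rw [h3] at h1
    exact zero_ne_one h1
  · exact Or.inl ⟨h3, v, hv, hs3⟩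

end CfsgLib.MaxSub.Frame
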