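import Cfsg.Agent.Lib.MaxSub.Frame.Four

/-!
Orthogonal frames, part 4: an overgroup outside the monomial group has an element outside it with a monomial
column.
-/

set_option autoImplicit false
set_option linter.unusedSectionVars false
set_option maxHeartbeats 400000

namespace CfsgLib.MaxSub.Frame

open QuadraticMap CfsgLib.WittExtension CfsgLib.SpinorNorm

variable {F : Type*} [Field F] [Fintype F] {n : ℕ} {G : Subgroup (quadIso (Q1 F n))}

local notation "V" => Fin n → F

/-- Coordinates equal up to a common sign. -/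
def Rel (wa wb : Fin n → F) (i j : Fin n) : Prop :=
  ∃ s : F, (s = 1 ∨ s = -1) ∧ wa j = s * wa i ∧ wb j = s * wb i

variable {wa wb : Fin n → F}

theorem Rel.symm' {i j : Fin n} (h : Rel wa wb i j) : Rel wa wb j i := by
  obtain ⟨s, hs, ha, hb⟩ := h
  exact ⟨s, hs, by rcases hs with rfl | rfl <;> rw [ha] <;> ring, by rcases hs with rfl | rfl <;> rw [hb] <;> ring⟩

theorem Rel.trans' {i j k : Fin n} (h : Rel wa wb i j) (h' : Rel wa wb j k) : Rel wa wb i k := by
  obtain ⟨s, hs, ha, hb⟩ := h
  obtain ⟨t, ht, ha', hb'⟩ := h'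
  exact ⟨t * s, by rcases hs with rfl | rfl <;> rcases ht with rfl | rfl <;> simp,
    by rw [ha', ha, mul_assoc], by rw [hb', hb, mul_assoc]⟩

theorem Rel.app {i j : Fin n} (h : Rel wa wb i j) {p : V} (hp : InP wa wb p) :
    ∃ s : F, (s = 1 ∨ s = -1) ∧ p j = s * p i := by
  obtain ⟨s, hs, ha, hb⟩ := h
  obtain ⟨α, β, rfl⟩ := hp
  refine ⟨s, hs, ?_⟩
  simp only [Pi.add_apply, Pi.smul_apply, smul_eq_mul, ha, hb]
  ring

theorem all_rel {C : Finset (Fin n)} (hC : 5 ≤ C.card)
    (h : ∀ T ⊆ C, T.card = 4 → ∀ i ∈ T, ∃ j ∈ T, j ≠ i ∧ Rel wa wb i j) :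
    ∀ i ∈ C, ∀ j ∈ C, Rel wa wb i j := by
  classical
  intro i hi j hj
  by_contra hij
  have hclass : ∀ a ∈ C, (C.filter fun b => ¬ Rel wa wb a b).card ≤ 2 := by
    intro a ha
    by_contra hlt
    have haR : Rel wa wb a a := ⟨1, Or.inl rfl, (one_mul _).symm, (one_mul _).symm⟩
    obtain ⟨b, c, d, hb, hc, hd, hbc, hbd, hcd⟩ := Finset.two_lt_card_iff.1 (not_le.1 hlt)
    simp only [Finset.mem_filter] at hb hc hd
    have hab : a ≠ b := fun e => hb.2 (e ▸ haR)
    have hac : a ≠ c := fun e => hc.2 (e ▸ haR)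
    have had : a ≠ d := fun e => hd.2 (e ▸ haR)
    obtain ⟨e, he, hea, her⟩ := h {a, b, c, d} (by simp [Finset.insert_subset_iff, ha, hb.1, hc.1, hd.1])
      (by simp [hab, hac, had, hbc, hbd, hcd]) a (by simp)
    simp only [Finset.mem_insert, Finset.mem_singleton] at he
    rcases he with rfl | rfl | rfl | rfl
    · exact hea rfl
    · exact hb.2 her
    · exact hc.2 her
    · exact hd.2 her
  have h1 := hclass i hi
  have h2 := hclass j hj
  have h3 : C ⊆ (C.filter fun b => ¬ Rel wa wb i b) ∪ (C.filter fun b => ¬ Rel wa wb j b) := by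
    intro b hb
    simp only [Finset.mem_union, Finset.mem_filter]
    by_cases hib : Rel wa wb i b
    · exact Or.inr ⟨hb, fun hjb => hij (hib.trans' hjb.symm')⟩
    · exact Or.inl ⟨hb, hib⟩
  have h4 := (Finset.card_le_card h3).trans (Finset.card_union_le _ _)
  omega

/-- A signed transposition is a reflection. -/
theorem dk_swap (h2 : (2 : F) ≠ 0) {a b : Fin n} (hab : a ≠ b) {s : F} (hs : s = 1 ∨ s = -1)
    {w : quadIso (Q1 F n)} (ha : w.1 (ee a : V) = s • ee b) (hb : w.1 (ee b : V) = s • ee a)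
    (ho : ∀ k, k ≠ a → k ≠ b → w.1 (ee k : V) = ee k) : dk h2 w = -1 := by
  have hss : s * s = 1 := by rcases hs with rfl | rfl <;> ring
  set v : V := ee a - s • ee b with hv
  have hn : v ⬝ᵥ v = 2 := by
    simp only [hv, sub_dotProduct, dotProduct_sub, smul_dotProduct, dotProduct_smul, ee_dot, ee_self,
      ee_ne hab, ee_ne hab.symm, smul_eq_mul]
    linear_combination hss
  have hn0 : v ⬝ᵥ v ≠ 0 := by rw [hn]; exact h2
  have e : w = rf v := ext_std fun k => by
    show w.1 (ee k : V) = (rf v).1 (ee k)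
    rw [rf_apply hn0, hn, dot_ee, mul_div_cancel_left₀ _ h2]
    by_cases hka : k = a
    · subst hka
      rw [ha, hv, Pi.sub_apply, Pi.smul_apply, ee_self, ee_ne hab]
      module
    by_cases hkb : k = b
    · subst hkb
      rw [hb, hv, Pi.sub_apply, Pi.smul_apply, ee_self, ee_ne hab.symm, smul_eq_mul, smul_sub, smul_smul,
        show (0 - s * 1) * s = -1 by linear_combination -hss]
      module
    · rw [ho k hka hkb, hv, Pi.sub_apply, Pi.smul_apply, ee_ne hka, ee_ne hkb]
      simp
  rw [e, dk_rf h2 hn0]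

/-- A plane involution together with a monomial involution in the form of a signed map. -/
structure TData (T : Finset (Fin n)) (wa wb : Fin n → F) (w : quadIso (Q1 F n)) (f : Fin n → Fin n)
    (s : Fin n → F) : Prop where
  data : WData T wa wb w
  sgn : ∀ i, s i = 1 ∨ s i = -1
  app : ∀ i, w.1 (ee i : Fin n → F) = s i • ee (f i)
  inv : ∀ i, f (f i) = i
  coord : ∀ (v : Fin n → F) i, w.1 v i = s i * v (f i)
  mem : ∀ i, f i ∈ T ↔ i ∈ T

theorem PCtx.exists_t (C : PCtx G wa wb) {T : Finset (Fin n)} (hT : T.card = 4) :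
    ∃ w f s, TData T wa wb w f s := by
  obtain ⟨w, W⟩ := C.exists_w hT
  obtain ⟨f, s, h⟩ := W.mono.invol C.ov.two W.sq
  refine ⟨w, f, s, W, fun i => (h i).1, fun i => (h i).2.1, fun i => (h i).2.2.1, fun v i => (h i).2.2.2 v,
    fun i => (W.stable i (f i) (s i) ?_ (h i).2.1).symm⟩
  rcases (h i).1 with e | e <;> rw [e] <;> simp

variable {T : Finset (Fin n)} {w : quadIso (Q1 F n)} {f : Fin n → Fin n} {s : Fin n → F}

theorem TData.f_inj (D : TData T wa wb w f s) {i j : Fin n} (h : f i = f j) : i = j := by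
  rw [← D.inv i, h, D.inv]

theorem TData.app_fix (D : TData T wa wb w f s) {i : Fin n} (hi : f i = i) (hs : s i = 1) :
    w.1 (ee i : V) = ee i := by
  rw [D.app, hi, hs, one_smul]

/-- A moved coordinate outside the four gives a light vector of the plane. -/
theorem TData.outside (D : TData T wa wb w f s) (h2 : (2 : F) ≠ 0) {k : Fin n} (hk : k ∉ T)
    (hmv : ¬ (f k = k ∧ s k = 1)) :
    ∃ p, InP wa wb p ∧ p k ≠ 0 ∧ p (f k) ≠ 0 ∧ ∀ j, j ∉ T → j ≠ k → j ≠ f k → p j = 0 := by
  obtain ⟨p, hp, hp'⟩ := D.data.moved (ee k)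
  refine ⟨p, hp, ?_, ?_, fun j hj hjk hjf => ?_⟩
  · rw [← hp' k hk, D.app, Pi.smul_apply, ee_self, smul_eq_mul]
    rcases eq_or_ne (f k) k with e | e
    · rw [e, ee_self, mul_one]
      rcases D.sgn k with h | h
      · exact absurd ⟨e, h⟩ hmv
      · rw [h]; intro h'; exact h2 (by linear_combination h')
    · rw [ee_ne (Ne.symm e), mul_zero, sub_zero]
      exact one_ne_zero
  · have hfk : f k ∉ T := fun h => hk ((D.mem k).1 h)
    rw [← hp' (f k) hfk, D.app, Pi.smul_apply, ee_self, smul_eq_mul, mul_one]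
    rcases eq_or_ne (f k) k with e | e
    · rw [e, ee_self]
      rcases D.sgn k with h | h
      · exact absurd ⟨e, h⟩ hmv
      · rw [h]; intro h'; exact h2 (by linear_combination h')
    · rw [ee_ne e, zero_sub, neg_ne_zero]
      rcases D.sgn k with h | h <;> rw [h] <;> simp
  · rw [← hp' j hj, D.app, Pi.smul_apply, ee_ne hjk, ee_ne hjf, smul_zero, sub_zero]

theorem TData.fix_plane (D : TData T wa wb w f s) (hout : ∀ k, k ∉ T → f k = k ∧ s k = 1)
    (hno : ∀ p, InP wa wb p → supp p ⊆ T → p = 0) {p : V} (hp : InP wa wb p) : w.1 p = p := by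
  have h : p - w.1 p = 0 := hno _ (hp.sub (D.data.plane p hp)) fun k hk => by
    by_contra hkT
    refine mem_supp.1 hk ?_
    rw [Pi.sub_apply, D.coord, (hout k hkT).1, (hout k hkT).2, one_mul, sub_self]
  exact (sub_eq_zero.1 h).symm

/-- An involution fixing the plane and everything outside the four moves all four. -/
theorem PCtx.all_moved (C : PCtx G wa wb) (hT : T.card = 4) (D : TData T wa wb w f s)
    (hout : ∀ k, k ∉ T → f k = k ∧ s k = 1) (hfix : ∀ p, InP wa wb p → w.1 p = p) :
    ∀ i ∈ T, f i ≠ i := by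
  classical
  have hpos : ∀ i, f i = i → s i = 1 := fun i hi => by
    rcases D.sgn i with h | h
    · exact h
    exfalso
    have hz : ∀ p, InP wa wb p → p i = 0 := fun p hp => by
      have h1 := congrFun (hfix p hp) i
      rw [D.coord, hi, h] at h1
      refine (mul_eq_zero.1 (show 2 * p i = 0 by linear_combination -h1)).resolve_left C.ov.two
    exact C.col_ne i ⟨hz wa InP.left, hz wb InP.right⟩
  intro i hi hfi
  obtain ⟨a, ha⟩ := D.data.notDiag
  have hfa : f a ≠ a := fun e => ha (Or.inl (D.app_fix e (hpos a e)))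
  have haT : a ∈ T := by
    by_contra h
    exact hfa (hout a h).1
  have hbT : f a ∈ T := (D.mem a).2 haT
  have hia : i ≠ a := fun e => hfa (e ▸ hfi)
  have hib : i ≠ f a := fun e => by
    have h1 := D.inv a
    rw [← e, hfi] at h1
    exact hia h1
  have hrest : ∀ k, k ≠ a → k ≠ f a → w.1 (ee k : V) = ee k := by
    intro k hka hkb
    refine D.app_fix ?_ (hpos k ?_) <;>
    · by_cases hkT : k ∈ T
      · by_contra hne
        have h5 : ({i, a, f a, k, f k} : Finset (Fin n)) ⊆ T := by
          simp [Finset.insert_subset_iff, hi, haT, hbT, hkT, (D.mem k).2 hkT]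
        have hik : i ≠ k := fun e => hne (e ▸ hfi)
        have hikf : i ≠ f k := fun e => hik (D.f_inj (hfi.trans e))
        have hakf : a ≠ f k := fun e => hkb (by rw [e, D.inv])
        have hbkf : f a ≠ f k := fun e => hka (D.f_inj e).symm
        have h6 : ({i, a, f a, k, f k} : Finset (Fin n)).card = 5 := by
          rw [Finset.card_insert_of_notMem (by simp [hia, hib, hik, hikf]),
            Finset.card_insert_of_notMem (by simp [hfa.symm, hka.symm, hakf]),
            Finset.card_insert_of_notMem (by simp [hkb.symm, hbkf]),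
            Finset.card_insert_of_notMem (by simpa using Ne.symm hne), Finset.card_singleton]
        have := Finset.card_le_card h5
        omega
      · exact (hout k hkT).1
  have h1 := D.data.dk C.ov.two
  have hsb : s (f a) = s a := by
    have h3 : w.1 (w.1 (ee a : V)) = ee a := congrArg (fun g : quadIso (Q1 F n) => g.1 (ee a : V)) D.data.sq
    rw [D.app a, map_smul, D.app, D.inv, smul_smul] at h3
    have h4 := congrFun h3 a
    rw [Pi.smul_apply, ee_self, smul_eq_mul, mul_one] at h4
    rcases D.sgn a with e | e <;> rw [e] at h4 ⊢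
    · linear_combination h4
    · linear_combination -h4
  rw [dk_swap C.ov.two hfa.symm (D.sgn a) (D.app a) (by rw [D.app, D.inv, hsb]) hrest] at h1
  exact absurd h1 (by decide)

/-- A set of four meeting every vector of the plane little pairs its coordinates. -/
theorem PCtx.partner (C : PCtx G wa wb) (hT : T.card = 4)
    (hbig : ∀ p, InP wa wb p → p ≠ 0 → 3 ≤ (supp p \ T).card) :
    ∀ i ∈ T, ∃ j ∈ T, j ≠ i ∧ Rel wa wb i j := by
  classical
  obtain ⟨w, f, s, D⟩ := C.exists_t hT
  have hout : ∀ k, k ∉ T → f k = k ∧ s k = 1 := by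
    intro k hk
    by_contra hmv
    obtain ⟨p, hp, hpk, -, hz⟩ := D.outside C.ov.two hk hmv
    have h1 : supp p \ T ⊆ {k, f k} := fun j hj => by
      obtain ⟨hj1, hj2⟩ := Finset.mem_sdiff.1 hj
      by_contra hj3
      simp only [Finset.mem_insert, Finset.mem_singleton, not_or] at hj3
      exact mem_supp.1 hj1 (hz j hj2 hj3.1 hj3.2)
    have h2 := hbig p hp fun e => hpk (by rw [e]; rfl)
    have h3 := (Finset.card_le_card h1).trans Finset.card_le_two
    omega
  have hfix : ∀ p, InP wa wb p → w.1 p = p := fun p hp => D.fix_plane hout (fun q hq hqT => by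
    by_contra hq0
    have := hbig q hq hq0
    rw [Finset.sdiff_eq_empty_iff_subset.2 hqT, Finset.card_empty] at this
    omega) hp
  intro i hi
  refine ⟨f i, (D.mem i).2 hi, C.all_moved hT D hout hfix i hi, s i, D.sgn i, ?_, ?_⟩
  · have h1 := congrFun (hfix wa InP.left) i
    rw [D.coord] at h1
    rcases D.sgn i with e | e <;> rw [e] at h1 ⊢ <;> first | linear_combination h1 | linear_combination -h1
  · have h1 := congrFun (hfix wb InP.right) i
    rw [D.coord] at h1
    rcases D.sgn i with e | e <;> rw [e] at h1 ⊢ <;> first | linear_combination h1 | linear_combination -h1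

theorem PCtx.plane_ne (C : PCtx G wa wb) (c : Fin n) : wb c • wa - wa c • wb ≠ 0 := fun h => by
  have h1 := congrArg (fun z => wa ⬝ᵥ z) h
  have h2 := congrArg (fun z => wb ⬝ᵥ z) h
  simp only [dotProduct_sub, dotProduct_smul, C.na, C.nb, C.orth, dotProduct_comm wb wa, dotProduct_zero,
    smul_eq_mul, mul_one, mul_zero, sub_zero, zero_sub, neg_eq_zero] at h1 h2
  exact C.col_ne c ⟨h2, h1⟩

/-- A single light vector of the plane. -/
structure Light (wa wb p0 : Fin n → F) : Prop where
  inP : InP wa wb p0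
  ne : p0 ≠ 0
  card : (supp p0).card ≤ 3

variable {p0 : Fin n → F}

theorem PCtx.light_eq (C : PCtx G wa wb) (L : Light wa wb p0) {p : V} (hp : InP wa wb p)
    (h : (supp p).card ≤ 6) : ∃ t : F, p = t • p0 :=
  C.prop_of_light L.inP hp L.ne (by have := L.card; have := C.dim; omega)

/-- Outside the four, only the support of the light vector moves. -/
theorem PCtx.outside_light (C : PCtx G wa wb) (L : Light wa wb p0) (hT : T.card = 4)
    (D : TData T wa wb w f s) {k : Fin n} (hk : k ∉ T) (hmv : ¬ (f k = k ∧ s k = 1)) :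
    p0 k ≠ 0 ∧ p0 (f k) ≠ 0 ∧ ∀ j, j ∉ T → p0 j ≠ 0 → j = k ∨ j = f k := by
  classical
  obtain ⟨p, hp, hpk, hpf, hz⟩ := D.outside C.ov.two hk hmv
  have h1 : supp p ⊆ T ∪ {k, f k} := fun j hj => by
    by_contra hj'
    simp only [Finset.mem_union, Finset.mem_insert, Finset.mem_singleton, not_or] at hj'
    exact mem_supp.1 hj (hz j hj'.1 hj'.2.1 hj'.2.2)
  obtain ⟨t, rfl⟩ := C.light_eq L hp ((Finset.card_le_card h1).trans
    ((Finset.card_union_le _ _).trans (by rw [hT]; have := Finset.card_le_two (a := k) (b := f k); omega)))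
  have ht : t ≠ 0 := fun e => hpk (by rw [e, zero_smul]; rfl)
  refine ⟨fun e => hpk (by rw [Pi.smul_apply, e, smul_zero]), fun e => hpf (by rw [Pi.smul_apply, e, smul_zero]),
    fun j hj hj0 => ?_⟩
  by_contra hne
  rw [not_or] at hne
  exact smul_ne_zero ht hj0 (hz j hj hne.1 hne.2)

theorem PCtx.no_inside (C : PCtx G wa wb) (L : Light wa wb p0) (hT : T.card = 4) {j : Fin n} (hj : j ∉ T)
    (hj0 : p0 j ≠ 0) {p : V} (hp : InP wa wb p) (hpT : supp p ⊆ T) : p = 0 := by
  obtain ⟨t, rfl⟩ := C.light_eq L hp (by have := Finset.card_le_card hpT; omega)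
  have h1 : t • p0 j = 0 := notMem_supp.1 fun h => hj (hpT h)
  rw [(smul_eq_zero.1 h1).resolve_right hj0, zero_smul]

theorem PCtx.eigen (C : PCtx G wa wb) (L : Light wa wb p0) (D : TData T wa wb w f s) :
    ∃ e : F, (e = 1 ∨ e = -1) ∧ w.1 p0 = e • p0 := by
  classical
  have h1 : (supp (w.1 p0)).card ≤ 6 := by
    refine le_trans (Finset.card_le_card (t := (supp p0).image f) fun j hj => ?_) (Finset.card_image_le.trans (L.card.trans (by norm_num)))
    refine Finset.mem_image.2 ⟨f j, mem_supp.2 fun e => mem_supp.1 hj ?_, D.inv j⟩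
    rw [D.coord, e, mul_zero]
  obtain ⟨t, ht⟩ := C.light_eq L (D.data.plane _ L.inP) h1
  refine ⟨t, ?_, ht⟩
  have h2 : w.1 (w.1 p0) = p0 := congrArg (fun g : quadIso (Q1 F n) => g.1 p0) D.data.sq
  rw [ht, map_smul, ht, smul_smul] at h2
  exact mul_self_eq_one_iff.1 (smul_left_injective F L.ne (show (t * t) • p0 = (1 : F) • p0 by rw [h2, one_smul]))

theorem TData.supp_stable (D : TData T wa wb w f s) {e : F} (he : w.1 p0 = e • p0) (he0 : e ≠ 0) {i : Fin n}
    (hi : p0 i ≠ 0) : p0 (f i) ≠ 0 := fun h => by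
  have h1 := congrFun he i
  rw [D.coord, h, mul_zero, Pi.smul_apply, smul_eq_mul] at h1
  exact hi ((mul_eq_zero.1 h1.symm).resolve_left he0)

/-- The support of size two is impossible. -/
theorem PCtx.two (C : PCtx G wa wb) (L : Light wa wb p0) {i c : Fin n} (hic : i ≠ c)
    (hS : supp p0 = {i, c}) : False := by
  classical
  have h2 := C.ov.two
  have hi : p0 i ≠ 0 := mem_supp.1 (by rw [hS]; simp)
  have hc : p0 c ≠ 0 := mem_supp.1 (by rw [hS]; simp)
  have hz0 : ∀ k, k ≠ i → k ≠ c → p0 k = 0 := fun k h1 h2 => notMem_supp.1 (by rw [hS]; simp [h1, h2])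
  obtain ⟨U, hU, hUc⟩ := Finset.exists_subset_card_eq (s := ({i, c} : Finset (Fin n))ᶜ) (n := 3)
    (by rw [Finset.card_compl, Fintype.card_fin, Finset.card_pair hic]; have := C.dim; omega)
  have hUi : i ∉ U := fun h => by simpa using hU h
  have hUc' : c ∉ U := fun h => by simpa using hU h
  have hT : (insert c U).card = 4 := by rw [Finset.card_insert_of_notMem hUc', hUc]
  have hiT : i ∉ insert c U := by simp [hic, hUi]
  obtain ⟨w, f, s, D⟩ := C.exists_t hT
  obtain ⟨e, he, hwe⟩ := C.eigen L D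
  have he0 : e ≠ 0 := by rcases he with rfl | rfl <;> simp
  have hfc : f c = c := by
    by_contra hne
    have h1 := D.supp_stable hwe he0 hc
    have h3 : f c ∈ insert c U := (D.mem c).2 (Finset.mem_insert_self _ _)
    refine h1 (hz0 _ (fun e => hiT (e ▸ h3)) hne)
  have hout : ∀ k, k ∉ insert c U → k ≠ i → f k = k ∧ s k = 1 := fun k hk hki => by
    by_contra hmv
    exact (C.outside_light L hT D hk hmv).1 (hz0 k hki fun e => hk (e ▸ Finset.mem_insert_self _ _))
  have hfi : f i = i := by
    by_contra hne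
    have h1 := (C.outside_light L hT D hiT fun h => hne h.1).2.1
    refine h1 (hz0 _ hne fun e => hiT ((D.mem i).1 (e ▸ Finset.mem_insert_self _ _)))
  rcases D.sgn i with hsi | hsi
  · have hout' : ∀ k, k ∉ insert c U → f k = k ∧ s k = 1 := fun k hk => by
      by_cases hki : k = i
      · exact hki ▸ ⟨hfi, hsi⟩
      · exact hout k hk hki
    exact C.all_moved hT D hout' (fun p hp => D.fix_plane hout' (fun q hq hqT => C.no_inside L hT hiT hi hq hqT) hp)
      c (Finset.mem_insert_self _ _) hfc
  have he1 : e = -1 := by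
    have h1 := congrFun hwe i
    rw [D.coord, hfi, hsi, Pi.smul_apply, smul_eq_mul] at h1
    exact (mul_right_cancel₀ hi h1).symm
  subst he1
  have hsc : s c = -1 := by
    have h1 := congrFun hwe c
    rw [D.coord, hfc, Pi.smul_apply, smul_eq_mul] at h1
    exact mul_right_cancel₀ hc h1
  obtain ⟨q, hq, hu⟩ : ∃ q, InP wa wb q ∧ q + w.1 q ≠ 0 := by
    by_contra hh
    push Not at hh
    obtain ⟨k, -, hk⟩ := Finset.exists_mem_notMem_of_card_lt_card (s := insert i (insert c U)) (t := Finset.univ)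
      (by rw [Finset.card_insert_of_notMem hiT, hT, Finset.card_univ, Fintype.card_fin]; have := C.dim; omega)
    rw [Finset.mem_insert, not_or] at hk
    have hz : ∀ p, InP wa wb p → p k = 0 := fun p hp => by
      have h1 := congrFun (hh p hp) k
      rw [Pi.add_apply, D.coord, (hout k hk.2 hk.1).1, (hout k hk.2 hk.1).2, Pi.zero_apply] at h1
      exact (mul_eq_zero.1 (show 2 * p k = 0 by linear_combination h1)).resolve_left h2
    exact C.col_ne k ⟨hz wa InP.left, hz wb InP.right⟩
  set u := q + w.1 q with hudef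
  have hu' : InP wa wb u := hq.add (D.data.plane q hq)
  have hwu : w.1 u = u := by
    rw [hudef, map_add, show w.1 (w.1 q) = q from congrArg (fun g : quadIso (Q1 F n) => g.1 q) D.data.sq, add_comm]
  have hneg : ∀ j, f j = j → s j = -1 → u j = 0 := fun j hj hsj => by
    have h1 := congrFun hwu j
    rw [D.coord, hj, hsj] at h1
    exact (mul_eq_zero.1 (show 2 * u j = 0 by linear_combination -h1)).resolve_left h2
  obtain ⟨a, hna⟩ := D.data.notDiag
  have hfa : f a ≠ a := fun e => hna (by
    rcases D.sgn a with h | h <;> [left; right] <;> rw [D.app, e, h] <;> simp)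
  have haU : a ∈ U := by
    by_contra haU
    by_cases hac : a = c
    · exact hfa (hac ▸ hfc)
    by_cases hai : a = i
    · exact hfa (hai ▸ hfi)
    exact hfa (hout a (by simp [hac, haU]) hai).1
  have hbU : f a ∈ U := by
    have h1 := (D.mem a).2 (Finset.mem_insert_of_mem haU)
    refine (Finset.mem_insert.1 h1).resolve_left fun e => ?_
    rw [← hfc] at e
    exact hUc' ((D.f_inj e) ▸ haU)
  obtain ⟨z, hz⟩ : ∃ z, z ∈ U \ {a, f a} := Finset.card_pos.1 (by
    rw [Finset.card_sdiff_of_subset (by simp [Finset.insert_subset_iff, haU, hbU]), hUc,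
      Finset.card_pair hfa.symm]
    norm_num)
  simp only [Finset.mem_sdiff, Finset.mem_insert, Finset.mem_singleton, not_or] at hz
  obtain ⟨hzU, hza, hzb⟩ := hz
  have hUeq : U = {a, f a, z} := by
    refine (Finset.eq_of_subset_of_card_le (by simp [Finset.insert_subset_iff, haU, hbU, hzU]) ?_).symm
    rw [hUc, Finset.card_insert_of_notMem (by simp [hfa.symm, Ne.symm hza]), Finset.card_pair (Ne.symm hzb)]
  have hfz : f z = z := by
    have h1 := (D.mem z).2 (Finset.mem_insert_of_mem hzU)
    rw [hUeq, Finset.mem_insert, Finset.mem_insert, Finset.mem_insert, Finset.mem_singleton] at h1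
    rcases h1 with h | h | h | h
    · rw [← hfc] at h
      exact absurd (D.f_inj h) fun e => hUc' (e ▸ hzU)
    · exact absurd (by rw [← h, D.inv] : f a = z) (Ne.symm hzb)
    · exact absurd (D.f_inj h) hza
    · exact h
  rcases D.sgn z with hsz | hsz
  · -- an odd element
    have hsb : w.1 (ee (f a) : V) = s a • ee a := by
      have h3 : w.1 (w.1 (ee a : V)) = ee a := congrArg (fun g : quadIso (Q1 F n) => g.1 (ee a : V)) D.data.sq
      rw [D.app a, map_smul] at h3
      rcases D.sgn a with e | e <;> rw [e] at h3 ⊢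
      · rw [one_smul] at h3 ⊢; exact h3
      · rw [neg_one_smul] at h3 ⊢; exact neg_eq_iff_eq_neg.1 h3
    have hai : i ≠ a := fun e => hUi (e ▸ haU)
    have hac : c ≠ a := fun e => hUc' (e ▸ haU)
    have hbi : i ≠ f a := fun e => hUi (e ▸ hbU)
    have hbc : c ≠ f a := fun e => hUc' (e ▸ hbU)
    have hone : ∀ j : Fin n, (ee j : V) ⬝ᵥ ee j ≠ 0 := fun j => by rw [ee_norm]; exact one_ne_zero
    have hperp : ∀ j k : Fin n, j ≠ k → (rf (ee j : V)).1 (ee k) = ee k := fun j k hjk =>
      rf_perp (hone j) (by rw [ee_dot, ee_ne hjk])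
    have h1 := D.data.dk h2
    have h3 := dk_swap h2 hfa.symm (D.sgn a) (w := w * (rf (ee i : V) * rf (ee c : V)))
      (show w.1 ((rf (ee i : V)).1 ((rf (ee c : V)).1 (ee a))) = _ by
        rw [hperp c a hac, hperp i a hai, D.app])
      (show w.1 ((rf (ee i : V)).1 ((rf (ee c : V)).1 (ee (f a)))) = _ by
        rw [hperp c (f a) hbc, hperp i (f a) hbi, hsb])
      (fun k hka hkb => show w.1 ((rf (ee i : V)).1 ((rf (ee c : V)).1 (ee k))) = _ by
        by_cases hkc : k = c
        · subst hkc
          rw [rf_self (hone k), map_neg, hperp i k hic, map_neg, D.app, hfc, hsc, neg_one_smul, neg_neg]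
        by_cases hki : k = i
        · subst hki
          rw [hperp c k hic.symm, rf_self (hone k), map_neg, D.app, hfi, hsi, neg_one_smul, neg_neg]
        rw [hperp c k (Ne.symm hkc), hperp i k (Ne.symm hki)]
        by_cases hkT : k ∈ insert c U
        · rw [Finset.mem_insert, hUeq, Finset.mem_insert, Finset.mem_insert, Finset.mem_singleton] at hkT
          rcases hkT with h | h | h | h
          · exact absurd h hkc
          · exact absurd h hka
          · exact absurd h hkb
          · exact h ▸ D.app_fix hfz hsz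
        · exact D.app_fix (hout k hkT hki).1 (hout k hkT hki).2)
    rw [map_mul, map_mul, h1, dk_rf h2 (hone i), dk_rf h2 (hone c)] at h3
    exact absurd h3 (by decide)
  · -- a zero column
    have huz := hneg z hfz hsz
    have hui := hneg i hfi hsi
    have hpz : p0 z = 0 := hz0 z (fun e => hUi (e ▸ hzU)) fun e => hUc' (e ▸ hzU)
    have hall : ∀ p, InP wa wb p → p z = 0 := fun p hp => by
      obtain ⟨t, ht⟩ := C.prop_of_zero hu' (hp.sub (L.inP.smul (p i / p0 i))) hu hui
        (by rw [Pi.sub_apply, Pi.smul_apply, smul_eq_mul, div_mul_cancel₀ _ hi, sub_self])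
      have h1 := congrFun ht z
      rw [Pi.sub_apply, Pi.smul_apply, Pi.smul_apply, hpz, huz, smul_zero, smul_zero, sub_zero] at h1
      exact h1
    exact C.col_ne z ⟨hall wa InP.left, hall wb InP.right⟩

/-- With support of size three, two coordinates are related or there is an orthogonal vector. -/
theorem PCtx.three_dich (C : PCtx G wa wb) (L : Light wa wb p0) {i c d : Fin n} (hic : i ≠ c) (hid : i ≠ d)
    (hcd : c ≠ d) (hS : supp p0 = {i, c, d}) :
    Rel wa wb c d ∨ ∃ u, InP wa wb u ∧ u ≠ 0 ∧ u i = 0 ∧ u ⬝ᵥ p0 = 0 := by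
  classical
  have h2 := C.ov.two
  have hi : p0 i ≠ 0 := mem_supp.1 (by rw [hS]; simp)
  have hc : p0 c ≠ 0 := mem_supp.1 (by rw [hS]; simp)
  have hd : p0 d ≠ 0 := mem_supp.1 (by rw [hS]; simp)
  have hz0 : ∀ k, k ≠ i → k ≠ c → k ≠ d → p0 k = 0 := fun k h1 h2 h3 =>
    notMem_supp.1 (by rw [hS]; simp [h1, h2, h3])
  obtain ⟨U, hU, hUc⟩ := Finset.exists_subset_card_eq (s := ({i, c, d} : Finset (Fin n))ᶜ) (n := 3)
    (by rw [Finset.card_compl, Fintype.card_fin]
        have := Finset.card_le_three (a := i) (b := c) (c := d)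
        have := C.dim
        omega)
  have hUi : i ∉ U := fun h => by simpa using hU h
  have hUc' : c ∉ U := fun h => by simpa using hU h
  have hUd : d ∉ U := fun h => by simpa using hU h
  have hT : (insert i U).card = 4 := by rw [Finset.card_insert_of_notMem hUi, hUc]
  have hcT : c ∉ insert i U := by simp [hUc', hic.symm]
  have hdT : d ∉ insert i U := by simp [hUd, hid.symm]
  obtain ⟨w, f, s, D⟩ := C.exists_t hT
  obtain ⟨e, he, hwe⟩ := C.eigen L D
  have he0 : e ≠ 0 := by rcases he with rfl | rfl <;> simp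
  have hfi : f i = i := by
    by_contra hne
    have h3 : f i ∈ insert i U := (D.mem i).2 (Finset.mem_insert_self _ _)
    exact D.supp_stable hwe he0 hi (hz0 _ hne (fun e => hcT (e ▸ h3)) fun e => hdT (e ▸ h3))
  have hsi : s i = e := by
    have h1 := congrFun hwe i
    rw [D.coord, hfi, Pi.smul_apply, smul_eq_mul] at h1
    exact mul_right_cancel₀ hi h1
  have hout : ∀ k, k ∉ insert i U → k ≠ c → k ≠ d → f k = k ∧ s k = 1 := fun k hk hkc hkd => by
    by_contra hmv
    exact (C.outside_light L hT D hk hmv).1 (hz0 k (fun e => hk (e ▸ Finset.mem_insert_self _ _)) hkc hkd)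
  have hcase : (f c = c ∧ s c = 1) ∨ f c = d := by
    by_cases hmv : f c = c ∧ s c = 1
    · exact Or.inl hmv
    · obtain ⟨-, -, h3⟩ := C.outside_light L hT D hcT hmv
      exact Or.inr ((h3 d hdT hd).resolve_left hcd.symm).symm
  rcases hcase with hcfix | hfc
  · exfalso
    have hdfix : f d = d ∧ s d = 1 := by
      by_contra hmv
      obtain ⟨-, -, h3⟩ := C.outside_light L hT D hdT hmv
      rcases h3 c hcT hc with h | h
      · exact hcd h
      · exact hcd (D.f_inj (hcfix.1.trans h))
    have hout' : ∀ k, k ∉ insert i U → f k = k ∧ s k = 1 := fun k hk => by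
      by_cases hkc : k = c
      · exact hkc ▸ hcfix
      by_cases hkd : k = d
      · exact hkd ▸ hdfix
      exact hout k hk hkc hkd
    exact C.all_moved hT D hout' (fun p hp => D.fix_plane hout' (fun q hq hqT => C.no_inside L hT hcT hc hq hqT) hp)
      i (Finset.mem_insert_self _ _) hfi
  by_cases hfix : ∀ p, InP wa wb p → w.1 p = p
  · refine Or.inl ⟨s c, D.sgn c, ?_, ?_⟩
    · have h1 := congrFun (hfix wa InP.left) c
      rw [D.coord, hfc] at h1
      rcases D.sgn c with e | e <;> rw [e] at h1 ⊢ <;> first | linear_combination h1 | linear_combination -h1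
    · have h1 := congrFun (hfix wb InP.right) c
      rw [D.coord, hfc] at h1
      rcases D.sgn c with e | e <;> rw [e] at h1 ⊢ <;> first | linear_combination h1 | linear_combination -h1
  obtain ⟨k, -, hk⟩ := Finset.exists_mem_notMem_of_card_lt_card (s := insert c (insert d (insert i U)))
    (t := Finset.univ) (by
      rw [Finset.card_univ, Fintype.card_fin]
      have := Finset.card_insert_le c (insert d (insert i U))
      have := Finset.card_insert_le d (insert i U)
      have := C.dim
      omega)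
  simp only [Finset.mem_insert, not_or] at hk
  have hkfix := hout k (by simp [hk.2.2.1, hk.2.2.2]) hk.1 hk.2.1
  rcases he with rfl | rfl
  · exfalso
    push Not at hfix
    obtain ⟨q, hq, hqne⟩ := hfix
    set u := q - w.1 q with hu
    have hu0 : u ≠ 0 := sub_ne_zero.2 (Ne.symm hqne)
    have hwu : w.1 u = -u := by
      rw [hu, map_sub, show w.1 (w.1 q) = q from congrArg (fun g : quadIso (Q1 F n) => g.1 q) D.data.sq, neg_sub]
    have hpos : ∀ j, f j = j → s j = 1 → u j = 0 := fun j hj hsj => by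
      have h1 := congrFun hwu j
      rw [D.coord, hj, hsj, Pi.neg_apply] at h1
      exact (mul_eq_zero.1 (show 2 * u j = 0 by linear_combination h1)).resolve_left h2
    have hsupp : supp u ⊆ insert c (insert d (insert i U)) := fun j hj => by
      by_contra hj'
      simp only [Finset.mem_insert, not_or] at hj'
      have h1 := hout j (by simp [hj'.2.2.1, hj'.2.2.2]) hj'.1 hj'.2.1
      exact mem_supp.1 hj (hpos j h1.1 h1.2)
    obtain ⟨t, ht⟩ := C.light_eq L (hq.sub (D.data.plane q hq) : InP wa wb u) ((Finset.card_le_card hsupp).trans (by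
      have := Finset.card_insert_le c (insert d (insert i U))
      have := Finset.card_insert_le d (insert i U)
      omega))
    replace ht : u = t • p0 := ht
    have h1 := hpos i hfi hsi
    rw [ht, Pi.smul_apply, smul_eq_zero] at h1
    exact hu0 (by rw [ht, h1.resolve_right hi, zero_smul])
  right
  obtain ⟨q, hq, hu⟩ : ∃ q, InP wa wb q ∧ q + w.1 q ≠ 0 := by
    by_contra hh
    push Not at hh
    have hz : ∀ p, InP wa wb p → p k = 0 := fun p hp => by
      have h1 := congrFun (hh p hp) k
      rw [Pi.add_apply, D.coord, hkfix.1, hkfix.2, Pi.zero_apply] at h1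
      exact (mul_eq_zero.1 (show 2 * p k = 0 by linear_combination h1)).resolve_left h2
    exact C.col_ne k ⟨hz wa InP.left, hz wb InP.right⟩
  have hwu : w.1 (q + w.1 q) = q + w.1 q := by
    rw [map_add, show w.1 (w.1 q) = q from congrArg (fun g : quadIso (Q1 F n) => g.1 q) D.data.sq, add_comm]
  refine ⟨q + w.1 q, hq.add (D.data.plane q hq), hu, ?_, ?_⟩
  · have h1 := congrFun hwu i
    rw [D.coord, hfi, hsi] at h1
    exact (mul_eq_zero.1 (show 2 * (q + w.1 q) i = 0 by linear_combination -h1)).resolve_left h2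
  · have h1 := dot_map w h2 (q + w.1 q) p0
    rw [hwu, hwe, dotProduct_smul, smul_eq_mul] at h1
    exact (mul_eq_zero.1 (show 2 * ((q + w.1 q) ⬝ᵥ p0) = 0 by linear_combination -h1)).resolve_left h2

/-- The commutator of the plane involution with a pair of signs. -/
theorem PCtx.finish (C : PCtx G wa wb) (L : Light wa wb p0) (hS : (supp p0).card = 3)
    (hC : ∀ a, p0 a = 0 → ∀ b, p0 b = 0 → Rel wa wb a b) {u : V} {i : Fin n} (hu : InP wa wb u) (hu0 : u ≠ 0)
    (hui : u i = 0) (hi : p0 i ≠ 0) (hup : u ⬝ᵥ p0 = 0) : False := by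
  classical
  have h2 := C.ov.two
  have hn5 : 5 ≤ n := by have := C.dim; omega
  have hbig : 7 ≤ (supp u).card := by
    by_contra hh
    obtain ⟨t, ht⟩ := C.light_eq L hu (by omega)
    rw [ht, Pi.smul_apply, smul_eq_zero] at hui
    exact hu0 (by rw [ht, hui.resolve_right hi, zero_smul])
  have hspan : ∀ p, InP wa wb p → ∃ α β : F, p = α • p0 + β • u := fun p hp => by
    obtain ⟨t, ht⟩ := C.prop_of_zero hu (hp.sub (L.inP.smul (p i / p0 i))) hu0 hui
      (by rw [Pi.sub_apply, Pi.smul_apply, smul_eq_mul, div_mul_cancel₀ _ hi, sub_self])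
    exact ⟨p i / p0 i, t, by rw [← ht]; abel⟩
  have hperp : ∀ z, p0 ⬝ᵥ z = 0 → u ⬝ᵥ z = 0 → wa ⬝ᵥ z = 0 ∧ wb ⬝ᵥ z = 0 := fun z h h' => by
    obtain ⟨α, β, ha⟩ := hspan wa InP.left
    obtain ⟨γ, δ, hb⟩ := hspan wb InP.right
    exact ⟨by rw [ha, add_dotProduct, smul_dotProduct, smul_dotProduct, h, h', smul_zero, smul_zero, add_zero],
      by rw [hb, add_dotProduct, smul_dotProduct, smul_dotProduct, h, h', smul_zero, smul_zero, add_zero]⟩
  have hzero : ∀ p, InP wa wb p → p0 ⬝ᵥ p = 0 → u ⬝ᵥ p = 0 → p = 0 := fun p hp h h' => by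
    obtain ⟨α, β, rfl⟩ := hp
    obtain ⟨h3, h4⟩ := hperp _ h h'
    simp only [dotProduct_add, dotProduct_smul, C.na, C.nb, C.orth, dotProduct_comm wb wa, smul_eq_mul] at h3 h4
    rw [show α = 0 by linear_combination h3, show β = 0 by linear_combination h4, zero_smul, zero_smul, add_zero]
  have hN0 : p0 ⬝ᵥ p0 ≠ 0 := fun h => L.ne (hzero _ L.inP h hup)
  have hNu : u ⬝ᵥ u ≠ 0 := fun h => hu0 (hzero _ hu (by rw [dotProduct_comm]; exact hup) h)
  have hx : rf wa * rf wb = rf p0 * rf u := ext_iso fun v => by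
    obtain ⟨a, b, hv⟩ : ∃ a b : F, wa ⬝ᵥ v = a ∧ wb ⬝ᵥ v = b := ⟨_, _, rfl, rfl⟩
    set z := v - (a • wa + b • wb) with hz
    have hza : wa ⬝ᵥ z = 0 := by
      rw [hz]; simp only [dotProduct_sub, dotProduct_add, dotProduct_smul, hv.1, C.na, C.orth, smul_eq_mul]; ring
    have hzb : wb ⬝ᵥ z = 0 := by
      rw [hz]; simp only [dotProduct_sub, dotProduct_add, dotProduct_smul, hv.2, C.nb, dotProduct_comm wb wa,
        C.orth, smul_eq_mul]; ring
    have hall : ∀ p, InP wa wb p → p ⬝ᵥ z = 0 := fun p hp => by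
      obtain ⟨α, β, rfl⟩ := hp
      rw [add_dotProduct, smul_dotProduct, smul_dotProduct, hza, hzb, smul_zero, smul_zero, add_zero]
    have hxz : (rf wa * rf wb).1 z = z := by
      rw [pair_apply C.na C.nb C.orth, hza, hzb]; simp
    have hyz : (rf p0 * rf u).1 z = z := by
      show (rf p0).1 ((rf u).1 z) = z
      rw [rf_perp hNu (hall u hu), rf_perp hN0 (hall p0 L.inP)]
    have hp : InP wa wb (a • wa + b • wb) := ⟨a, b, rfl⟩
    obtain ⟨α, β, hab⟩ := hspan _ hp
    have hy : (rf p0 * rf u).1 (a • wa + b • wb) = -(a • wa + b • wb) := by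
      show (rf p0).1 ((rf u).1 _) = _
      simp only [hab, map_add, map_smul, rf_perp hNu hup, rf_self hNu, rf_self hN0, map_neg,
        rf_perp hN0 (show p0 ⬝ᵥ u = 0 by rw [dotProduct_comm]; exact hup)]
      module
    have hsum : ∀ (g : quadIso (Q1 F n)) (x y : V), g.1 (x + y) = g.1 x + g.1 y := fun g x y => map_add g.1 x y
    rw [show v = z + (a • wa + b • wb) by rw [hz]; abel, hsum (rf wa * rf wb) z _,
      hsum (rf p0 * rf u) z _, hxz, hyz, hy, InP.neg_of C hp]
  obtain ⟨A, hA, hAc⟩ := Finset.exists_subset_card_eq (s := (supp p0)ᶜ) (n := 2)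
    (by rw [Finset.card_compl, Fintype.card_fin, hS]; have := C.dim; omega)
  obtain ⟨a, b, hab, rfl⟩ := Finset.card_eq_two.1 hAc
  simp only [Finset.insert_subset_iff, Finset.singleton_subset_iff, Finset.mem_compl, notMem_supp] at hA
  obtain ⟨hpa, hpb⟩ := hA
  have hua : u a ≠ 0 := fun h0 => by
    have h1 : supp u ⊆ supp p0 := fun j hj => mem_supp.2 fun hj0 => by
      obtain ⟨r, -, hr⟩ := (hC a hpa j hj0).app hu
      exact mem_supp.1 hj (by rw [hr, h0, mul_zero])
    have := Finset.card_le_card h1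
    omega
  obtain ⟨r, hr, hub⟩ := (hC a hpa b hpb).app hu
  set d := rf (ee a : V) * rf (ee b : V) with hd
  have hdG : d ∈ G := C.ov.pair_ee hn5 a b
  have hdv : ∀ (v : V) k, d.1 v k = if k = a ∨ k = b then -v k else v k := fun v k => by
    show (rf (ee a : V)).1 ((rf (ee b : V)).1 v) k = _
    simp only [rf_ee_apply]
    by_cases h : k = a
    · simp [h, hab]
    · by_cases h' : k = b <;> simp [h, h', Ne.symm hab]
  have hdp : d.1 p0 = p0 := funext fun k => by
    rw [hdv]
    split_ifs with h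
    · rcases h with rfl | rfl <;> simp [hpa, hpb]
    · rfl
  set u' := d.1 u with hu'
  have hNu' : u' ⬝ᵥ u' = u ⬝ᵥ u := dot_map d h2 u u
  have hy : rf u * rf u' ∈ G := by
    have hcomm : rf p0 * rf u = rf u * rf p0 := by
      have h1 := rf_conj (rf u) p0
      rw [rf_perp hNu hup, rf_inv] at h1
      calc rf p0 * rf u = rf u * rf p0 * rf u * rf u := by rw [h1]
        _ = rf u * rf p0 := by rw [mul_assoc _ (rf u) (rf u), rf_mul_self, mul_one]
    have h1 : rf u * rf u' = rf wa * rf wb * (d * (rf wa * rf wb) * d⁻¹) := by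
      rw [hx, show d * (rf p0 * rf u) * d⁻¹ = (d * rf p0 * d⁻¹) * (d * rf u * d⁻¹) by group, rf_conj, rf_conj, hdp]
      conv_rhs => rw [hcomm, mul_assoc, ← mul_assoc (rf p0), rf_mul_self, one_mul]
    rw [h1]
    exact mul_mem C.mem (mul_mem (mul_mem hdG C.mem) (inv_mem hdG))
  have hia : i ≠ a := fun e => hi (e ▸ hpa)
  have hib : i ≠ b := fun e => hi (e ▸ hpb)
  have hNu'0 : u' ⬝ᵥ u' ≠ 0 := by rw [hNu']; exact hNu
  have hfix : (rf u * rf u').1 (ee i : V) = ee i := by
    show (rf u).1 ((rf u').1 (ee i)) = _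
    rw [rf_perp hNu'0 (by rw [dot_ee, hu', hdv, if_neg (by simp [hia, hib]), hui]),
      rf_perp hNu (by rw [dot_ee, hui])]
  have hm := C.star _ hy ⟨i, i, Or.inl hfix⟩
  obtain ⟨z, hz, hza, hzb⟩ : ∃ z ∈ supp u, z ≠ a ∧ z ≠ b := by
    obtain ⟨z, hz, hz'⟩ := Finset.exists_mem_notMem_of_card_lt_card (s := ({a, b} : Finset (Fin n))) (t := supp u)
      (by rw [Finset.card_pair hab]; omega)
    simp only [Finset.mem_insert, Finset.mem_singleton, not_or] at hz'
    exact ⟨z, hz, hz'⟩
  have hdot : u ⬝ᵥ u' = u ⬝ᵥ u - 2 * (u a * u a + u b * u b) := by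
    have h1 : ∀ k, u' k = u k - 2 * (if k = a then u a else 0) - 2 * (if k = b then u b else 0) := fun k => by
      rw [hu', hdv]
      by_cases h : k = a
      · subst h; simp [hab]; ring
      · by_cases h' : k = b
        · subst h'; simp [h]; ring
        · simp [h, h']
    simp only [dotProduct, h1, mul_sub, Finset.sum_sub_distrib]
    simp only [mul_ite, mul_zero, Finset.sum_ite_eq', Finset.mem_univ, if_true]
    ring
  have hcoef : ∀ k, k ≠ a → k ≠ b → k ≠ z → (rf u * rf u').1 (ee z : V) k * ((u ⬝ᵥ u) * (u ⬝ᵥ u)) =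
      -8 * (u a * u a + u b * u b) * (u z * u k) := by
    intro k hka hkb hkz
    show (rf u).1 ((rf u').1 (ee z)) k * _ = _
    rw [rf_apply hNu'0, rf_apply hNu, dot_ee, hNu', show u' z = u z by rw [hu', hdv, if_neg (by simp [hza, hzb])]]
    simp only [dotProduct_sub, dotProduct_smul, dot_ee, smul_eq_mul, Pi.sub_apply, Pi.smul_apply, ee_ne hkz,
      show u' k = u k by rw [hu', hdv, if_neg (by simp [hka, hkb])], hdot]
    field_simp
    ring
  obtain ⟨j, hj⟩ := hm z
  obtain ⟨k, hk, hk'⟩ := Finset.exists_mem_notMem_of_card_lt_card (s := ({a, b, z, j} : Finset (Fin n)))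
    (t := supp u) (by have := Finset.card_le_four (a := a) (b := b) (c := z) (d := j); omega)
  simp only [Finset.mem_insert, Finset.mem_singleton, not_or] at hk'
  have h1 := hcoef k hk'.1 hk'.2.1 hk'.2.2.1
  rw [show (rf u * rf u').1 (ee z : V) k = 0 by
    rcases hj with e | e <;> rw [e] <;> simp [ee_ne hk'.2.2.2], zero_mul, hub] at h1
  have hrr : r * r = 1 := by rcases hr with rfl | rfl <;> ring
  have h3 : (2 : F) ^ 4 * (u a * u a * (u z * u k)) = 0 := by
    linear_combination h1 - (8 * u a * u a * u z * u k) * hrr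
  exact mul_ne_zero (pow_ne_zero 4 h2)
    (mul_ne_zero (mul_ne_zero hua hua) (mul_ne_zero (mem_supp.1 hz) (mem_supp.1 hk))) h3

/-- Two vectors of the plane on complementary odd sets of coordinates. -/
theorem PCtx.no_split (C : PCtx G wa wb) {p q : V} (hp : InP wa wb p) (hq : InP wa wb q) (hq0 : q ≠ 0)
    (hdisj : ∀ k, p k = 0 ∨ q k = 0) (hodd : Odd (supp p).card) : False := by
  classical
  obtain ⟨j, hj⟩ := Finset.card_pos.1 hodd.pos
  have hqj : q j = 0 := (hdisj j).resolve_left (mem_supp.1 hj)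
  have hsum : ∀ r, InP wa wb r → ∃ t u : F, r = t • p + u • q := fun r hr => by
    obtain ⟨u, hu⟩ := C.prop_of_zero hq (hr.sub (hp.smul (r j / p j))) hq0 (k := j) hqj (by
      rw [Pi.sub_apply, Pi.smul_apply, smul_eq_mul, div_mul_cancel₀ _ (mem_supp.1 hj), sub_self])
    exact ⟨r j / p j, u, by rw [← hu]; abel⟩
  have hpq : q ⬝ᵥ p = 0 := Finset.sum_eq_zero fun k _ => by
    rcases hdisj k with h | h <;> simp [h]
  have hdotq : ∀ t u : F, q ⬝ᵥ (t • p + u • q) = u * (q ⬝ᵥ q) := fun t u => by
    rw [dotProduct_add, dotProduct_smul, dotProduct_smul, hpq]; simp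
  obtain ⟨c, d, hcd⟩ := id hq
  have hqq : q ⬝ᵥ q ≠ 0 := fun h => by
    obtain ⟨t, u, ha⟩ := hsum wa InP.left
    obtain ⟨t', u', hb⟩ := hsum wb InP.right
    have h1 := hdotq t u
    have h2 := hdotq t' u'
    rw [← ha, h, mul_zero, hcd] at h1
    rw [← hb, h, mul_zero, hcd] at h2
    simp only [add_dotProduct, smul_dotProduct, C.na, C.nb, C.orth, dotProduct_comm wb wa, smul_eq_mul,
      mul_one, mul_zero, add_zero, zero_add] at h1 h2
    rw [h1, h2] at hcd
    exact hq0 (by rw [hcd]; simp)
  have hkey : ∀ a ∈ supp p, ∀ k, k ∉ supp p → wa a * wa k + wb a * wb k = 0 := fun a ha k hk => by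
    obtain ⟨t, u, hr⟩ := hsum (wa a • wa + wb a • wb) ((InP.left.smul _).add (InP.right.smul _))
    have h1 := hdotq t u
    rw [← hr] at h1
    have h2 : q ⬝ᵥ (wa a • wa + wb a • wb) = q a := by
      rw [hcd]
      simp only [add_dotProduct, dotProduct_add, dotProduct_smul, smul_dotProduct, C.na, C.nb, C.orth,
        dotProduct_comm wb wa, Pi.add_apply, Pi.smul_apply, smul_eq_mul]
      ring
    rw [h2, (hdisj a).resolve_left (mem_supp.1 ha), eq_comm, mul_eq_zero] at h1
    have h3 := congrFun hr k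
    rw [h1.resolve_right hqq, zero_smul, add_zero, Pi.smul_apply, notMem_supp.1 hk, smul_zero] at h3
    simpa using h3
  have hval : ∀ k i : Fin n, (rf wa * rf wb).1 (ee k : V) i = ee k i - 2 * (wa k * wa i + wb k * wb i) :=
    fun k i => by
      rw [pair_apply C.na C.nb C.orth, dot_ee, dot_ee]
      simp only [Pi.sub_apply, Pi.smul_apply, smul_eq_mul]
      ring
  have hn5 : 5 ≤ n := by have := C.dim; omega
  refine C.notMono (no_preserve_odd C.ov hn5 C.star C.mem hodd ?_ (fun k hk i hi => ?_) fun a ha i hi => ?_)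
  · by_contra hh
    push Not at hh
    exact hq0 (funext fun k => (hdisj k).resolve_left (mem_supp.1 (hh k)))
  · rw [hval, ee_ne (fun e : i = k => hk (e ▸ hi))]
    linear_combination (-2 : F) * hkey i hi k hk
  · by_contra hiS
    refine mem_supp.1 hi ?_
    rw [hval, ee_ne (fun e : i = a => hiS (e ▸ ha))]
    linear_combination (-2 : F) * hkey a ha i hiS

theorem PCtx.false (C : PCtx G wa wb) : False := by
  classical
  by_cases hex : ∃ k, k ≤ 6 ∧ ∃ p, InP wa wb p ∧ p ≠ 0 ∧ (supp p).card = k
  swap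
  · have hall := all_rel (wa := wa) (wb := wb) (C := Finset.univ)
      (by simp; have := C.dim; omega) fun T _ hT => C.partner hT fun p hp hp0 => by
        by_contra hh
        refine hex ⟨_, ?_, p, hp, hp0, rfl⟩
        have h1 : supp p ⊆ (supp p \ T) ∪ T := fun j hj => by
          simp only [Finset.mem_union, Finset.mem_sdiff]; tauto
        have := (Finset.card_le_card h1).trans (Finset.card_union_le _ _)
        omega
    set c : Fin n := ⟨0, by have := C.dim; omega⟩
    refine C.plane_ne c (funext fun j => ?_)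
    obtain ⟨r, -, ha, hb⟩ := hall c (Finset.mem_univ _) j (Finset.mem_univ _)
    simp only [Pi.sub_apply, Pi.smul_apply, smul_eq_mul, ha, hb, Pi.zero_apply]
    ring
  obtain ⟨hs6, p0, hp0P, hp0ne, hp0s⟩ := Nat.find_spec hex
  have hmin : ∀ p, InP wa wb p → p ≠ 0 → (supp p0).card ≤ (supp p).card := fun p hp hp0 => by
    by_contra hlt
    exact absurd (Nat.find_min' hex ⟨(by omega : (supp p).card ≤ 6), p, hp, hp0, rfl⟩) (by omega)
  have hdecomp : ∀ (p : Fin n → F) (T : Finset (Fin n)), (supp p).card ≤ (supp p \ T).card + T.card :=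
    fun p T => (Finset.card_le_card (fun j hj => by
      simp only [Finset.mem_union, Finset.mem_sdiff]; tauto)).trans (Finset.card_union_le _ _)
  rcases le_or_gt 4 (supp p0).card with h4 | h4
  · -- a member of the support off every other light vector
    obtain ⟨i, hi, hioff⟩ : ∃ i ∈ supp p0, ∀ p, InP wa wb p → (supp p).card ≤ 6 → (¬ ∃ t : F, p = t • p0) →
        p i = 0 := by
      by_cases hoth : ∃ p, InP wa wb p ∧ (supp p).card ≤ 6 ∧ ¬ ∃ t : F, p = t • p0
      swap
      · obtain ⟨i, hi⟩ := Finset.card_pos.1 (show 0 < (supp p0).card by omega)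
        exact ⟨i, hi, fun p hp h6 hne => absurd ⟨p, hp, h6, hne⟩ hoth⟩
      obtain ⟨p', hp', h6', hne'⟩ := hoth
      have hp'0 : p' ≠ 0 := fun e => hne' ⟨0, by rw [e, zero_smul]⟩
      have hcover : ∀ p, InP wa wb p → (¬ ∃ t : F, p = t • p0) → (supp p0)ᶜ ⊆ supp p := fun p hp hne j hj =>
        mem_supp.2 fun h => hne (C.prop_of_zero hp0P hp hp0ne (notMem_supp.1 (Finset.mem_compl.1 hj)) h)
      have hsmall : ∀ p, InP wa wb p → (supp p).card ≤ 6 → (¬ ∃ t : F, p = t • p0) →
          (supp p ∩ supp p0).card + (n - (supp p0).card) ≤ 6 := fun p hp h6 hne => by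
        have h1 : (supp p ∩ supp p0) ∪ (supp p0)ᶜ ⊆ supp p :=
          Finset.union_subset Finset.inter_subset_left (hcover p hp hne)
        have h2 := Finset.card_le_card h1
        rw [Finset.card_union_of_disjoint (Finset.disjoint_left.2 fun j hj hj' =>
          Finset.mem_compl.1 hj' (Finset.mem_inter.1 hj).2), Finset.card_compl, Fintype.card_fin] at h2
        omega
      obtain ⟨i, hi, hi'⟩ := Finset.exists_mem_notMem_of_card_lt_card (s := supp p' ∩ supp p0) (t := supp p0)
        (by have := hsmall p' hp' h6' hne'; have := C.dim; omega)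
      have hpi : p' i = 0 := notMem_supp.1 fun h => hi' (Finset.mem_inter.2 ⟨h, hi⟩)
      refine ⟨i, hi, fun p hp h6 hne => ?_⟩
      obtain ⟨j, hj, hj'⟩ := Finset.exists_mem_notMem_of_card_lt_card
        (s := (supp p ∩ supp p0) ∪ (supp p' ∩ supp p0)) (t := supp p0) (by
          have := hsmall p' hp' h6' hne'
          have := hsmall p hp h6 hne
          have := Finset.card_union_le (supp p ∩ supp p0) (supp p' ∩ supp p0)
          have := C.dim
          omega)
      rw [Finset.mem_union, not_or] at hj'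
      obtain ⟨t, rfl⟩ := C.prop_of_zero hp' hp hp'0
        (notMem_supp.1 fun h => hj'.2 (Finset.mem_inter.2 ⟨h, hj⟩))
        (notMem_supp.1 fun h => hj'.1 (Finset.mem_inter.2 ⟨h, hj⟩))
      rw [Pi.smul_apply, hpi, smul_zero]
    obtain ⟨U, hU, hUc⟩ := Finset.exists_subset_card_eq (s := (supp p0)ᶜ) (n := 3)
      (by rw [Finset.card_compl, Fintype.card_fin]; have := C.dim; omega)
    have hiU : i ∉ U := fun h => Finset.mem_compl.1 (hU h) hi
    have hT : (insert i U).card = 4 := by rw [Finset.card_insert_of_notMem hiU, hUc]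
    obtain ⟨j, hj, hji, hrel⟩ := C.partner hT (fun p hp hpne => by
      by_contra hlt
      have h6 : (supp p).card ≤ 6 := by have := hdecomp p (insert i U); omega
      by_cases hpp : ∃ t : F, p = t • p0
      · obtain ⟨t, rfl⟩ := hpp
        have ht : t ≠ 0 := fun e => hpne (by rw [e, zero_smul])
        rw [show supp (t • p0) = supp p0 from Finset.ext fun j => by simp [mem_supp, ht]] at hlt
        have h1 : (supp p0).erase i ⊆ supp p0 \ insert i U := fun k hk => by
          simp only [Finset.mem_erase] at hk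
          simp only [Finset.mem_sdiff, Finset.mem_insert, not_or]
          exact ⟨hk.2, hk.1, fun h => Finset.mem_compl.1 (hU h) hk.2⟩
        have := Finset.card_le_card h1
        rw [Finset.card_erase_of_mem hi] at this
        omega
      have hpi := hioff p hp h6 hpp
      have h1 : supp p ⊆ (supp p \ insert i U) ∪ U := fun k hk => by
        have hki : k ≠ i := fun e => mem_supp.1 hk (e ▸ hpi)
        simp only [Finset.mem_union, Finset.mem_sdiff, Finset.mem_insert, not_or]
        by_cases hkU : k ∈ U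
        · exact Or.inr hkU
        · exact Or.inl ⟨hk, hki, hkU⟩
      have h5 : (supp p).card ≤ 5 := by
        have := (Finset.card_le_card h1).trans (Finset.card_union_le _ _)
        omega
      have := hmin p hp hpne
      by_cases hlight : (supp p0).card + (supp p).card < n
      · exact hpp (C.prop_of_light hp0P hp hp0ne hlight)
      by_cases hdisj : ∀ k, p0 k = 0 ∨ p k = 0
      · exact C.no_split hp0P hp hpne hdisj ⟨2, by have := C.dim; omega⟩
      push Not at hdisj
      obtain ⟨m, hm1, hm2⟩ := hdisj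
      refine hpp ?_
      obtain ⟨m', -, hm'⟩ : ∃ m' ∈ (Finset.univ : Finset (Fin n)), m' ∉ supp p0 ∪ supp p :=
        Finset.exists_mem_notMem_of_card_lt_card (by
          have h2 := Finset.card_union_add_card_inter (supp p0) (supp p)
          have h3 : 0 < (supp p0 ∩ supp p).card :=
            Finset.card_pos.2 ⟨m, Finset.mem_inter.2 ⟨mem_supp.2 hm1, mem_supp.2 hm2⟩⟩
          have := C.dim
          rw [Finset.card_univ, Fintype.card_fin]
          omega)
      rw [Finset.mem_union, not_or] at hm'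
      exact C.prop_of_zero hp0P hp hp0ne (notMem_supp.1 hm'.1) (notMem_supp.1 hm'.2)) i
        (Finset.mem_insert_self _ _)
    obtain ⟨r, hr, hrp⟩ := hrel.app hp0P
    have hjU : j ∈ U := (Finset.mem_insert.1 hj).resolve_left hji
    have hpj : p0 j = 0 := notMem_supp.1 (Finset.mem_compl.1 (hU hjU))
    rw [hpj, eq_comm, mul_eq_zero] at hrp
    refine hrp.elim (fun e => ?_) (mem_supp.1 hi)
    rcases hr with rfl | rfl <;> simp at e
  have L : Light wa wb p0 := ⟨hp0P, hp0ne, by omega⟩
  have hs0 : 1 ≤ (supp p0).card := by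
    rw [Nat.one_le_iff_ne_zero, Finset.card_ne_zero]
    by_contra h
    exact L.ne (funext fun j => notMem_supp.1 fun hj => h ⟨j, hj⟩)
  have hbig : ∀ T : Finset (Fin n), T.card = 4 → 3 ≤ (supp p0 \ T).card →
      ∀ i ∈ T, ∃ j ∈ T, j ≠ i ∧ Rel wa wb i j := by
    intro T hT h3
    refine C.partner hT fun p hp hp0 => ?_
    by_contra hh
    obtain ⟨t, rfl⟩ := C.light_eq L hp (by have := hdecomp p T; omega)
    have ht : t ≠ 0 := fun e => hp0 (by rw [e, zero_smul])
    rw [show supp (t • p0) = supp p0 from Finset.ext fun j => by simp [mem_supp, ht]] at hh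
    omega
  by_cases h1 : (supp p0).card = 1
  · obtain ⟨i, hi⟩ := Finset.card_eq_one.1 h1
    have hp0 : p0 = p0 i • ee i := funext fun k => by
      by_cases hk : k = i
      · subst hk; simp [ee_self]
      · rw [notMem_supp.1 (show k ∉ supp p0 by rw [hi]; simpa using hk), Pi.smul_apply, ee_ne hk, smul_zero]
    have hne : p0 i ≠ 0 := mem_supp.1 (by rw [hi]; simp)
    refine C.notMono (C.star _ C.mem ⟨i, i, Or.inr ?_⟩)
    have h2 := InP.neg_of C L.inP
    rw [hp0, map_smul, ← smul_neg] at h2
    exact smul_right_injective (Fin n → F) hne h2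
  by_cases h2 : (supp p0).card = 2
  · obtain ⟨i, c, hic, hS⟩ := Finset.card_eq_two.1 h2
    exact C.two L hic hS
  have h3 : (supp p0).card = 3 := by omega
  have hC : ∀ a, p0 a = 0 → ∀ b, p0 b = 0 → Rel wa wb a b := fun a ha b hb => by
    refine all_rel (C := (supp p0)ᶜ) (by rw [Finset.card_compl, Fintype.card_fin, h3]; have := C.dim; omega)
      (fun T hT hT4 => hbig T hT4 ?_) a (by simpa [notMem_supp] using ha) b (by simpa [notMem_supp] using hb)
    rw [Finset.sdiff_eq_self_of_disjoint (Finset.disjoint_left.2 fun j hj hjT => Finset.mem_compl.1 (hT hjT) hj), h3]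
  obtain ⟨i, c, d, hic, hid, hcd, hS⟩ := Finset.card_eq_three.1 h3
  have hi : p0 i ≠ 0 := mem_supp.1 (by rw [hS]; simp)
  have hc : p0 c ≠ 0 := mem_supp.1 (by rw [hS]; simp)
  rcases C.three_dich L hic hid hcd hS with hcd' | ⟨u, hu, hu0, hui, hup⟩
  swap
  · exact C.finish L h3 hC hu hu0 hui hi hup
  rcases C.three_dich L hic.symm hcd hid (by rw [hS]; ext; simp; tauto) with hid' | ⟨u, hu, hu0, hui, hup⟩
  swap
  · exact C.finish L h3 hC hu hu0 hui hc hup
  have hci : Rel wa wb c i := hcd'.trans' hid'.symm'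
  have hv : ∀ k, k ∈ supp p0 → (wb c • wa - wa c • wb) k = 0 := fun k hk => by
    obtain ⟨r, -, ha, hb⟩ : Rel wa wb c k := by
      rw [hS, Finset.mem_insert, Finset.mem_insert, Finset.mem_singleton] at hk
      rcases hk with rfl | rfl | rfl
      · exact hci
      · exact ⟨1, Or.inl rfl, (one_mul _).symm, (one_mul _).symm⟩
      · exact hcd'
    simp only [Pi.sub_apply, Pi.smul_apply, smul_eq_mul, ha, hb]
    ring
  refine C.finish L h3 hC ((InP.left.smul (wb c)).sub (InP.right.smul (wa c))) (C.plane_ne c)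
    (hv i (mem_supp.2 hi)) hi ?_
  rw [dotProduct]
  refine Finset.sum_eq_zero fun k _ => ?_
  by_cases hk : k ∈ supp p0
  · rw [hv k hk, zero_mul]
  · rw [notMem_supp.1 hk, mul_zero]

/-- An overgroup outside the monomial group contains an element outside it with a monomial column. -/
theorem exists_col (O : Ov G) (hn : 10 ≤ n) {g : quadIso (Q1 F n)} (hg : g ∈ G) (hgm : ¬ Mono g) :
    ∃ y ∈ G, ¬ Mono y ∧ ∃ i, IsE (y.1 (ee i : V)) := by
  classical
  by_contra hh
  have hstar : Star G := fun y hy hc => by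
    by_contra hm
    exact hh ⟨y, hy, hm, hc⟩
  have hn5 : 5 ≤ n := by omega
  by_cases hall : ∀ a ∈ (Finset.univ : Finset (Fin n)), ∀ b ∈ (Finset.univ : Finset (Fin n)), a ≠ b →
      Mono (rf (g.1 (ee a : V)) * rf (g.1 (ee b)))
  · exact hh (core O hn5 hg (A := Finset.univ) (by simp; omega) (Or.inl (by simp; omega)) (fun k hk => absurd (Finset.mem_univ k) hk)
      (fun a _ => Finset.subset_univ _) (fun a _ h => hgm (hstar g hg ⟨a, h⟩)) hall)
  push Not at hall
  obtain ⟨a, -, b, -, hab, hm⟩ := hall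
  refine PCtx.false (G := G) (wa := g.1 (ee a : V)) (wb := g.1 (ee b))
    { ov := O, dim := hn, star := hstar, mem := ?_, na := norm_image O.two g a, nb := norm_image O.two g b,
      orth := image_orth O.two g hab, notMono := hm }
  rw [← conj_pair g]
  exact mul_mem (mul_mem hg (O.pair_ee hn5 a b)) (inv_mem hg)

end CfsgLib.MaxSub.Frame
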