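import Cfsg.Agent.Lib.MaxSub.Frame.Final

/-!
Orthogonal frames in dimension five: an overgroup of the monomial group with an element outside it contains the
whole derived group.

A full vector of the orbit of the basis has at most two different squares of coordinates, as any two of them are
equal or sum to zero or one; each of the patterns left leads, after a sign change on a pair, to a pattern which is
not allowed.
-/

set_option autoImplicit false
set_option linter.unusedSectionVars false
set_option maxHeartbeats 400000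

namespace CfsgLib.MaxSub.Frame

open QuadraticMap CfsgLib.WittExtension CfsgLib.SpinorNorm Matrix Module

variable {F : Type*} [Field F] [Fintype F] {G : Subgroup (quadIso (Q1 F 5))}

local notation "V" => Fin 5 → F

theorem sum_five {a b c d e : Fin 5} (hab : a ≠ b) (hac : a ≠ c) (had : a ≠ d) (hae : a ≠ e) (hbc : b ≠ c)
    (hbd : b ≠ d) (hbe : b ≠ e) (hcd : c ≠ d) (hce : c ≠ e) (hde : d ≠ e) (f : Fin 5 → F) :
    ∑ k, f k = f a + f b + f c + f d + f e := by
  classical
  rw [show (Finset.univ : Finset (Fin 5)) = {a, b, c, d, e} from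
    (Finset.eq_univ_of_card _ (by simp [hab, hac, had, hae, hbc, hbd, hbe, hcd, hce, hde])).symm]
  rw [Finset.sum_insert (by simp [hab, hac, had, hae]), Finset.sum_insert (by simp [hbc, hbd, hbe]),
    Finset.sum_insert (by simp [hcd, hce]), Finset.sum_pair hde]
  ring

theorem sq_pow_four (hp : (Fintype.card F).Prime) (h5 : (5 : F) = 0) (x : F) (hx : x ≠ 0) :
    x * x * (x * x) = 1 := by
  obtain ⟨k, rfl⟩ := hcast_of_prime hp x
  rw [← Nat.mod_add_div k 5] at hx ⊢
  push_cast at hx ⊢
  rw [h5, zero_mul, add_zero] at hx ⊢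
  have : k % 5 = 0 ∨ k % 5 = 1 ∨ k % 5 = 2 ∨ k % 5 = 3 ∨ k % 5 = 4 := by omega
  rcases this with e | e | e | e | e <;> rw [e] at hx ⊢
  · exact absurd Nat.cast_zero hx
  · simp
  · push_cast; linear_combination 3 * h5
  · push_cast; linear_combination 16 * h5
  · push_cast; linear_combination 51 * h5

/-- The vector obtained by a sign change on a pair of coordinates. -/
theorem Orb.derive (O : Ov G) {u : V} (hu : Orb G u) {a b : Fin 5} (hab : a ≠ b) :
    ∃ u' : V, Orb G u' ∧
      (∀ k, k = a ∨ k = b → u' k = (3 - 4 * (u a * u a + u b * u b)) * u k) ∧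
      ∀ k, k ≠ a → k ≠ b → u' k = (1 - 4 * (u a * u a + u b * u b)) * u k := by
  classical
  have h2 := O.two
  have hn : 5 ≤ 5 := le_rfl
  obtain ⟨x, hxG, hx⟩ := hu.exists_neg O hn (by decide)
  obtain ⟨g, hg, i, hgi⟩ := hu.orbit
  set ε := rf (ee a : V) * rf (ee b) with hε
  have hεv : ∀ k, ε.1 u k = if k = a ∨ k = b then -u k else u k := fun k => by
    show (rf (ee a : V)).1 ((rf (ee b : V)).1 u) k = _
    simp only [rf_ee_apply]
    by_cases hka : k = a
    · simp [hka, hab]
    · simp [hka]
  have hdot : u ⬝ᵥ ε.1 u = 1 - 2 * (u a * u a + u b * u b) := by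
    have h1 : ∑ k, (u k * u k - u k * ε.1 u k) = 2 * (u a * u a) + 2 * (u b * u b) := by
      rw [← Finset.sum_subset (Finset.subset_univ {a, b}) (fun k _ hk => ?_), Finset.sum_pair hab, hεv, hεv,
        if_pos (Or.inl rfl), if_pos (Or.inr rfl)]
      · ring
      · simp only [Finset.mem_insert, Finset.mem_singleton] at hk
        rw [hεv, if_neg hk, sub_self]
    rw [Finset.sum_sub_distrib, show ∑ k, u k * u k = 1 from hu.norm] at h1
    show ∑ k, u k * ε.1 u k = _
    linear_combination -h1
  refine ⟨x.1 (ε.1 u), ⟨by rw [dot_map x h2, dot_map ε h2, hu.norm],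
    x * ε * g, mul_mem (mul_mem hxG (O.pair_ee hn a b)) hg, i, by
      show x.1 (ε.1 (g.1 (ee i))) = _
      rw [hgi]⟩, fun k hk => ?_, fun k hka hkb => ?_⟩
  · rw [hx, hdot, Pi.sub_apply, Pi.smul_apply, smul_eq_mul, hεv, if_pos hk]
    ring
  · rw [hx, hdot, Pi.sub_apply, Pi.smul_apply, smul_eq_mul, hεv, if_neg (by tauto)]
    ring

theorem Orb.no_zero_three (O : Ov G) (hstar : Star G) {u : V} (hu : Orb G u) {j a b c : Fin 5} (hj : u j = 0)
    (hab : a ≠ b) (hac : a ≠ c) (hbc : b ≠ c) (ha : u a ≠ 0) (hb : u b ≠ 0) (hc : u c ≠ 0) : False := by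
  classical
  obtain ⟨x, hxG, hx⟩ := hu.exists_neg O le_rfl (by decide)
  have h := (hu.weight O le_rfl (by decide) hstar hj x hx hxG).2
  have hsub : ({a, b, c} : Finset (Fin 5)) ⊆ supp u := by
    simp [Finset.insert_subset_iff, mem_supp, ha, hb, hc]
  have := Finset.card_le_card hsub
  rw [Finset.card_insert_of_notMem (by simp [hab, hac]), Finset.card_pair hbc] at this
  omega

section full

variable {u : Fin 5 → F}

theorem Orb.sq_two (O : Ov G) (hstar : Star G) (hu : Orb G u) (hfull : ∀ k, u k ≠ 0) {a b : Fin 5}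
    (hab : a ≠ b) :
    u a * u a + u b * u b = 0 ∨ u a * u a + u b * u b = 1 ∨ u a * u a = u b * u b := by
  classical
  rcases hu.sum_sq O le_rfl (by decide) hstar hfull (S := {a, b}) (by rw [Finset.card_pair hab]; exact even_two)
    ⟨a, by simp⟩ (by rw [Finset.card_pair hab]) (O.pair_ee le_rfl a b) (fun v k => by
      show (rf (ee a : V)).1 ((rf (ee b : V)).1 v) k = _
      simp only [rf_ee_apply, Finset.mem_insert, Finset.mem_singleton]
      by_cases hka : k = a
      · simp [hka, hab]
      · simp [hka]) with h | h | ⟨-, h⟩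
  · left; rw [← h, Finset.sum_pair hab]
  · right; left; rw [← h, Finset.sum_pair hab]
  · exact Or.inr (Or.inr (h a (by simp) b (by simp)))

/-- There are at most two squares. -/
theorem Orb.no_three_values (O : Ov G) (hstar : Star G) (hu : Orb G u) (hfull : ∀ k, u k ≠ 0) {a b c : Fin 5}
    (hab : u a * u a ≠ u b * u b) (hac : u a * u a ≠ u c * u c) (hbc : u b * u b ≠ u c * u c) : False := by
  have h1 := hu.sq_two O hstar hfull (a := a) (b := b) (fun e => hab (by rw [e]))
  have h2 := hu.sq_two O hstar hfull (a := a) (b := c) (fun e => hac (by rw [e]))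
  have h3 := hu.sq_two O hstar hfull (a := b) (b := c) (fun e => hbc (by rw [e]))
  rcases h1 with h1 | h1 | h1 <;> rcases h2 with h2 | h2 | h2 <;> rcases h3 with h3 | h3 | h3 <;>
    first
      | exact hab h1
      | exact hac h2
      | exact hbc h3
      | exact hab (by linear_combination h2 - h3)
      | exact hac (by linear_combination h1 - h3)
      | exact hbc (by linear_combination h1 - h2)

/-- The squares are not split two to three. -/
theorem Orb.no_two_three (O : Ov G) (hstar : Star G) (h3 : (3 : F) ≠ 0) (hu : Orb G u)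
    (hfull : ∀ k, u k ≠ 0) {a b c d e : Fin 5} (hab : a ≠ b) (hac : a ≠ c) (had : a ≠ d) (hae : a ≠ e)
    (hbc : b ≠ c) (hbd : b ≠ d) (hbe : b ≠ e) (hcd : c ≠ d) (hce : c ≠ e) (hde : d ≠ e)
    (eb : u b * u b = u a * u a) (ed : u d * u d = u c * u c) (ee' : u e * u e = u c * u c)
    (hne : u a * u a ≠ u c * u c) : False := by
  have h2 := O.two
  have hsum : u a * u a + u b * u b + u c * u c + u d * u d + u e * u e = 1 := by
    rw [← sum_five hab hac had hae hbc hbd hbe hcd hce hde fun k => u k * u k]
    exact hu.norm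
  obtain ⟨u', hu', hin, hout⟩ := hu.derive O hac
  have va := hin a (Or.inl rfl)
  have vc := hin c (Or.inr rfl)
  have vb := hout b hab.symm hbc
  have vd := hout d had.symm hcd.symm
  have ve := hout e hae.symm hce.symm
  rcases hu.sq_two O hstar hfull hac with h | h | h
  · -- minus one and one
    rw [h] at va vb vc vd ve
    have hy : u c * u c = 1 := by linear_combination hsum - eb - ed - ee' - 2 * h
    have hx : u a * u a = -1 := by linear_combination h - hy
    by_cases h5 : (5 : F) = 0
    · obtain ⟨u'', hu'', hin', hout'⟩ := hu.derive O hcd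
      have hs : u c * u c + u d * u d = 2 := by linear_combination 2 * hy + ed
      have h7 : (1 : F) - 4 * 2 ≠ 0 := fun hh => h2 (by linear_combination -hh - h5)
      refine hu''.no_zero_three O hstar (j := c) (a := a) (b := b) (c := e) ?_ hab hae hbe ?_ ?_ ?_
      · rw [hin' c (Or.inl rfl), hs, show (3 : F) - 4 * 2 = -5 by norm_num, h5, neg_zero, zero_mul]
      · rw [hout' a hac had, hs]; exact mul_ne_zero h7 (hfull a)
      · rw [hout' b hbc hbd, hs]; exact mul_ne_zero h7 (hfull b)
      · rw [hout' e hce.symm hde.symm, hs]; exact mul_ne_zero h7 (hfull e)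
    simp only [mul_zero, sub_zero, one_mul] at va vb vc vd ve
    refine hu'.no_three_values O hstar (a := c) (b := b) (c := d) (fun k => ?_) ?_ ?_ ?_
    · by_cases hk : k = a ∨ k = c
      · rw [hin k hk]; exact mul_ne_zero (by rw [h, mul_zero, sub_zero]; exact h3) (hfull k)
      · rw [not_or] at hk
        rw [hout k hk.1 hk.2]; exact mul_ne_zero (by rw [h, mul_zero, sub_zero]; exact one_ne_zero) (hfull k)
    · rw [vc, vb]
      intro q
      exact mul_ne_zero h2 h5 (by linear_combination q + eb + hx - 9 * hy)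
    · rw [vc, vd]
      intro q
      exact mul_ne_zero h2 (mul_ne_zero h2 h2) (by linear_combination q + ed - 8 * hy)
    · rw [vb, vd]
      intro q
      exact h2 (by linear_combination -q + eb + hx - ed - hy)
  · -- two and minus one
    rw [h] at va vb vc vd ve
    have hy : u c * u c = -1 := by linear_combination hsum - eb - ed - ee' - 2 * h
    have hx : u a * u a = 2 := by linear_combination h - hy
    have h19 : (u' b * u' b ≠ u' c * u' c) ∨ (u' a * u' a ≠ u' d * u' d) := by
      by_contra hh
      rw [not_or, not_not, not_not, vb, vc, va, vd] at hh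
      exact mul_ne_zero h2 (mul_ne_zero h2 h2)
        (by linear_combination hh.1 - hh.2 - 9 * eb - 8 * hx - 9 * ed - 8 * hy)
    have hfull' : ∀ k, u' k ≠ 0 := fun k => by
      by_cases hk : k = a ∨ k = c
      · rw [hin k hk, h]; exact mul_ne_zero (by norm_num) (hfull k)
      · rw [not_or] at hk
        rw [hout k hk.1 hk.2, h]
        exact mul_ne_zero (by norm_num; exact h3) (hfull k)
    rcases h19 with h19 | h19
    · refine hu'.no_three_values O hstar hfull' (a := a) (b := b) (c := c) ?_ ?_ h19
      · rw [va, vb]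
        intro q
        exact pow_ne_zero 4 h2 (by linear_combination -q + hx - 9 * eb - 9 * hx)
      · rw [va, vc]
        intro q
        exact h3 (by linear_combination q - hx + hy)
    · refine hu'.no_three_values O hstar hfull' (a := a) (b := c) (c := d) ?_ h19 ?_
      · rw [va, vc]
        intro q
        exact h3 (by linear_combination q - hx + hy)
      · rw [vc, vd]
        intro q
        exact mul_ne_zero h2 (mul_ne_zero h2 h2) (by linear_combination q + 9 * ed + 8 * hy)
  · exact hne h

/-- The squares are not split one to four. -/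
theorem Orb.no_one_four (O : Ov G) (hp : (Fintype.card F).Prime) (hstar : Star G) (h3 : (3 : F) ≠ 0)
    (hu : Orb G u) (hfull : ∀ k, u k ≠ 0) {a b c d e : Fin 5} (hab : a ≠ b) (hac : a ≠ c) (had : a ≠ d)
    (hae : a ≠ e) (hbc : b ≠ c) (hbd : b ≠ d) (hbe : b ≠ e) (hcd : c ≠ d) (hce : c ≠ e) (hde : d ≠ e)
    (ec : u c * u c = u b * u b) (ed : u d * u d = u b * u b) (ee' : u e * u e = u b * u b)
    (hne : u a * u a ≠ u b * u b) : False := by
  have h2 := O.two
  have hy0 : u b * u b ≠ 0 := mul_ne_zero (hfull b) (hfull b)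
  have hsum : u a * u a + u b * u b + u c * u c + u d * u d + u e * u e = 1 := by
    rw [← sum_five hab hac had hae hbc hbd hbe hcd hce hde fun k => u k * u k]
    exact hu.norm
  rcases hu.sq_two O hstar hfull hab with h | h | h
  · have hy : 3 * (u b * u b) = 1 := by linear_combination hsum - h - ec - ed - ee'
    by_cases h5 : (5 : F) = 0
    · exact pow_ne_zero 3 h2 (show (2 : F) ^ 3 = 0 by
        linear_combination (3 * (u b * u b) + 1) * hy - 9 * sq_pow_four hp h5 (u b) (hfull b))
    obtain ⟨u', hu', hin, hout⟩ := hu.derive O hab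
    have hc1 : (3 : F) - 4 * (u a * u a + u b * u b) = 3 := by linear_combination -4 * h
    have hc2 : (1 : F) - 4 * (u a * u a + u b * u b) = 1 := by linear_combination -4 * h
    have hfull' : ∀ k, u' k ≠ 0 := fun k => by
      by_cases hk : k = a ∨ k = b
      · rw [hin k hk, hc1]; exact mul_ne_zero h3 (hfull k)
      · rw [not_or] at hk
        rw [hout k hk.1 hk.2, hc2]; exact mul_ne_zero one_ne_zero (hfull k)
    have va := hin a (Or.inl rfl)
    have vb := hin b (Or.inr rfl)
    have vc := hout c hac.symm hbc.symm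
    rw [hc1] at va vb
    rw [hc2] at vc
    refine hu'.no_three_values O hstar hfull' (a := a) (b := b) (c := c) ?_ ?_ ?_
    · rw [va, vb]
      intro q
      exact mul_ne_zero (mul_ne_zero (mul_ne_zero h3 h3) h2) hy0 (by linear_combination -q + 9 * h)
    · rw [va, vc]
      intro q
      exact mul_ne_zero (mul_ne_zero h2 h5) hy0 (by linear_combination -q + 9 * h - ec)
    · rw [vb, vc]
      intro q
      exact mul_ne_zero (mul_ne_zero h2 (mul_ne_zero h2 h2)) hy0 (by linear_combination q + ec)
  · exact mul_ne_zero h3 hy0 (by linear_combination hsum - h - ec - ed - ee')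
  · exact hne h

/-- The squares are not all equal. -/
theorem Orb.no_equal (O : Ov G) (hstar : Star G) (h3 : (3 : F) ≠ 0) (hu : Orb G u)
    (hfull : ∀ k, u k ≠ 0) (heq : ∀ k, u k * u k = u 0 * u 0) : False := by
  have h2 := O.two
  set A := u 0 * u 0 with hA
  have hA0 : A ≠ 0 := mul_ne_zero (hfull 0) (hfull 0)
  have h5A : 5 * A = 1 := by
    have h : u ⬝ᵥ u = 1 := hu.norm
    rw [dotProduct, Finset.sum_congr rfl fun k _ => heq k, Finset.sum_const, Finset.card_univ, Fintype.card_fin,
      nsmul_eq_mul] at h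
    exact_mod_cast h
  obtain ⟨u', hu', hin, hout⟩ := hu.derive O (a := (0 : Fin 5)) (b := 1) (by decide)
  rw [heq 1, ← hA] at hin hout
  have hd : (1 : F) - 4 * (A + A) ≠ 0 := fun h => mul_ne_zero h3 hA0 (by linear_combination -h5A - h)
  have hne2 : ∀ k, k ≠ 0 → k ≠ 1 → u' k ≠ 0 := fun k h h' => by
    rw [hout k h h']; exact mul_ne_zero hd (hfull k)
  by_cases hc : (3 : F) - 4 * (A + A) = 0
  · exact hu'.no_zero_three O hstar (j := 0) (a := 2) (b := 3) (c := 4) (by rw [hin 0 (Or.inl rfl), hc, zero_mul])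
      (by decide) (by decide) (by decide) (hne2 2 (by decide) (by decide)) (hne2 3 (by decide) (by decide))
      (hne2 4 (by decide) (by decide))
  have hsq : ∀ k, k = 0 ∨ k = 1 → u' k * u' k = (3 - 4 * (A + A)) * (3 - 4 * (A + A)) * A := fun k hk => by
    rw [hin k hk, ← heq k]; ring
  have hsq' : ∀ k, k ≠ 0 → k ≠ 1 → u' k * u' k = (1 - 4 * (A + A)) * (1 - 4 * (A + A)) * A := fun k h h' => by
    rw [hout k h h', ← heq k]; ring
  refine hu'.no_two_three O hstar h3 (fun k => ?_) (a := 0) (b := 1) (c := 2) (d := 3) (e := 4)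
    (by decide) (by decide) (by decide) (by decide) (by decide) (by decide) (by decide) (by decide) (by decide)
    (by decide) (by rw [hsq 1 (Or.inr rfl), hsq 0 (Or.inl rfl)])
    (by rw [hsq' 3 (by decide) (by decide), hsq' 2 (by decide) (by decide)])
    (by rw [hsq' 4 (by decide) (by decide), hsq' 2 (by decide) (by decide)]) ?_
  · by_cases hk : k = 0 ∨ k = 1
    · rw [hin k hk]; exact mul_ne_zero hc (hfull k)
    · rw [not_or] at hk
      exact hne2 k hk.1 hk.2
  rw [hsq 0 (Or.inl rfl), hsq' 2 (by decide) (by decide)]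
  intro q
  have h4 : (1 : F) - 4 * A = 0 := by
    refine (mul_eq_zero.1 (show (2 * (2 * 2) * A) * (1 - 4 * A) = 0 by linear_combination q)).resolve_left ?_
    exact mul_ne_zero (mul_ne_zero h2 (mul_ne_zero h2 h2)) hA0
  exact hA0 (by linear_combination h5A + h4)

end full

/-- No vector of the orbit is full. -/
theorem Orb.not_full_five (O : Ov G) (hp : (Fintype.card F).Prime) (hstar : Star G) :
    ∀ u : V, Orb G u → ∃ j, u j = 0 := by
  classical
  intro u hu
  by_contra hfull
  push Not at hfull
  have h2 := O.two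
  by_cases h3 : (3 : F) = 0
  · have h : u ⬝ᵥ u = 1 := hu.norm
    rw [dotProduct, Finset.sum_congr rfl fun k _ => sq_of_three hp h3 (u k) (hfull k), Finset.sum_const,
      Finset.card_univ, Fintype.card_fin, nsmul_eq_mul, mul_one] at h
    push_cast at h
    exact mul_ne_zero h2 h2 (by linear_combination h)
  by_cases heq : ∀ k, u k * u k = u 0 * u 0
  · exact hu.no_equal O hstar h3 hfull heq
  push Not at heq
  obtain ⟨p, hp0⟩ := heq
  have hdich : ∀ k, u k * u k = u 0 * u 0 ∨ u k * u k = u p * u p := fun k => by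
    by_contra hh
    rw [not_or] at hh
    exact hu.no_three_values O hstar hfull hh.1 hh.2 (Ne.symm hp0)
  -- the two classes
  have key : ∀ a b : Fin 5, u a * u a ≠ u b * u b → (∀ k, u k * u k = u a * u a ∨ u k * u k = u b * u b) →
      (Finset.univ.filter fun k => u k * u k = u a * u a).card ≤ 2 → False := by
    intro a b hab hk hle
    set S := Finset.univ.filter fun k => u k * u k = u a * u a with hS
    have hmS : ∀ k, k ∈ S ↔ u k * u k = u a * u a := fun k => by simp [hS]
    have hmC : ∀ k, k ∈ Sᶜ → u k * u k = u b * u b := fun k hkc =>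
      (hk k).resolve_left fun e => Finset.mem_compl.1 hkc ((hmS k).2 e)
    have hsep : ∀ x y, x ∈ S → y ∈ Sᶜ → x ≠ y := fun x y hx hy e => Finset.mem_compl.1 hy (e ▸ hx)
    have hcc : Sᶜ.card = 5 - S.card := by rw [Finset.card_compl, Fintype.card_fin]
    have hpos : 0 < S.card := Finset.card_pos.2 ⟨a, (hmS a).2 rfl⟩
    rcases (show S.card = 1 ∨ S.card = 2 by omega) with hc | hc
    · obtain ⟨x, hx⟩ := Finset.card_eq_one.1 hc
      obtain ⟨w, y, z, t, hwy, hwz, hwt, hyz, hyt, hzt, hC⟩ := Finset.card_eq_four.1 (hcc.trans (by rw [hc]))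
      have mx : x ∈ S := by simp [hx]
      have mw : w ∈ Sᶜ := by simp [hC]
      have my : y ∈ Sᶜ := by simp [hC]
      have mz : z ∈ Sᶜ := by simp [hC]
      have mt : t ∈ Sᶜ := by simp [hC]
      exact hu.no_one_four O hp hstar h3 hfull (hsep x w mx mw) (hsep x y mx my) (hsep x z mx mz) (hsep x t mx mt)
        hwy hwz hwt hyz hyt hzt ((hmC y my).trans (hmC w mw).symm) ((hmC z mz).trans (hmC w mw).symm)
        ((hmC t mt).trans (hmC w mw).symm) (by rw [(hmS x).1 mx, hmC w mw]; exact hab)
    · obtain ⟨x, x', hxx, hx⟩ := Finset.card_eq_two.1 hc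
      obtain ⟨w, y, z, hwy, hwz, hyz, hC⟩ := Finset.card_eq_three.1 (hcc.trans (by rw [hc]))
      have mx : x ∈ S := by simp [hx]
      have mx' : x' ∈ S := by simp [hx]
      have mw : w ∈ Sᶜ := by simp [hC]
      have my : y ∈ Sᶜ := by simp [hC]
      have mz : z ∈ Sᶜ := by simp [hC]
      exact hu.no_two_three O hstar h3 hfull hxx (hsep x w mx mw) (hsep x y mx my) (hsep x z mx mz)
        (hsep x' w mx' mw) (hsep x' y mx' my) (hsep x' z mx' mz) hwy hwz hyz
        (((hmS x').1 mx').trans ((hmS x).1 mx).symm) ((hmC y my).trans (hmC w mw).symm)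
        ((hmC z mz).trans (hmC w mw).symm) (by rw [(hmS x).1 mx, hmC w mw]; exact hab)
  by_cases hle : (Finset.univ.filter fun k => u k * u k = u 0 * u 0).card ≤ 2
  · exact key 0 p (Ne.symm hp0) hdich hle
  refine key p 0 hp0 (fun k => (hdich k).symm) ?_
  have hsub : (Finset.univ.filter fun k => u k * u k = u p * u p) ⊆
      (Finset.univ.filter fun k => u k * u k = u 0 * u 0)ᶜ := fun k hk => by
    simp only [Finset.mem_filter, Finset.mem_univ, true_and, Finset.mem_compl] at hk ⊢
    rw [hk]; exact hp0
  have := Finset.card_le_card hsub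
  rw [Finset.card_compl, Fintype.card_fin] at this
  omega

/-- An overgroup outside the monomial group has an element outside it with a monomial column. -/
theorem exists_col_five (O : Ov G) (hp : (Fintype.card F).Prime) {g : quadIso (Q1 F 5)} (hg : g ∈ G)
    (hgm : ¬ Mono g) : ∃ y ∈ G, ¬ Mono y ∧ ∃ i, IsE (y.1 (ee i : V)) := by
  classical
  by_contra hh
  have hstar : Star G := fun y hy hc => by
    by_contra hm
    exact hh ⟨y, hy, hm, hc⟩
  have hx : ∀ i, ∃ x ∈ G, Mono x ∧ ∀ v, x.1 v = -(rf (g.1 (ee i : V))).1 v := by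
    intro i
    have hu : Orb G (g.1 (ee i : V)) := ⟨norm_image O.two g i, g, hg, i, rfl⟩
    obtain ⟨x, hxG, hxv⟩ := hu.exists_neg O le_rfl (by decide)
    obtain ⟨j, hj⟩ := Orb.not_full_five O hp hstar _ hu
    refine ⟨x, hxG, (hu.weight O le_rfl (by decide) hstar hj x hxv hxG).1, fun v => ?_⟩
    rw [hxv, rf_apply (by rw [norm_image O.two g i]; exact one_ne_zero), norm_image O.two g i, div_one]
    abel
  obtain ⟨a, -, ha⟩ := odd_block O (g := g) (S := Finset.univ) (by decide)
    (fun a _ => Finset.subset_univ _) (fun k hk => absurd (Finset.mem_univ k) hk) fun a _ b _ _ => by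
      obtain ⟨x, -, hxm, hxv⟩ := hx a
      obtain ⟨y, -, hym, hyv⟩ := hx b
      rw [show rf (g.1 (ee a : V)) * rf (g.1 (ee b)) = x * y from ext_iso fun v => by
        show (rf (g.1 (ee a : V))).1 ((rf (g.1 (ee b))).1 v) = x.1 (y.1 v)
        rw [hyv, map_neg, hxv, neg_neg]]
      exact hxm.mul hym
  exact hgm (hstar g hg ⟨a, ha⟩)

/-- Every vector of norm one is in the set, in characteristic three. -/
theorem gam_all_five_three (O : Ov G) (hsq : ∀ x : F, x ≠ 0 → x * x = 1) (h3 : (3 : F) = 0) {v : V}
    (hv : Gam G v) (hv4 : (supp v).card = 4) : ∀ y : V, y ⬝ᵥ y = 1 → Gam G y := by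
  classical
  intro y hy
  have hn : 5 ≤ 5 := le_rfl
  by_cases h1 : (supp y).card ≤ 1
  · obtain ⟨j, hj | hj⟩ := isE_of_card hy h1
    · rw [hj]; exact gam_ee O hn j
    · rw [hj]
      have := (gam_ee O hn j).sign O hn j
      rwa [rf_self (by rw [ee_norm]; exact one_ne_zero)] at this
  have hc : ((supp y).card : F) = 1 := by
    rw [← hy, dot_eq_sum (Finset.Subset.refl _), Finset.sum_congr rfl fun k hk => hsq _ (mem_supp.1 hk),
      Finset.sum_const, nsmul_eq_mul, mul_one]
  have h4 : (supp y).card = 4 := by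
    have hle : (supp y).card ≤ 5 := by simpa using Finset.card_le_univ (supp y)
    rcases (show (supp y).card = 2 ∨ (supp y).card = 3 ∨ (supp y).card = 4 ∨ (supp y).card = 5 by omega) with
      e | e | e | e
    · rw [e] at hc; push_cast at hc
      exact absurd (show (1 : F) = 0 by linear_combination hc) one_ne_zero
    · rw [e] at hc; push_cast at hc
      exact absurd (show (1 : F) = 0 by linear_combination h3 - hc) one_ne_zero
    · exact e
    · rw [e] at hc; push_cast at hc
      exact absurd (show (1 : F) = 0 by linear_combination hc - h3) one_ne_zero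
  have hmiss : ∀ w : V, (supp w).card = 4 → ∃ z, supp w = {z}ᶜ := fun w hw => by
    obtain ⟨z, hz⟩ := Finset.card_eq_one.1 (show (supp w)ᶜ.card = 1 by
      rw [Finset.card_compl, Fintype.card_fin, hw])
    exact ⟨z, by rw [← hz, compl_compl]⟩
  obtain ⟨z, hz⟩ := hmiss v hv4
  obtain ⟨z', hz'⟩ := hmiss y h4
  obtain ⟨k, hk⟩ : ∃ k, k ≠ z := exists_ne z
  obtain ⟨a, ha⟩ : ∃ a, a ≠ z' := exists_ne z'
  obtain ⟨σ, hσ, -, hσz⟩ := exists_even_map hn hk ha
  set w : V := fun i => v (σ.symm i) with hw
  have hwS : ∀ i, w i ≠ 0 ↔ y i ≠ 0 := fun i => by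
    rw [← mem_supp (v := y), hz', Finset.mem_compl, Finset.mem_singleton, hw]
    show v (σ.symm i) ≠ 0 ↔ _
    rw [← mem_supp, hz, Finset.mem_compl, Finset.mem_singleton, ← hσz, Equiv.symm_apply_eq]
  convert (hv.perm O hn hσ).signs O hn (Finset.univ.filter fun i => y i ≠ w i) using 1
  funext i
  simp only [Finset.mem_filter, Finset.mem_univ, true_and]
  show y i = if y i ≠ w i then -w i else w i
  split_ifs with hi
  · by_cases hy0 : y i = 0
    · have : w i = 0 := by by_contra h; exact (hwS i).1 h hy0
      simp [hy0, this] at hi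
    · exact (mul_self_eq_mul_self_iff.1 ((hsq _ hy0).trans (hsq _ ((hwS i).2 hy0)).symm)).resolve_left hi
  · exact not_not.1 hi

/-- An overgroup with an element outside the monomial group contains the derived group. -/
theorem overgroup_top_five (O : Ov G) (hp : (Fintype.card F).Prime) {g : quadIso (Q1 F 5)} (hg : g ∈ G)
    (hgm : ¬ Mono g) : commutator (quadIso (Q1 F 5)) ≤ G := by
  classical
  have hn : 5 ≤ 5 := le_rfl
  refine le_of_gam_all O hn hp ?_
  obtain ⟨y, hy, hym, i, hi⟩ := exists_col_five O hp hg hgm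
  obtain ⟨v0, hv0, h30, hlt0⟩ := exists_weight O hn hy hym hi
  by_cases h3 : (3 : F) = 0
  · refine gam_all_five_three O (sq_of_three hp h3) h3 hv0 ?_
    have h1 := hv0.1
    rw [dot_eq_sum (Finset.Subset.refl _), Finset.sum_congr rfl fun k hk =>
      sq_of_three hp h3 (v0 k) (mem_supp.1 hk), Finset.sum_const, nsmul_eq_mul, mul_one] at h1
    rcases (show (supp v0).card = 3 ∨ (supp v0).card = 4 by omega) with e | e
    · rw [e] at h1; push_cast at h1; rw [h3] at h1; exact absurd h1 zero_ne_one
    · exact e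
  obtain ⟨v, hv, hv3⟩ : ∃ v, Gam G v ∧ (supp v).card = 3 := by
    by_contra hh
    push Not at hh
    have hmin : ∀ u, Gam G u → 3 ≤ (supp u).card → 4 ≤ (supp u).card := fun u hu h => by
      have := hh u hu; omega
    exact no_four O hn h3 hmin hv0 (by have := hh v0 hv0; omega)
  exact gam_all_of_three O hn h3 (hcast_of_prime hp) hv hv3

end CfsgLib.MaxSub.Frame
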