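import Cfsg.Agent.Lib.MaxSub.Frame.OddBlock

/-!
Orthogonal frames, part 3: a plane involution of an overgroup without monomial columns, tested against four
coordinates.
-/

set_option autoImplicit false
set_option linter.unusedSectionVars false
set_option maxHeartbeats 400000

namespace CfsgLib.MaxSub.Frame

open QuadraticMap CfsgLib.WittExtension CfsgLib.SpinorNorm

section dihedral

variable {X : Type*} [Group X] {t x : X}

theorem dihedral_odd (ht : t * t = 1) (hx : x * x = 1) (h : Odd (orderOf (t * x))) :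
    ∃ k ∈ Subgroup.closure ({t, x} : Set X), k * x * k⁻¹ = t := by
  obtain ⟨m, hm⟩ := h
  have htx : t * x ∈ Subgroup.closure ({t, x} : Set X) :=
    mul_mem (Subgroup.subset_closure (Set.mem_insert _ _))
      (Subgroup.subset_closure (Set.mem_insert_of_mem _ rfl))
  refine ⟨x * (t * x) ^ m, mul_mem (Subgroup.subset_closure (Set.mem_insert_of_mem _ rfl)) (pow_mem htx m), ?_⟩
  have ht' : t⁻¹ = t := inv_eq_of_mul_eq_one_right ht
  have hx' : x⁻¹ = x := inv_eq_of_mul_eq_one_right hx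
  have hinv : x * (t * x) * x⁻¹ = (t * x)⁻¹ := by
    rw [mul_inv_rev, hx', ht', mul_assoc, mul_assoc, hx, mul_one]
  have h1 : x * (t * x) ^ m * x⁻¹ = ((t * x) ^ m)⁻¹ := by rw [← conj_pow, hinv, inv_pow]
  have h2 : (t * x) ^ (2 * m + 1) = 1 := hm ▸ pow_orderOf_eq_one (t * x)
  have h3 : x * ((t * x) ^ m)⁻¹ = (t * x) ^ m * x := by
    rw [← h1, ← mul_assoc, ← mul_assoc, hx, one_mul, hx']
  have h4 : (t * x) ^ (2 * m) = (t * x)⁻¹ := eq_inv_of_mul_eq_one_left (by rw [← pow_succ, h2])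
  calc x * (t * x) ^ m * x * (x * (t * x) ^ m)⁻¹
      = x * (t * x) ^ m * (x * ((t * x) ^ m)⁻¹) * x⁻¹ := by group
    _ = x * ((t * x) ^ m * (t * x) ^ m) * x * x⁻¹ := by rw [h3]; group
    _ = t := by rw [← pow_add, ← two_mul, h4, mul_inv_rev, mul_inv_cancel_right, ← mul_assoc,
        mul_inv_cancel, one_mul, ht']

theorem dihedral_even (ht : t * t = 1) (hx : x * x = 1) {m : ℕ} (h : orderOf (t * x) = 2 * m) (hm : 0 < m) :
    (t * x) ^ m ≠ 1 ∧ (t * x) ^ m * (t * x) ^ m = 1 ∧ t * (t * x) ^ m = (t * x) ^ m * t ∧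
      x * (t * x) ^ m = (t * x) ^ m * x := by
  have ht' : t⁻¹ = t := inv_eq_of_mul_eq_one_right ht
  have hx' : x⁻¹ = x := inv_eq_of_mul_eq_one_right hx
  have h1 : (t * x) ^ m * (t * x) ^ m = 1 := by
    rw [← pow_add, ← two_mul, ← h, pow_orderOf_eq_one]
  have h2 : ((t * x) ^ m)⁻¹ = (t * x) ^ m := inv_eq_of_mul_eq_one_right h1
  refine ⟨pow_ne_one_of_lt_orderOf (by omega) (by omega), h1, ?_, ?_⟩
  · have h3 : t * (t * x) * t⁻¹ = (t * x)⁻¹ := by
      rw [mul_inv_rev, hx', ht', ← mul_assoc t t x, ht, one_mul]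
    have h4 : t * (t * x) ^ m * t⁻¹ = (t * x) ^ m := by rw [← conj_pow, h3, inv_pow, h2]
    exact mul_inv_eq_iff_eq_mul.1 h4
  · have h3 : x * (t * x) * x⁻¹ = (t * x)⁻¹ := by
      rw [mul_inv_rev, hx', ht', mul_assoc, mul_assoc, hx, mul_one]
    have h4 : x * (t * x) ^ m * x⁻¹ = (t * x) ^ m := by rw [← conj_pow, h3, inv_pow, h2]
    exact mul_inv_eq_iff_eq_mul.1 h4

end dihedral

variable {F : Type*} [Field F] [Fintype F] {n : ℕ} {G : Subgroup (quadIso (Q1 F n))}

local notation "V" => Fin n → F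

/-- No element outside the monomial group has a monomial column. -/
def Star (G : Subgroup (quadIso (Q1 F n))) : Prop :=
  ∀ g ∈ G, (∃ i, IsE (g.1 (ee i : Fin n → F))) → Mono g

theorem no_preserve_odd (O : Ov G) (hn : 5 ≤ n) (hstar : Star G) {g : quadIso (Q1 F n)} (hg : g ∈ G)
    {A : Finset (Fin n)} (hA : Odd A.card) (hne : ∃ k, k ∉ A)
    (hout : ∀ k, k ∉ A → ∀ i ∈ A, g.1 (ee k : V) i = 0)
    (hin : ∀ a ∈ A, supp (g.1 (ee a : V)) ⊆ A) : Mono g := by
  obtain ⟨k, hk⟩ := hne
  obtain ⟨a, -, ha⟩ := odd_block O hA hin hout fun a ha b hb hab => hstar _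
    (by rw [← conj_pair g]; exact mul_mem (mul_mem hg (O.pair_ee hn a b)) (inv_mem hg))
    ⟨k, k, Or.inl (by
      rw [pair_apply (norm_image O.two g a) (norm_image O.two g b) (image_orth O.two g hab), dot_ee, dot_ee,
        notMem_supp.1 fun h => hk (hin a ha h), notMem_supp.1 fun h => hk (hin b hb h)]
      simp)⟩
  exact hstar g hg ⟨a, ha⟩

theorem no_preserve (O : Ov G) (hn : 5 ≤ n) (hstar : Star G) {g : quadIso (Q1 F n)} (hg : g ∈ G)
    {A : Finset (Fin n)} (hA : 6 ≤ A.card) (hne : ∃ k, k ∉ A)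
    (hout : ∀ k, k ∉ A → ∀ i ∈ A, g.1 (ee k : V) i = 0)
    (hin : ∀ a ∈ A, supp (g.1 (ee a : V)) ⊆ A) : Mono g := by
  by_contra hm
  have hcol : ∀ a ∈ A, ¬ IsE (g.1 (ee a : V)) := fun a _ h => hm (hstar g hg ⟨a, h⟩)
  have hmono : ∀ a ∈ A, ∀ b ∈ A, a ≠ b → Mono (rf (g.1 (ee a : V)) * rf (g.1 (ee b))) := by
    intro a ha b hb hab
    obtain ⟨k, hk⟩ := hne
    refine hstar _ ?_ ⟨k, k, Or.inl ?_⟩
    · rw [← conj_pair g]
      exact mul_mem (mul_mem hg (O.pair_ee hn a b)) (inv_mem hg)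
    · rw [pair_apply (norm_image O.two g a) (norm_image O.two g b) (image_orth O.two g hab), dot_ee, dot_ee,
        notMem_supp.1 fun h => hk (hin a ha h), notMem_supp.1 fun h => hk (hin b hb h)]
      simp
  obtain ⟨y, hy, hym, hyc⟩ := core O hn hg hA (Or.inr hne) hout hin hcol hmono
  exact hym (hstar y hy hyc)

/-- Three orthonormal vectors in a plane. -/
theorem three_plane {a b c d e f : F} (h1 : a * a + b * b = 1) (h2 : c * c + d * d = 1)
    (h3 : e * e + f * f = 1) (h4 : a * c + b * d = 0) (h5 : a * e + b * f = 0) (h6 : c * e + d * f = 0) :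
    False := by
  have hi : (c * f - d * e) = 0 := by
    have k1 : a * (c * f - d * e) = 0 := by linear_combination f * h4 - d * h5
    have k2 : b * (c * f - d * e) = 0 := by linear_combination c * h5 - e * h4
    linear_combination a * k1 + b * k2 - (c * f - d * e) * h1
  have h7 : (1 : F) = 0 := by
    linear_combination -(c * c + d * d) * h3 - h2 + (c * e + d * f) * h6 + (c * f - d * e) * hi
  exact one_ne_zero h7

/-- A plane involution. -/
structure PCtx (G : Subgroup (quadIso (Q1 F n))) (wa wb : Fin n → F) : Prop where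
  ov : Ov G
  dim : 10 ≤ n
  star : Star G
  mem : rf wa * rf wb ∈ G
  na : wa ⬝ᵥ wa = 1
  nb : wb ⬝ᵥ wb = 1
  orth : wa ⬝ᵥ wb = 0
  notMono : ¬ Mono (rf wa * rf wb)

/-- The vectors of the plane. -/
def InP (wa wb p : Fin n → F) : Prop := ∃ α β : F, p = α • wa + β • wb

variable {wa wb : Fin n → F}

theorem PCtx.col_ne (C : PCtx G wa wb) (i : Fin n) : ¬ (wa i = 0 ∧ wb i = 0) := fun ⟨ha, hb⟩ =>
  C.notMono (C.star _ C.mem ⟨i, i, Or.inl (by rw [pair_apply C.na C.nb C.orth, dot_ee, dot_ee, ha, hb]; simp)⟩)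

theorem InP.add {p q : V} (hp : InP wa wb p) (hq : InP wa wb q) : InP wa wb (p + q) := by
  obtain ⟨a, b, rfl⟩ := hp
  obtain ⟨c, d, rfl⟩ := hq
  exact ⟨a + c, b + d, by module⟩

theorem InP.smul {p : V} (hp : InP wa wb p) (t : F) : InP wa wb (t • p) := by
  obtain ⟨a, b, rfl⟩ := hp
  exact ⟨t * a, t * b, by module⟩

theorem InP.sub {p q : V} (hp : InP wa wb p) (hq : InP wa wb q) : InP wa wb (p - q) := by
  rw [sub_eq_add_neg, ← neg_one_smul F q]
  exact hp.add (hq.smul _)

theorem InP.left : InP wa wb wa := ⟨1, 0, by simp⟩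

theorem InP.right : InP wa wb wb := ⟨0, 1, by simp⟩

theorem InP.zero : InP wa wb 0 := ⟨0, 0, by simp⟩

/-- Two vectors of the plane vanishing at the same coordinate are proportional. -/
theorem PCtx.prop_of_zero (C : PCtx G wa wb) {p q : V} (hp : InP wa wb p) (hq : InP wa wb q) (hp0 : p ≠ 0)
    {k : Fin n} (hpk : p k = 0) (hqk : q k = 0) : ∃ t : F, q = t • p := by
  obtain ⟨a, b, rfl⟩ := hp
  obtain ⟨c, d, rfl⟩ := hq
  simp only [Pi.add_apply, Pi.smul_apply, smul_eq_mul] at hpk hqk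
  have hD : a * d - b * c = 0 := by
    by_contra hne
    have h1 : (a * d - b * c) * wa k = 0 := by linear_combination d * hpk - b * hqk
    have h2 : (a * d - b * c) * wb k = 0 := by linear_combination a * hqk - c * hpk
    exact C.col_ne k ⟨(mul_eq_zero.1 h1).resolve_left hne, (mul_eq_zero.1 h2).resolve_left hne⟩
  by_cases ha : a = 0
  · have hb : b ≠ 0 := fun hb => hp0 (by rw [ha, hb]; simp)
    subst ha
    have hc : c = 0 := by
      rw [zero_mul, zero_sub, neg_eq_zero, mul_eq_zero] at hD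
      exact hD.resolve_left hb
    exact ⟨d / b, by rw [hc, smul_add, smul_smul, smul_smul, mul_zero, div_mul_cancel₀ _ hb]⟩
  · exact ⟨c / a, by
      rw [smul_add, smul_smul, smul_smul, div_mul_cancel₀ _ ha,
        show c / a * b = d by field_simp; linear_combination -hD]⟩

/-- Light vectors of the plane are proportional. -/
theorem PCtx.prop_of_light (C : PCtx G wa wb) {p q : V} (hp : InP wa wb p) (hq : InP wa wb q) (hp0 : p ≠ 0)
    (h : (supp p).card + (supp q).card < n) : ∃ t : F, q = t • p := by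
  classical
  obtain ⟨k, -, hk⟩ : ∃ k ∈ (Finset.univ : Finset (Fin n)), k ∉ supp p ∪ supp q :=
    Finset.exists_mem_notMem_of_card_lt_card (by
      have := Finset.card_union_le (supp p) (supp q)
      simp
      omega)
  rw [Finset.mem_union, not_or] at hk
  exact C.prop_of_zero hp hq hp0 (notMem_supp.1 hk.1) (notMem_supp.1 hk.2)

theorem InP.neg_of (C : PCtx G wa wb) {p : V} (hp : InP wa wb p) : (rf wa * rf wb).1 p = -p := by
  obtain ⟨a, b, rfl⟩ := hp
  rw [pair_apply C.na C.nb C.orth]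
  simp only [dotProduct_add, dotProduct_smul, C.na, C.nb, C.orth, dotProduct_comm wb wa, smul_eq_mul]
  module

theorem InP.of_neg (C : PCtx G wa wb) {v : V} (h : (rf wa * rf wb).1 v = -v) : InP wa wb v := by
  rw [pair_apply C.na C.nb C.orth] at h
  refine ⟨wa ⬝ᵥ v, wb ⬝ᵥ v, funext fun k => mul_left_cancel₀ C.ov.two ?_⟩
  have h1 := congrFun h k
  simp only [Pi.sub_apply, Pi.neg_apply, Pi.smul_apply, Pi.add_apply, smul_eq_mul] at h1 ⊢
  linear_combination h1

/-- A diagonal involution commuting with the plane involution. -/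
theorem PCtx.no_diag (C : PCtx G wa wb) {w : quadIso (Q1 F n)} (hw1 : w ≠ 1)
    (hdiag : ∀ i, w.1 (ee i : V) = ee i ∨ w.1 (ee i : V) = -ee i)
    (hcomm : w * (rf wa * rf wb) = rf wa * rf wb * w) (hnot : ∃ i, w.1 (ee i : V) = ee i) : False := by
  classical
  set x := rf wa * rf wb
  set N : Finset (Fin n) := Finset.univ.filter fun i => w.1 (ee i : V) = -ee i with hN
  have hmemN : ∀ i, i ∈ N ↔ w.1 (ee i : V) = -ee i := fun i => by simp [hN]
  have hpos : ∀ i, i ∉ N → w.1 (ee i : V) = ee i := fun i h => (hdiag i).resolve_right fun e => h ((hmemN i).2 e)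
  have hne : ∃ i, i ∈ N := by
    by_contra hh
    push Not at hh
    exact hw1 (ext_std fun i => hpos i (hh i))
  have hco : ∀ k, w.1 (x.1 (ee k : V)) = x.1 (w.1 (ee k)) := fun k =>
    congrArg (fun g : quadIso (Q1 F n) => g.1 (ee k : V)) hcomm
  have hzero : ∀ i k, (i ∈ N ↔ k ∉ N) → x.1 (ee k : V) i = 0 := by
    intro i k hik
    have h1 := dot_map w C.ov.two (x.1 (ee k)) (ee i)
    rw [hco, dot_ee] at h1
    refine (mul_eq_zero.1 (show 2 * x.1 (ee k : V) i = 0 from ?_)).resolve_left C.ov.two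
    by_cases hi : i ∈ N
    · rw [(hmemN i).1 hi, hpos k (hik.1 hi), dotProduct_neg, dot_ee] at h1
      linear_combination -h1
    · rw [hpos i hi, (hmemN k).1 (by by_contra hk; exact hi (hik.2 hk)), map_neg, neg_dotProduct, dot_ee] at h1
      linear_combination -h1
  have hA : Odd N.card ∨ 6 ≤ N.card ∨ 6 ≤ Nᶜ.card := by
    rw [Finset.card_compl, Fintype.card_fin, Nat.odd_iff]
    have := C.dim
    omega
  have hn5 : 5 ≤ n := by have := C.dim; omega
  rcases hA with hA | hA | hA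
  · refine C.notMono (no_preserve_odd C.ov hn5 C.star C.mem hA ?_
      (fun k hk i hi => hzero i k ⟨fun _ => hk, fun _ => hi⟩) fun a ha i hi => ?_)
    · obtain ⟨i, hi⟩ := hnot
      refine ⟨i, fun h => ?_⟩
      have h1 := congrFun (hi.symm.trans ((hmemN i).1 h)) i
      rw [Pi.neg_apply, ee_self] at h1
      exact C.ov.two (by linear_combination h1)
    · by_contra hiN
      exact mem_supp.1 hi (hzero i a ⟨fun h => absurd h hiN, fun h => absurd ha h⟩)
  · refine C.notMono (no_preserve C.ov hn5 C.star C.mem hA ?_ (fun k hk i hi => hzero i k ⟨fun _ => hk, fun _ => hi⟩)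
      fun a ha i hi => ?_)
    · obtain ⟨i, hi⟩ := hnot
      refine ⟨i, fun h => ?_⟩
      have h1 := congrFun (hi.symm.trans ((hmemN i).1 h)) i
      rw [Pi.neg_apply, ee_self] at h1
      exact C.ov.two (by linear_combination h1)
    · by_contra hiN
      exact mem_supp.1 hi (hzero i a ⟨fun h => absurd h hiN, fun h => absurd ha h⟩)
  · refine C.notMono (no_preserve C.ov hn5 C.star C.mem hA ?_ (fun k hk i hi => hzero i k ?_) fun a ha i hi => ?_)
    · obtain ⟨i, hi⟩ := hne
      exact ⟨i, by simpa using hi⟩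
    · simp only [Finset.mem_compl, not_not] at hk hi
      exact ⟨fun h => absurd h hi, fun h => absurd hk h⟩
    · rw [Finset.mem_compl] at ha ⊢
      intro hiN
      exact mem_supp.1 hi (hzero i a ⟨fun _ => ha, fun _ => hiN⟩)

/-- The involution attached to four coordinates. -/
structure WData (T : Finset (Fin n)) (wa wb : Fin n → F) (w : quadIso (Q1 F n)) : Prop where
  sq : w * w = 1
  mono : Mono w
  dk : ∀ h2 : (2 : F) ≠ 0, dk h2 w = 1
  notDiag : ∃ i, ¬ (w.1 (ee i : Fin n → F) = ee i ∨ w.1 (ee i : Fin n → F) = -ee i)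
  plane : ∀ p, InP wa wb p → InP wa wb (w.1 p)
  stable : ∀ i j (s : F), s ≠ 0 → w.1 (ee i : Fin n → F) = s • ee j → (i ∈ T ↔ j ∈ T)
  moved : ∀ v : Fin n → F, ∃ p, InP wa wb p ∧ ∀ k, k ∉ T → v k - w.1 v k = p k

theorem PCtx.exists_w (C : PCtx G wa wb) {T : Finset (Fin n)} (hT : T.card = 4) :
    ∃ w, WData T wa wb w := by
  classical
  have h2 := C.ov.two
  have hn5 : 5 ≤ n := by have := C.dim; omega
  obtain ⟨a, b, c, d, hab, hac, had, hbc, hbd, hcd, rfl⟩ := Finset.card_eq_four.1 hT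
  set x := rf wa * rf wb
  set t := (rf (ee a : V) * rf (ee b)) * (rf (ee c : V) * rf (ee d)) with ht
  have htG : t ∈ G := mul_mem (C.ov.pair_ee hn5 a b) (C.ov.pair_ee hn5 c d)
  have htv : ∀ (v : V) k, t.1 v k = if k ∈ ({a, b, c, d} : Finset (Fin n)) then -v k else v k := by
    intro v k
    show (rf (ee a : V)).1 ((rf (ee b : V)).1 ((rf (ee c : V)).1 ((rf (ee d : V)).1 v))) k = _
    simp only [rf_ee_apply, Finset.mem_insert, Finset.mem_singleton]
    split_ifs <;> simp_all
  have ht2 : t * t = 1 := ext_iso fun v => funext fun k => by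
    show t.1 (t.1 v) k = v k
    simp only [htv]
    split_ifs <;> simp
  have hx2 : x * x = 1 := ext_iso fun v => by
    show x.1 (x.1 v) = v
    simp only [x, pair_apply C.na C.nb C.orth, dotProduct_sub, dotProduct_smul, C.na, C.nb, C.orth,
      dotProduct_comm wb wa, smul_eq_mul]
    module
  rcases Nat.even_or_odd' (orderOf (t * x)) with ⟨m, hm | hm⟩
  swap
  · exfalso
    obtain ⟨k, -, hk⟩ := dihedral_odd ht2 hx2 ⟨m, hm⟩
    have hvec : ∀ e ∈ ({a, b, c, d} : Finset (Fin n)), InP wa wb (k⁻¹.1 (ee e : V)) := by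
      intro e he
      refine InP.of_neg C ?_
      have h1 : t.1 (ee e : V) = -ee e := funext fun j => by
        rw [htv, Pi.neg_apply, ee_apply]
        by_cases hj : j = e
        · subst hj; rw [if_pos he, if_pos rfl]
        · rw [if_neg hj]; simp
      have h2' : x * k⁻¹ = k⁻¹ * t := by rw [← hk]; group
      show (x * k⁻¹).1 (ee e) = _
      rw [h2']
      show k⁻¹.1 (t.1 (ee e)) = _
      rw [h1, map_neg]
    have hdot : ∀ e e' (p q r s : F), k⁻¹.1 (ee e : V) = p • wa + q • wb → k⁻¹.1 (ee e' : V) = r • wa + s • wb →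
        p * r + q * s = if e' = e then 1 else 0 := fun e e' p q r s h h' => by
      have h1 := dot_map k⁻¹ h2 (ee e) (ee e')
      rw [h, h', dot_ee, ee_apply] at h1
      simp only [dotProduct_add, add_dotProduct, dotProduct_smul, smul_dotProduct, C.na, C.nb, C.orth,
        dotProduct_comm wb wa, smul_eq_mul] at h1
      linear_combination h1
    obtain ⟨pa, qa, ha⟩ := hvec a (by simp)
    obtain ⟨pb, qb, hb⟩ := hvec b (by simp)
    obtain ⟨pc, qc, hc⟩ := hvec c (by simp)
    exact three_plane (by simpa using hdot a a _ _ _ _ ha ha) (by simpa using hdot b b _ _ _ _ hb hb)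
      (by simpa using hdot c c _ _ _ _ hc hc) (by simpa [hab.symm] using hdot a b _ _ _ _ ha hb)
      (by simpa [hac.symm] using hdot a c _ _ _ _ ha hc) (by simpa [hbc.symm] using hdot b c _ _ _ _ hb hc)
  have hm0 : 0 < m := by
    have := orderOf_pos (t * x)
    omega
  obtain ⟨hw1, hw2, hwt, hwx⟩ := dihedral_even ht2 hx2 hm hm0
  set w := (t * x) ^ m
  have hwG : w ∈ G := pow_mem (mul_mem htG C.mem) m
  -- the differences
  let H : Subgroup (quadIso (Q1 F n)) :=
    { carrier := {g | ∀ v, ∃ p, InP wa wb p ∧ ∀ k, k ∉ ({a, b, c, d} : Finset (Fin n)) → v k - g.1 v k = p k}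
      one_mem' := fun v => ⟨0, InP.zero, fun k _ => sub_self _⟩
      mul_mem' := fun {g h} hg hh v => by
        obtain ⟨p, hp, hp'⟩ := hh v
        obtain ⟨q, hq, hq'⟩ := hg (h.1 v)
        exact ⟨p + q, hp.add hq, fun k hk => by
          show v k - g.1 (h.1 v) k = p k + q k
          linear_combination hp' k hk + hq' k hk⟩
      inv_mem' := fun {g} hg v => by
        obtain ⟨p, hp, hp'⟩ := hg (g⁻¹.1 v)
        refine ⟨(-1 : F) • p, hp.smul _, fun k hk => ?_⟩
        have h1 := hp' k hk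
        rw [show g.1 (g⁻¹.1 v) = v from g.1.apply_symm_apply v] at h1
        rw [Pi.smul_apply, smul_eq_mul]
        linear_combination -h1 }
  have htH : t ∈ H := fun v => ⟨0, InP.zero, fun k hk => by rw [htv, if_neg hk, sub_self]; rfl⟩
  have hxH : x ∈ H := fun v => ⟨(2 * (wa ⬝ᵥ v)) • wa + (2 * (wb ⬝ᵥ v)) • wb, ⟨_, _, rfl⟩, fun k _ => by
    rw [pair_apply C.na C.nb C.orth]
    simp only [Pi.sub_apply, Pi.add_apply, Pi.smul_apply, smul_eq_mul]
    ring⟩
  have hwH : w ∈ H := pow_mem (mul_mem htH hxH) m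
  have happ : ∀ g h : quadIso (Q1 F n), g * h = h * g → ∀ v, g.1 (h.1 v) = h.1 (g.1 v) := fun g h e v =>
    congrArg (fun z : quadIso (Q1 F n) => z.1 v) e
  have hTstable : ∀ i k, ¬ (i ∈ ({a, b, c, d} : Finset (Fin n)) ↔ k ∈ ({a, b, c, d} : Finset (Fin n))) →
      w.1 (ee i : V) k = 0 := by
    intro i k hik
    have h1 := congrFun (happ t w hwt (ee i)) k
    have hti : t.1 (ee i : V) = if i ∈ ({a, b, c, d} : Finset (Fin n)) then -ee i else ee i := funext fun j => by
      rw [htv, ee_apply]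
      by_cases hj : j = i
      · subst hj; rw [if_pos rfl]; split_ifs <;> simp [ee_self]
      · rw [if_neg hj]; split_ifs <;> simp [ee_ne hj]
    rw [htv, hti] at h1
    refine (mul_eq_zero.1 (show 2 * w.1 (ee i : V) k = 0 from ?_)).resolve_left h2
    by_cases hi : i ∈ ({a, b, c, d} : Finset (Fin n))
    · rw [if_pos hi, if_neg fun hk => hik (iff_of_true hi hk), map_neg, Pi.neg_apply] at h1
      linear_combination h1
    · rw [if_neg hi, if_pos (by by_contra hk; exact hik (iff_of_false hi hk))] at h1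
      linear_combination -h1
  obtain ⟨o1, o2, o3, ho, ho12, ho13, ho23⟩ :
      ∃ o1 o2 o3, (∀ o ∈ ({o1, o2, o3} : Finset (Fin n)), o ∉ ({a, b, c, d} : Finset (Fin n))) ∧
        o1 ≠ o2 ∧ o1 ≠ o3 ∧ o2 ≠ o3 := by
    obtain ⟨o1, o2, o3, h1, h2', h3, h12, h13, h23⟩ := Finset.two_lt_card_iff.1
      (show 2 < ({a, b, c, d} : Finset (Fin n))ᶜ.card by
        rw [Finset.card_compl, Fintype.card_fin, hT]; have := C.dim; omega)
    simp only [Finset.mem_compl] at h1 h2' h3
    exact ⟨o1, o2, o3, fun o ho => by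
      simp only [Finset.mem_insert, Finset.mem_singleton] at ho
      rcases ho with rfl | rfl | rfl <;> assumption, h12, h13, h23⟩
  have hmono : Mono w := by
    by_contra hnm
    have hA : 6 ≤ ({a, b, c, d} : Finset (Fin n))ᶜ.card := by
      rw [Finset.card_compl, Fintype.card_fin, hT]
      have := C.dim
      omega
    refine hnm (no_preserve C.ov hn5 C.star hwG hA ⟨a, by simp⟩ (fun k hk i hi => hTstable k i ?_)
      fun e he i hi => ?_)
    · simp only [Finset.mem_compl, not_not] at hk hi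
      exact fun h => hi (h.1 hk)
    · rw [Finset.mem_compl] at he ⊢
      exact fun h => mem_supp.1 hi (hTstable e i fun h' => he (h'.2 h))
  refine ⟨w, hw2, hmono, fun h => dk_commutator h (C.ov.le hwG), ?_, fun p hp => ?_, fun i j s hs hij => ?_, hwH⟩
  · by_contra hh
    push Not at hh
    refine C.no_diag hw1 hh hwx.symm ?_
    by_contra hneg
    push Not at hneg
    have hm' : ∀ i, w.1 (ee i : V) = -ee i := fun i => (hh i).resolve_left (hneg i)
    have hp : ∀ o ∈ ({o1, o2, o3} : Finset (Fin n)), ∃ p, InP wa wb p ∧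
        ∀ k, k ∉ ({a, b, c, d} : Finset (Fin n)) → p k = 2 * (ee o : V) k := fun o _ => by
      obtain ⟨p, hp, hp'⟩ := hwH (ee o)
      exact ⟨p, hp, fun k hk => by rw [← hp' k hk, hm', Pi.neg_apply]; ring⟩
    obtain ⟨p, hp1, hp1'⟩ := hp o1 (by simp)
    obtain ⟨q, hq1, hq1'⟩ := hp o2 (by simp)
    obtain ⟨r, hr⟩ := C.prop_of_zero hp1 hq1 (fun e => h2 (by
        have h5 := hp1' o1 (ho o1 (by simp))
        rw [e, ee_self] at h5
        simpa using h5.symm)) (k := o3)
      (by rw [hp1' o3 (ho o3 (by simp)), ee_ne ho13.symm, mul_zero])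
      (by rw [hq1' o3 (ho o3 (by simp)), ee_ne ho23.symm, mul_zero])
    have h5 := hq1' o2 (ho o2 (by simp))
    rw [hr, Pi.smul_apply, hp1' o2 (ho o2 (by simp)), ee_ne ho12.symm, ee_self] at h5
    exact h2 (by simpa using h5.symm)
  · refine InP.of_neg C ?_
    rw [happ x w hwx, InP.neg_of C hp, map_neg]
  · by_contra hne
    have h1 := hTstable i j hne
    rw [hij, Pi.smul_apply, ee_self, smul_eq_mul, mul_one] at h1
    exact hs h1

end CfsgLib.MaxSub.Frame
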