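import Cfsg.Agent.Lib.MaxSub.Frame.Basic

/-!
Orthogonal frames, part 2: an element without monomial columns conjugating all coordinate pairs to monomial
involutions gives an element outside the monomial group with a monomial column.
-/

set_option autoImplicit false
set_option linter.unusedSectionVars false
set_option maxHeartbeats 400000

namespace CfsgLib.MaxSub.Frame

open QuadraticMap CfsgLib.WittExtension CfsgLib.SpinorNorm

variable {F : Type*} [Field F] [Fintype F] {n : ℕ} {G : Subgroup (quadIso (Q1 F n))}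

local notation "V" => Fin n → F

/-- Two coordinates. -/
theorem dot_pair {v : V} {i j : Fin n} (hij : i ≠ j) (hs : supp v ⊆ {i, j}) (w : V) :
    v ⬝ᵥ w = v i * w i + v j * w j := by
  rw [dot_eq_sum hs w, Finset.sum_pair hij]

theorem card_le_two_of_subset {v : V} {i j : Fin n} (hs : supp v ⊆ {i, j}) : (supp v).card ≤ 2 :=
  (Finset.card_le_card hs).trans Finset.card_le_two

theorem pair_apply {u v : V} (hu : u ⬝ᵥ u = 1) (hv : v ⬝ᵥ v = 1) (huv : u ⬝ᵥ v = 0) (x : V) :
    (rf u * rf v).1 x = x - (2 * (u ⬝ᵥ x)) • u - (2 * (v ⬝ᵥ x)) • v := by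
  show (rf u).1 ((rf v).1 x) = _
  rw [rf_apply (show v ⬝ᵥ v ≠ 0 by rw [hv]; exact one_ne_zero),
    rf_apply (show u ⬝ᵥ u ≠ 0 by rw [hu]; exact one_ne_zero), hu, hv, div_one,
    div_one, dotProduct_sub, dotProduct_smul, huv, smul_zero, sub_zero]
  abel

theorem conj_pair (g : quadIso (Q1 F n)) (u v : V) :
    g * (rf u * rf v) * g⁻¹ = rf (g.1 u) * rf (g.1 v) := by
  rw [← rf_conj g u, ← rf_conj g v]
  group

theorem image_orth (h2 : (2 : F) ≠ 0) (g : quadIso (Q1 F n)) {a b : Fin n} (h : a ≠ b) :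
    g.1 (ee a : V) ⬝ᵥ g.1 (ee b) = 0 := by
  rw [dot_map g h2, ee_dot, ee_ne h]

/-- A vector conjugating all pairs to monomial involutions has weight two. -/
theorem weight_two (h2 : (2 : F) ≠ 0) {g : quadIso (Q1 F n)} {A : Finset (Fin n)} (hA : 6 ≤ A.card)
    {a : Fin n} (ha : a ∈ A)
    (hmono : ∀ b ∈ A, a ≠ b → Mono (rf (g.1 (ee a : V)) * rf (g.1 (ee b)))) :
    (supp (g.1 (ee a : V))).card ≤ 4 → (supp (g.1 (ee a : V))).card ≤ 2 := by
  intro h4
  set w := g.1 (ee a : V) with hw
  obtain ⟨i0, hi0⟩ : ∃ i0, w i0 ≠ 0 := by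
    by_contra hh
    push Not at hh
    have h1 := norm_image h2 g a
    rw [← hw, show w = 0 from funext hh, zero_dotProduct] at h1
    exact zero_ne_one h1
  have hdata : ∀ b ∈ A.erase a, ∃ j ∈ supp w,
      (2 * w i0) • w + (2 * g.1 (ee b : V) i0) • g.1 (ee b) = ee i0 + (w i0 / w j) • ee j := by
    intro b hb
    obtain ⟨hba, hbA⟩ := Finset.mem_erase.1 hb
    have e := pair_apply (norm_image h2 g a) (norm_image h2 g b) (image_orth h2 g (Ne.symm hba))
    set y := rf w * rf (g.1 (ee b : V))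
    have hyw : y.1 w = -w := by
      rw [e, norm_image h2 g a, dot_map g h2, ee_dot, ee_ne hba]
      module
    obtain ⟨j, s, hs, hj⟩ : ∃ (j : Fin n) (s : F), s * s = 1 ∧ y.1 (ee i0) = s • (ee j : V) := by
      obtain ⟨j, hj | hj⟩ := hmono b hbA (Ne.symm hba) i0
      · exact ⟨j, 1, one_mul 1, by rw [one_smul]; exact hj⟩
      · exact ⟨j, -1, by ring, by rw [neg_one_smul]; exact hj⟩
    have h5 : s * w j = -w i0 := by
      have h6 := dot_map y h2 w (ee i0)
      rw [hyw, hj, neg_dotProduct, dotProduct_smul, dot_ee, dot_ee, smul_eq_mul] at h6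
      linear_combination -h6
    have hwj : w j ≠ 0 := fun h => hi0 (by rw [h, mul_zero] at h5; linear_combination h5)
    refine ⟨j, mem_supp.2 hwj, ?_⟩
    rw [show w i0 / w j = -s by rw [div_eq_iff hwj]; linear_combination h5, neg_smul, ← sub_eq_add_neg, ← hj, e,
      dot_ee, dot_ee]
    abel
  classical
  choose! f hf hfeq using hdata
  obtain ⟨b, hb, b', hb', hne, hff⟩ := Finset.exists_ne_map_eq_of_card_lt_of_maps_to
    (s := A.erase a) (t := supp w) (f := f) (by rw [Finset.card_erase_of_mem ha]; omega) hf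
  have h7 := (hfeq b hb).trans (hff ▸ (hfeq b' hb').symm)
  have h8 := congrArg (fun z => g.1 (ee b : V) ⬝ᵥ z) h7
  simp only [dotProduct_add, dotProduct_smul, smul_eq_mul] at h8
  rw [norm_image h2 g b, image_orth h2 g hne, hw, image_orth h2 g (Finset.ne_of_mem_erase hb)] at h8
  simp only [mul_zero, zero_add, mul_one] at h8
  have h9 := hfeq b hb
  rw [h8, zero_smul, add_zero] at h9
  refine card_le_two_of_subset (i := i0) (j := f b) fun k hk => ?_
  by_contra hk'
  rw [Finset.mem_insert, Finset.mem_singleton, not_or] at hk'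
  have h10 := congrFun h9 k
  simp only [Pi.smul_apply, Pi.add_apply, smul_eq_mul, ee_ne hk'.1, ee_ne hk'.2, mul_zero, add_zero,
    mul_eq_zero] at h10
  exact mem_supp.1 hk (h10.resolve_left (not_or_intro h2 hi0))

/-- A monomial involution on a plane moves coordinates in at most two blocks. -/
theorem weight_four (h2 : (2 : F) ≠ 0) {u v : V} (hu : u ⬝ᵥ u = 1) (hv : v ⬝ᵥ v = 1) (huv : u ⬝ᵥ v = 0)
    (hm : Mono (rf u * rf v)) : (supp u).card ≤ 4 := by
  classical
  set y := rf u * rf v
  have happ := pair_apply hu hv huv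
  set f : Fin n → V := fun i => (2 * u i) • u + (2 * v i) • v with hf
  have hy : ∀ i, y.1 (ee i : V) = ee i - f i := fun i => by
    rw [happ, dot_ee, dot_ee, hf]
    module
  have hyu : y.1 u = -u := by
    rw [happ, hu, dotProduct_comm v u, huv]
    module
  have hsmall : ∀ i, ∃ j, supp (f i) ⊆ {i, j} := by
    intro i
    obtain ⟨j, hj⟩ := hm i
    refine ⟨j, fun k hk => ?_⟩
    by_contra hk'
    rw [Finset.mem_insert, Finset.mem_singleton, not_or] at hk'
    have h1 : f i k = (ee i : V) k - y.1 (ee i : V) k := by rw [hy]; simp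
    refine mem_supp.1 hk ?_
    rw [h1, ee_ne hk'.1]
    rcases hj with e | e <;> rw [e] <;> simp [ee_ne hk'.2]
  obtain ⟨i1, hi1⟩ : ∃ i1, u i1 ≠ 0 := by
    by_contra hh
    push Not at hh
    rw [show u = 0 from funext hh, zero_dotProduct] at hu
    exact zero_ne_one hu
  obtain ⟨j1, hj1⟩ := hsmall i1
  by_cases hall : supp u ⊆ {i1, j1}
  · exact (card_le_two_of_subset hall).trans (by norm_num)
  obtain ⟨i2, hi2, hi2'⟩ := Finset.not_subset.1 hall
  obtain ⟨j2, hj2⟩ := hsmall i2
  -- the two vectors span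
  have hi2f : f i2 i2 ≠ 0 := fun h => by
    have h1 : y.1 (ee i2 : V) i2 = 1 := by rw [hy]; simp [ee_self, h]
    obtain ⟨j, hj⟩ := hm i2
    have h3 : y.1 (ee i2 : V) = ee i2 := by
      have hji : j = i2 := by
        by_contra hne
        rcases hj with e | e <;> rw [e] at h1 <;> simp [ee_ne (Ne.symm hne)] at h1
      rcases hj with e | e
      · rw [e, hji]
      · rw [e, hji, Pi.neg_apply, ee_self] at h1
        exact absurd (show (2 : F) = 0 by linear_combination -h1) h2
    have h4 := dot_map y h2 u (ee i2)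
    rw [hyu, h3, neg_dotProduct, dot_ee] at h4
    exact mul_ne_zero h2 (mem_supp.1 hi2) (by linear_combination -h4)
  have h0 : f i1 i2 = 0 := notMem_supp.1 fun h => hi2' (hj1 h)
  set D := u i1 * v i2 - v i1 * u i2 with hD
  have hD0 : D ≠ 0 := fun hD => by
    refine hi2f ?_
    have h5 : u i1 * f i2 i2 = u i2 * f i1 i2 := by
      simp only [hf, Pi.add_apply, Pi.smul_apply, smul_eq_mul]
      linear_combination (2 * v i2) * hD
    rw [h0, mul_zero, mul_eq_zero] at h5
    exact h5.resolve_left hi1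
  refine (Finset.card_le_card (t := {i1, j1, i2, j2}) fun k hk => ?_).trans Finset.card_le_four
  by_contra hk'
  simp only [Finset.mem_insert, Finset.mem_singleton, not_or] at hk'
  have h5 : f i1 k = 0 := notMem_supp.1 fun h => by
    rcases Finset.mem_insert.1 (hj1 h) with e | e
    · exact hk'.1 e
    · exact hk'.2.1 (Finset.mem_singleton.1 e)
  have h6 : f i2 k = 0 := notMem_supp.1 fun h => by
    rcases Finset.mem_insert.1 (hj2 h) with e | e
    · exact hk'.2.2.1 e
    · exact hk'.2.2.2 (Finset.mem_singleton.1 e)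
  simp only [hf, Pi.add_apply, Pi.smul_apply, smul_eq_mul] at h5 h6
  have h7 : 2 * u k * D = 0 := by linear_combination v i2 * h5 - v i1 * h6
  exact mem_supp.1 hk ((mul_eq_zero.1 ((mul_eq_zero.1 h7).resolve_right hD0)).resolve_left h2)

/-- Three orthonormal vectors cannot share two coordinates. -/
theorem three_two {i j : Fin n} (hij : i ≠ j) {u v w : V} (hu : supp u ⊆ {i, j}) (hv : supp v ⊆ {i, j})
    (hw : supp w ⊆ {i, j}) (huu : u ⬝ᵥ u = 1) (hvv : v ⬝ᵥ v = 1) (hww : w ⬝ᵥ w = 1) (huv : u ⬝ᵥ v = 0)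
    (huw : u ⬝ᵥ w = 0) (hvw : v ⬝ᵥ w = 0) : False := by
  rw [dot_pair hij hu] at huu huv huw
  rw [dot_pair hij hv] at hvv hvw
  rw [dot_pair hij hw] at hww
  have hi : (v i * w j - v j * w i) = 0 := by
    have h1 : u i * (v i * w j - v j * w i) = 0 := by linear_combination w j * huv - v j * huw
    have h2 : u j * (v i * w j - v j * w i) = 0 := by linear_combination v i * huw - w i * huv
    linear_combination u i * h1 + u j * h2 - (v i * w j - v j * w i) * huu
  have h3 : v i * w i + v j * w j = 0 := hvw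
  have h4 : (1 : F) = 0 := by
    linear_combination -(v i * v i + v j * v j) * hww - hvv +
      (v i * w i + v j * w j) * h3 + (v i * w j - v j * w i) * hi
  exact one_ne_zero h4

/-- Orthogonal vectors of weight two share both coordinates or none. -/
theorem supp_eq_or (h2 : (2 : F) ≠ 0) {u v : V} (hu : (supp u).card = 2) (hv : (supp v).card = 2)
    (huv : u ⬝ᵥ v = 0) : supp u = supp v ∨ Disjoint (supp u) (supp v) := by
  classical
  by_contra hh
  rw [not_or, Finset.not_disjoint_iff] at hh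
  obtain ⟨hne, i, hiu, hiv⟩ := hh
  obtain ⟨j, hj, hju⟩ : ∃ j ∈ supp u, j ∉ supp v := by
    by_contra hno
    push Not at hno
    exact hne (Finset.eq_of_subset_of_card_le hno (by omega))
  have hij : i ≠ j := fun e => hju (e ▸ hiv)
  have hs : supp u = {i, j} := by
    refine (Finset.eq_of_subset_of_card_le (fun k hk => ?_) (by rw [hu, Finset.card_pair hij])).symm
    rcases Finset.mem_insert.1 hk with e | e
    · exact e ▸ hiu
    · exact Finset.mem_singleton.1 e ▸ hj
  rw [dot_pair hij hs.le, notMem_supp.1 hju, mul_zero, add_zero, mul_eq_zero] at huv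
  exact huv.elim (mem_supp.1 hiu) (mem_supp.1 hiv)

theorem exists_supp (g : quadIso (Q1 F n)) (h2 : (2 : F) ≠ 0) (a : Fin n) : ∃ i, i ∈ supp (g.1 (ee a : V)) := by
  by_contra hh
  push Not at hh
  have h1 := norm_image h2 g a
  rw [show g.1 (ee a : V) = 0 from funext fun i => notMem_supp.1 (hh i), zero_dotProduct] at h1
  exact zero_ne_one h1

/-- An element of the group outside the monomial group with a monomial column. -/
theorem core (O : Ov G) (hn : 5 ≤ n) {g : quadIso (Q1 F n)} (hg : g ∈ G) {A : Finset (Fin n)}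
    (hA6 : 6 ≤ A.card) (hA : 7 ≤ A.card ∨ ∃ k, k ∉ A) (hout : ∀ k, k ∉ A → ∀ i ∈ A, g.1 (ee k : V) i = 0)
    (hin : ∀ a ∈ A, supp (g.1 (ee a : V)) ⊆ A)
    (hcol : ∀ a ∈ A, ¬ IsE (g.1 (ee a : V)))
    (hmono : ∀ a ∈ A, ∀ b ∈ A, a ≠ b → Mono (rf (g.1 (ee a : V)) * rf (g.1 (ee b)))) :
    ∃ y ∈ G, ¬ Mono y ∧ ∃ i, IsE (y.1 (ee i : V)) := by
  classical
  have h2 := O.two
  set S : Fin n → Finset (Fin n) := fun a => supp (g.1 (ee a : V)) with hS
  have hcard : ∀ a ∈ A, (S a).card = 2 := by
    intro a ha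
    obtain ⟨b, hb⟩ : ∃ b, b ∈ A.erase a := Finset.card_pos.1 (by rw [Finset.card_erase_of_mem ha]; omega)
    obtain ⟨hba, hbA⟩ := Finset.mem_erase.1 hb
    exact le_antisymm (weight_two h2 (by omega) ha (hmono a ha)
      (weight_four h2 (norm_image h2 g a) (norm_image h2 g b) (image_orth h2 g (Ne.symm hba))
        (hmono a ha b hbA (Ne.symm hba)))) (two_le_supp (norm_image h2 g a) (hcol a ha))
  have hdisj : ∀ a ∈ A, ∀ b ∈ A, S a = S b ∨ Disjoint (S a) (S b) := fun a ha b hb => by
    by_cases hab : a = b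
    · exact Or.inl (by rw [hab])
    · exact supp_eq_or h2 (hcard a ha) (hcard b hb) (image_orth h2 g hab)
  have hclass : ∀ a ∈ A, (A.filter fun b => S b = S a).card ≤ 2 := by
    intro a ha
    by_contra hh
    obtain ⟨b, c, d, hb, hc, hd, hbc, hbd, hcd⟩ := Finset.two_lt_card_iff.1 (not_le.1 hh)
    obtain ⟨i, j, hij, hs⟩ := Finset.card_eq_two.1 (hcard a ha)
    simp only [Finset.mem_filter] at hb hc hd
    exact three_two hij (hb.2.trans hs).le (hc.2.trans hs).le (hd.2.trans hs).le (norm_image h2 g b)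
      (norm_image h2 g c) (norm_image h2 g d) (image_orth h2 g hbc) (image_orth h2 g hbd)
      (image_orth h2 g hcd)
  -- four blocks
  obtain ⟨a, ha⟩ : ∃ a, a ∈ A := Finset.card_pos.1 (by omega)
  have hsplit : ∀ s : Finset (Fin n), ∀ x, x ∈ A →
      (A.filter fun b => b ∉ s ∧ S b ≠ S x).card + 2 + s.card ≥ A.card := by
    intro s x hx
    have h1 : A ⊆ (A.filter fun b => b ∉ s ∧ S b ≠ S x) ∪ (A.filter fun b => S b = S x) ∪ s := by
      intro b hb
      simp only [Finset.mem_union, Finset.mem_filter]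
      tauto
    have h2' := (Finset.card_le_card h1).trans ((Finset.card_union_le _ _).trans
      (Nat.add_le_add_right (Finset.card_union_le _ _) _))
    have := hclass x hx
    omega
  obtain ⟨c, hc⟩ : ∃ c, c ∈ A.filter fun b => b ∉ (∅ : Finset (Fin n)) ∧ S b ≠ S a := Finset.card_pos.1 (by
    have := hsplit ∅ a ha
    rw [Finset.card_empty] at this
    omega)
  simp only [Finset.mem_filter, Finset.notMem_empty, not_false_iff, true_and] at hc
  obtain ⟨hcA, hca⟩ := hc
  obtain ⟨k, hk⟩ : ∃ k, k ∈ A.filter fun b => b ∉ (A.filter fun b => S b = S a) ∧ S b ≠ S c :=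
    Finset.card_pos.1 (by have := hsplit (A.filter fun b => S b = S a) c hcA; have := hclass a ha; omega)
  simp only [Finset.mem_filter, not_and] at hk
  obtain ⟨hkA, hka, hkc⟩ := hk
  have hka' := hka hkA
  obtain ⟨il, hila, hilc, hilk⟩ : ∃ il, g.1 (ee a : V) il = 0 ∧ g.1 (ee c : V) il = 0 ∧ g.1 (ee k : V) il = 0 := by
    rcases hA with hA | ⟨o, ho⟩
    · obtain ⟨l, hl⟩ : ∃ l, l ∈ A.filter fun b =>
          b ∉ (A.filter fun b => S b = S a) ∪ (A.filter fun b => S b = S c) ∧ S b ≠ S k :=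
        Finset.card_pos.1 (by
          have := hsplit ((A.filter fun b => S b = S a) ∪ (A.filter fun b => S b = S c)) k hkA
          have := Finset.card_union_le (A.filter fun b => S b = S a) (A.filter fun b => S b = S c)
          have := hclass a ha
          have := hclass c hcA
          omega)
      simp only [Finset.mem_filter, Finset.mem_union, not_or, not_and] at hl
      obtain ⟨hlA, ⟨hla, hlc⟩, hlk⟩ := hl
      obtain ⟨il, hil⟩ := exists_supp g h2 l
      have hz : ∀ b ∈ A, S b ≠ S l → g.1 (ee b : V) il = 0 := fun b hb hne =>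
        notMem_supp.1 fun hm => Finset.disjoint_left.1 ((hdisj b hb l hlA).resolve_left hne) hm hil
      exact ⟨il, hz a ha (Ne.symm (hla hlA)), hz c hcA (Ne.symm (hlc hlA)), hz k hkA (Ne.symm hlk)⟩
    · exact ⟨o, notMem_supp.1 fun h => ho (hin a ha h), notMem_supp.1 fun h => ho (hin c hcA h),
        notMem_supp.1 fun h => ho (hin k hkA h)⟩
  -- the three cycle
  have hac : a ≠ c := fun e => hca (by rw [e])
  have hck : c ≠ k := fun e => hkc (by rw [e])
  have hak : a ≠ k := fun e => hka' (by rw [e])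
  set σ : Equiv.Perm (Fin n) := Equiv.swap a c * Equiv.swap c k with hσ
  obtain ⟨h, hh, hhσ⟩ := O.exists_even hn (σ := σ) (by
    rw [hσ, map_mul, Equiv.Perm.sign_swap hac, Equiv.Perm.sign_swap hck]; rfl)
  have hσa : σ a = c := by
    rw [hσ, Equiv.Perm.mul_apply, Equiv.swap_apply_of_ne_of_ne hac hak, Equiv.swap_apply_left]
  have hσo : ∀ b, b ≠ a → b ≠ c → b ≠ k → σ b = b := fun b h1 h2 h3 => by
    rw [hσ, Equiv.Perm.mul_apply, Equiv.swap_apply_of_ne_of_ne h2 h3, Equiv.swap_apply_of_ne_of_ne h1 h2]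
  set y := g * h * g⁻¹ with hy
  have hyw : ∀ b, y.1 (g.1 (ee b : V)) = g.1 (ee (σ b)) := fun b => by
    show g.1 (h.1 (g.1.symm (g.1 (ee b)))) = _
    rw [LinearEquiv.symm_apply_apply, hhσ]
  obtain ⟨i, hi⟩ := exists_supp g h2 a
  -- the partner
  obtain ⟨a', ha', haa', hia'⟩ : ∃ a' ∈ A, a' ≠ a ∧ i ∈ S a' := by
    by_contra hno
    push Not at hno
    have hinv : g⁻¹.1 (ee i : V) = g.1 (ee a : V) i • ee a := by
      funext b
      have h1 := dot_map g h2 (g⁻¹.1 (ee i : V)) (ee b)
      rw [show g.1 (g⁻¹.1 (ee i : V)) = ee i from g.1.apply_symm_apply _, ee_dot, dot_ee] at h1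
      rw [← h1, Pi.smul_apply, smul_eq_mul, ee_apply]
      split_ifs with hb
      · rw [hb, mul_one]
      · rw [mul_zero]
        by_cases hbA : b ∈ A
        · exact notMem_supp.1 (hno b hbA hb)
        · exact hout b hbA i (hin a ha hi)
    have h2' := congrArg (fun z => g.1 z) hinv
    simp only [map_smul] at h2'
    rw [show g.1 (g⁻¹.1 (ee i : V)) = ee i from g.1.apply_symm_apply _] at h2'
    refine hcol a ha (isE_of_card (norm_image h2 g a) ((Finset.card_le_card (t := {i}) fun j hj => ?_).trans (by simp)))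
    rw [Finset.mem_singleton]
    by_contra hne
    have h3 := congrFun h2' j
    rw [ee_ne hne, Pi.smul_apply, smul_eq_mul, eq_comm, mul_eq_zero] at h3
    exact h3.elim (mem_supp.1 hi) (mem_supp.1 hj)
  have hSa' : S a' = S a := (hdisj a' ha' a ha).resolve_right fun hd => Finset.disjoint_left.1 hd hia' hi
  refine ⟨y, mul_mem (mul_mem hg hh) (inv_mem hg), fun hm => ?_, ?_⟩
  · obtain ⟨j, hj⟩ := hm i
    have hdot : ∀ b, y.1 (ee i : V) ⬝ᵥ g.1 (ee (σ b) : V) = g.1 (ee b : V) i := fun b => by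
      rw [← hyw, dot_map y h2, ee_dot]
    have hmem : ∀ b, g.1 (ee b : V) i ≠ 0 → j ∈ S (σ b) := fun b hb => by
      rw [← hdot b] at hb
      refine mem_supp.2 fun h0 => hb ?_
      rcases hj with e | e <;> rw [e] <;> simp [neg_dotProduct, ee_dot, h0]
    have h1 := hmem a (mem_supp.1 hi)
    have h3 := hmem a' (mem_supp.1 hia')
    rw [hσa] at h1
    rw [hσo a' haa' (fun e => hca (e ▸ hSa')) (fun e => hka' (e ▸ hSa')), hSa'] at h3
    exact Finset.disjoint_left.1 ((hdisj c hcA a ha).resolve_left hca) h1 h3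
  · refine ⟨il, il, Or.inl ?_⟩
    set q := g⁻¹.1 (ee il : V) with hq
    have hqb : ∀ b, q b = g.1 (ee b : V) il := fun b => by
      have h1 := dot_map g h2 q (ee b)
      rw [hq, show g.1 (g⁻¹.1 (ee il : V)) = ee il from g.1.apply_symm_apply _, ee_dot, dot_ee] at h1
      exact h1.symm
    have hfix : h.1 q = q := by
      funext b
      obtain ⟨b, rfl⟩ := σ.surjective b
      rw [perm_apply hhσ, hqb, hqb]
      by_cases h1 : b = a
      · subst h1
        rw [hσa, hila, hilc]
      by_cases h3 : b = c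
      · subst h3
        rw [show σ b = k by rw [hσ, Equiv.Perm.mul_apply, Equiv.swap_apply_left,
          Equiv.swap_apply_of_ne_of_ne (Ne.symm hak) (Ne.symm hck)], hilc,
          hilk]
      by_cases h4 : b = k
      · subst h4
        rw [show σ b = a by rw [hσ, Equiv.Perm.mul_apply, Equiv.swap_apply_right, Equiv.swap_apply_right],
          hila, hilk]
      rw [hσo b h1 h3 h4]
    show g.1 (h.1 (g⁻¹.1 (ee il))) = ee il
    rw [← hq, hfix, hq]
    exact g.1.apply_symm_apply _

end CfsgLib.MaxSub.Frame
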