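import Cfsg.Agent.Lib.MaxSub.Frame.Hadamard

/-!
Orthogonal frames: an element preserving an odd set of coordinates.
-/

set_option autoImplicit false
set_option linter.unusedSectionVars false
set_option maxHeartbeats 400000

namespace CfsgLib.MaxSub.Frame

open QuadraticMap CfsgLib.WittExtension CfsgLib.SpinorNorm

variable {F : Type*} [Field F] [Fintype F] {n : ℕ} {G : Subgroup (quadIso (Q1 F n))}

local notation "V" => Fin n → F

theorem Mono.invol {w : quadIso (Q1 F n)} (h2 : (2 : F) ≠ 0) (hw : Mono w) (hsq : w * w = 1) :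
    ∃ (f : Fin n → Fin n) (s : Fin n → F), ∀ i, (s i = 1 ∨ s i = -1) ∧ w.1 (ee i : V) = s i • ee (f i) ∧
      f (f i) = i ∧ ∀ v, w.1 v i = s i * v (f i) := by
  have hex : ∀ i, ∃ j, ∃ t : F, (t = 1 ∨ t = -1) ∧ w.1 (ee i : V) = t • ee j := fun i => by
    obtain ⟨j, hj | hj⟩ := hw i
    · exact ⟨j, 1, Or.inl rfl, by rw [one_smul, hj]⟩
    · exact ⟨j, -1, Or.inr rfl, by rw [neg_one_smul, hj]⟩
  choose f s hs hfs using hex
  refine ⟨f, s, fun i => ⟨hs i, hfs i, ?_, fun v => ?_⟩⟩
  · have h1 : w.1 (w.1 (ee i : V)) = ee i := congrArg (fun g : quadIso (Q1 F n) => g.1 (ee i : V)) hsq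
    rw [hfs, map_smul, hfs, smul_smul] at h1
    by_contra hne
    have h3 := congrFun h1 i
    rw [Pi.smul_apply, ee_ne (Ne.symm hne), ee_self, smul_zero] at h3
    exact zero_ne_one h3
  · have h1 : w.1 (w.1 (ee i : V)) = ee i := congrArg (fun g : quadIso (Q1 F n) => g.1 (ee i : V)) hsq
    have h3 := dot_map w h2 v (s i • ee (f i))
    rw [← hfs, h1, hfs, dot_ee, dotProduct_smul, dot_ee, smul_eq_mul] at h3
    exact h3

/-- An involution of a finite set of odd order fixes an odd number of points. -/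
theorem odd_fixed {α : Type*} [DecidableEq α] {S : Finset α} {f : α → α} (hS : Odd S.card)
    (hf : ∀ x ∈ S, f x ∈ S) (hff : ∀ x ∈ S, f (f x) = x) : Odd (S.filter fun x => f x = x).card := by
  have h2 : ((S.filter fun x => ¬ f x = x).card : ZMod 2) = 0 := by
    rw [Finset.card_eq_sum_ones, Nat.cast_sum]
    refine Finset.sum_involution (fun x _ => f x) (fun x _ => by decide) (fun x hx _ => (Finset.mem_filter.1 hx).2)
      (fun x hx => ?_) (fun x hx => hff x (Finset.mem_filter.1 hx).1)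
    obtain ⟨hxS, hne⟩ := Finset.mem_filter.1 hx
    refine Finset.mem_filter.2 ⟨hf x hxS, fun h => hne ?_⟩
    rw [hff x hxS] at h
    exact h.symm
  rw [ZMod.natCast_eq_zero_iff_even] at h2
  have h3 := Finset.card_filter_add_card_filter_not (s := S) (fun x => f x = x)
  rw [← h3, Nat.odd_add] at hS
  exact hS.2 h2

/-- Commuting involutions of a finite set of odd order have a common fixed point. -/
theorem exists_common_fixed {α : Type*} [DecidableEq α] {S : Finset α} (hS : Odd S.card)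
    (l : List (α → α)) (hf : ∀ f ∈ l, ∀ x ∈ S, f x ∈ S ∧ f (f x) = x)
    (hcomm : ∀ f ∈ l, ∀ g ∈ l, ∀ x ∈ S, f (g x) = g (f x)) : ∃ x ∈ S, ∀ f ∈ l, f x = x := by
  induction l generalizing S with
  | nil =>
    obtain ⟨x, hx⟩ := Finset.card_pos.1 hS.pos
    exact ⟨x, hx, fun f hf => absurd hf List.not_mem_nil⟩
  | cons a l ih =>
    have ha := hf a List.mem_cons_self
    obtain ⟨x, hx, hxl⟩ := ih (S := S.filter fun x => a x = x) (odd_fixed hS (fun x hx => (ha x hx).1)
      fun x hx => (ha x hx).2) (fun f hfl x hx => by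
        obtain ⟨hxS, hax⟩ := Finset.mem_filter.1 hx
        obtain ⟨h1, h2⟩ := hf f (List.mem_cons_of_mem _ hfl) x hxS
        refine ⟨Finset.mem_filter.2 ⟨h1, ?_⟩, h2⟩
        rw [hcomm a List.mem_cons_self f (List.mem_cons_of_mem _ hfl) x hxS, hax])
      (fun f hfl g hgl x hx => hcomm f (List.mem_cons_of_mem _ hfl) g (List.mem_cons_of_mem _ hgl) x
        (Finset.mem_filter.1 hx).1)
    obtain ⟨hxS, hax⟩ := Finset.mem_filter.1 hx
    exact ⟨x, hxS, fun f hfl => by
      rcases List.mem_cons.1 hfl with rfl | hfl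
      · exact hax
      · exact hxl f hfl⟩

/-- The inverse image of a basis vector. -/
theorem inv_ee (g : quadIso (Q1 F n)) (h2 : (2 : F) ≠ 0) (i b : Fin n) :
    g⁻¹.1 (ee i : V) b = g.1 (ee b : V) i := by
  have h := dot_map g h2 (g⁻¹.1 (ee i : V)) (ee b)
  rw [show g.1 (g⁻¹.1 (ee i : V)) = ee i from g.1.apply_symm_apply _, ee_dot, dot_ee] at h
  exact h.symm

/-- An element sending the coordinates of an odd set into it, with monomial pairs, has a monomial column there. -/
theorem odd_block (O : Ov G) {g : quadIso (Q1 F n)} {S : Finset (Fin n)} (hodd : Odd S.card)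
    (hin : ∀ a ∈ S, supp (g.1 (ee a : V)) ⊆ S) (hout : ∀ k, k ∉ S → ∀ i ∈ S, g.1 (ee k : V) i = 0)
    (hmono : ∀ a ∈ S, ∀ b ∈ S, a ≠ b → Mono (rf (g.1 (ee a : V)) * rf (g.1 (ee b)))) :
    ∃ a ∈ S, IsE (g.1 (ee a : V)) := by
  classical
  have h2 := O.two
  obtain ⟨a₀, ha₀⟩ := Finset.card_pos.1 hodd.pos
  by_cases h1 : S.card = 1
  · refine ⟨a₀, ha₀, isE_of_card (norm_image h2 g a₀) ?_⟩
    have := Finset.card_le_card (hin a₀ ha₀)
    omega
  have h3 : 3 ≤ S.card := by
    obtain ⟨m, hm⟩ := hodd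
    omega
  set P := (S ×ˢ S).filter fun p : Fin n × Fin n => p.1 ≠ p.2 with hP
  have hPm : ∀ p, p ∈ P ↔ p.1 ∈ S ∧ p.2 ∈ S ∧ p.1 ≠ p.2 := fun p => by
    simp [hP, Finset.mem_product, and_assoc]
  set y : Fin n × Fin n → quadIso (Q1 F n) :=
    fun p => g * (rf (ee p.1 : V) * rf (ee p.2)) * g⁻¹ with hy
  have hyd : ∀ p, y p = rf (g.1 (ee p.1 : V)) * rf (g.1 (ee p.2)) := fun p => conj_pair g _ _
  have hcommd : ∀ a b : Fin n, rf (ee a : V) * rf (ee b) = rf (ee b) * rf (ee a) := fun a b =>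
    ext_iso fun v => funext fun k => by
      show (rf (ee a : V)).1 ((rf (ee b : V)).1 v) k = (rf (ee b : V)).1 ((rf (ee a : V)).1 v) k
      simp only [rf_ee_apply]
      split_ifs <;> rfl
  have hycomm : ∀ p q, y p * y q = y q * y p := fun p q => by
    rw [hy]
    dsimp only
    rw [show ∀ A B : quadIso (Q1 F n), g * A * g⁻¹ * (g * B * g⁻¹) = g * (A * B) * g⁻¹ from fun A B => by group,
      show ∀ A B : quadIso (Q1 F n), g * A * g⁻¹ * (g * B * g⁻¹) = g * (A * B) * g⁻¹ from fun A B => by group]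
    congr 2
    simp only [mul_assoc]
    rw [← mul_assoc (rf (ee p.2 : V)) (rf (ee q.1)), hcommd p.2 q.1, mul_assoc,
      hcommd p.2 q.2, ← mul_assoc (rf (ee p.1 : V)), hcommd p.1 q.1, mul_assoc,
      ← mul_assoc (rf (ee p.1 : V)), hcommd p.1 q.2, mul_assoc]
  have hinv : ∀ p ∈ P, ∃ (f : Fin n → Fin n) (s : Fin n → F), ∀ i, (s i = 1 ∨ s i = -1) ∧
      (y p).1 (ee i : V) = s i • ee (f i) ∧ f (f i) = i := fun p hp => by
    obtain ⟨hp1, hp2, hp3⟩ := (hPm p).1 hp
    have hsq : y p * y p = 1 := by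
      rw [hy]
      dsimp only
      rw [show ∀ A : quadIso (Q1 F n), g * A * g⁻¹ * (g * A * g⁻¹) = g * (A * A) * g⁻¹ from fun A => by group,
        show rf (ee p.1 : V) * rf (ee p.2) * (rf (ee p.1) * rf (ee p.2)) = 1 from ext_iso fun v => funext fun k => by
          show (rf (ee p.1 : V)).1 ((rf (ee p.2 : V)).1 ((rf (ee p.1 : V)).1 ((rf (ee p.2 : V)).1 v))) k = v k
          simp only [rf_ee_apply]
          split_ifs <;> simp]
      group
    obtain ⟨f, s, h⟩ := Mono.invol h2 (by rw [hyd]; exact hmono _ hp1 _ hp2 hp3) hsq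
    exact ⟨f, s, fun i => ⟨(h i).1, (h i).2.1, (h i).2.2.1⟩⟩
  haveI : Nonempty (Fin n) := ⟨a₀⟩
  choose! f s hfs using hinv
  have hne : ∀ p ∈ P, ∀ i, s p i ≠ 0 := fun p hp i => by
    rcases (hfs p hp i).1 with h | h <;> rw [h] <;> simp [h2]
  -- a common fixed coordinate
  obtain ⟨i, hiS, hi⟩ := exists_common_fixed hodd (P.toList.map f) (fun φ hφ x hx => by
      obtain ⟨p, hp, rfl⟩ := List.mem_map.1 hφ
      rw [Finset.mem_toList] at hp
      refine ⟨?_, (hfs p hp x).2.2⟩
      by_contra hfx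
      have h := congrFun (hfs p hp x).2.1 (f p x)
      rw [hyd, pair_apply (norm_image h2 g _) (norm_image h2 g _) (image_orth h2 g ((hPm p).1 hp).2.2),
        Pi.sub_apply, Pi.sub_apply, Pi.smul_apply, Pi.smul_apply, Pi.smul_apply, ee_self,
        ee_ne (fun e : f p x = x => hfx (by rw [e]; exact hx)), smul_eq_mul, smul_eq_mul, smul_eq_mul, mul_one,
        notMem_supp.1 (fun h => hfx (hin _ ((hPm p).1 hp).1 h)),
        notMem_supp.1 (fun h => hfx (hin _ ((hPm p).1 hp).2.1 h))] at h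
      exact hne p hp x (by linear_combination -h))
    fun φ hφ ψ hψ x _ => by
      obtain ⟨p, hp, rfl⟩ := List.mem_map.1 hφ
      obtain ⟨q, hq, rfl⟩ := List.mem_map.1 hψ
      rw [Finset.mem_toList] at hp hq
      have h : (y p * y q).1 (ee x : V) = (y q * y p).1 (ee x) := by rw [hycomm]
      change (y p).1 ((y q).1 (ee x : V)) = (y q).1 ((y p).1 (ee x)) at h
      rw [(hfs q hq x).2.1, (hfs p hp x).2.1, map_smul, map_smul, (hfs p hp _).2.1, (hfs q hq _).2.1,
        smul_smul, smul_smul] at h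
      by_contra hne'
      have h' := congrFun h (f p (f q x))
      rw [Pi.smul_apply, Pi.smul_apply, ee_self, ee_ne hne', smul_zero, smul_eq_mul, mul_one] at h'
      exact mul_ne_zero (hne q hq x) (hne p hp _) h'
  -- its inverse image is a basis vector
  set z := g⁻¹.1 (ee i : V) with hz
  have hgz : g.1 z = ee i := g.1.apply_symm_apply _
  have hzS : supp z ⊆ S := fun b hb => by
    by_contra hbS
    exact mem_supp.1 hb (by rw [hz, inv_ee g h2]; exact hout b hbS i hiS)
  have hzn : z ⬝ᵥ z = 1 := norm_image h2 g⁻¹ i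
  have hsingle : (supp z).card ≤ 1 := Finset.card_le_one.2 fun a ha c hc => by
    by_contra hac
    obtain ⟨b, hb⟩ : ∃ b, b ∈ S \ {a, c} := Finset.card_pos.1 (by
      have := Finset.le_card_sdiff {a, c} S
      have := Finset.card_le_two (a := a) (b := c)
      omega)
    simp only [Finset.mem_sdiff, Finset.mem_insert, Finset.mem_singleton, not_or] at hb
    have hp : (a, b) ∈ P := (hPm _).2 ⟨hzS ha, hb.1, Ne.symm hb.2.1⟩
    have he := (hfs _ hp i).2.1
    rw [hi _ (List.mem_map.2 ⟨_, Finset.mem_toList.2 hp, rfl⟩), ← hgz, ← map_smul] at he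
    have he' : g.1 ((rf (ee a : V) * rf (ee b)).1 z) = g.1 (s (a, b) i • z) := by
      rw [← he]
      show _ = g.1 ((rf (ee a : V) * rf (ee b)).1 (g.1.symm (g.1 z)))
      rw [LinearEquiv.symm_apply_apply]
    replace he' := g.1.injective he'
    have ha' := congrFun he' a
    have hc' := congrFun he' c
    have hza : (rf (ee a : V) * rf (ee b)).1 z a = -z a := by
      show (rf (ee a : V)).1 ((rf (ee b : V)).1 z) a = _
      rw [rf_ee_apply, if_pos rfl, rf_ee_apply, if_neg (Ne.symm hb.2.1)]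
    have hzc : (rf (ee a : V) * rf (ee b)).1 z c = z c := by
      show (rf (ee a : V)).1 ((rf (ee b : V)).1 z) c = _
      rw [rf_ee_apply, if_neg (Ne.symm hac), rf_ee_apply, if_neg (Ne.symm hb.2.2)]
    rw [hza, Pi.smul_apply, smul_eq_mul] at ha'
    rw [hzc, Pi.smul_apply, smul_eq_mul] at hc'
    have h4 : s (a, b) i = -1 := mul_right_cancel₀ (mem_supp.1 ha) (by linear_combination -ha')
    rw [h4] at hc'
    exact mul_ne_zero h2 (mem_supp.1 hc) (by linear_combination hc')
  obtain ⟨a, ha⟩ := isE_of_card hzn hsingle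
  have haS : a ∈ S := hzS (mem_supp.2 (by rcases ha with e | e <;> rw [e] <;> simp [ee_self]))
  refine ⟨a, haS, i, ?_⟩
  rcases ha with e | e <;> rw [e] at hgz
  · exact Or.inl hgz
  · rw [map_neg] at hgz
    exact Or.inr (neg_eq_iff_eq_neg.1 hgz)

end CfsgLib.MaxSub.Frame
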