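import Cfsg.Agent.Lib.MaxSub.Frame.First

/-!
Orthogonal frames in odd dimension at least seven: an overgroup outside the monomial group has an element outside
it with a monomial column.

If no element outside the monomial group has a monomial column, then an element preserving an odd set of
coordinates is monomial, as a `2`-group fixes one of an odd number of points.  The reflection in a vector of the
orbit of the basis then commutes with a monomial involution built from each sign change, which forces every such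
vector to have weight at most two.
-/

set_option autoImplicit false
set_option linter.unusedSectionVars false
set_option maxHeartbeats 400000

namespace CfsgLib.MaxSub.Frame

open QuadraticMap CfsgLib.WittExtension CfsgLib.SpinorNorm

variable {F : Type*} [Field F] [Fintype F] {n : ℕ} {G : Subgroup (quadIso (Q1 F n))}

local notation "V" => Fin n → F

/-- An element commuting with the sign change on a set of even order is monomial. -/
theorem mono_of_commute (O : Ov G) (hn : 5 ≤ n) (hodd : Odd n) (hstar : Star G) {g : quadIso (Q1 F n)}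
    (hg : g ∈ G) {S : Finset (Fin n)} (hS : Even S.card) (hS0 : S.Nonempty)
    (hcross : ∀ i k, ¬ (i ∈ S ↔ k ∈ S) → g.1 (ee i : V) k = 0) : Mono g := by
  classical
  obtain ⟨a, -, ha⟩ := odd_block O (g := g) (S := Sᶜ) (by
      rw [Finset.card_compl, Fintype.card_fin, Nat.odd_sub (by simpa using S.card_le_univ)]
      exact iff_of_true hodd hS)
    (fun a ha k hk => by
      rw [Finset.mem_compl] at ha ⊢
      exact fun hkS => mem_supp.1 hk (hcross a k fun h => ha (h.2 hkS)))
    (fun k hk i hi => by
      simp only [Finset.mem_compl, not_not] at hk hi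
      exact hcross k i fun h => hi (h.1 hk))
    (fun a ha b hb hab => by
      rw [Finset.mem_compl] at ha hb
      obtain ⟨k, hk⟩ := hS0
      refine hstar _ ?_ ⟨k, k, Or.inl ?_⟩
      · rw [← conj_pair g]
        exact mul_mem (mul_mem hg (O.pair_ee hn a b)) (inv_mem hg)
      · rw [pair_apply (norm_image O.two g a) (norm_image O.two g b) (image_orth O.two g hab), dot_ee, dot_ee,
          hcross a k fun h => ha (h.2 hk), hcross b k fun h => hb (h.2 hk)]
        simp)
  exact hstar g hg ⟨a, ha⟩

/-- A vector of norm one in the orbit of the basis. -/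
structure Orb (G : Subgroup (quadIso (Q1 F n))) (u : Fin n → F) : Prop where
  norm : u ⬝ᵥ u = 1
  orbit : ∃ g ∈ G, ∃ i, g.1 (ee i : Fin n → F) = u

/-- Minus the reflection in a vector of the orbit lies in the group. -/
theorem Orb.exists_neg (O : Ov G) (hn : 5 ≤ n) (hodd : Odd n) {u : V} (hu : Orb G u) :
    ∃ x ∈ G, ∀ v, x.1 v = (2 * (u ⬝ᵥ v)) • u - v := by
  classical
  obtain ⟨g, hg, i, rfl⟩ := hu.orbit
  have hone : ∀ j : Fin n, (ee j : V) ⬝ᵥ ee j ≠ 0 := fun j => by rw [ee_norm]; exact one_ne_zero
  -- the sign change on an even set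
  have hD : ∀ S : Finset (Fin n), Even S.card →
      ∃ d ∈ G, ∀ (v : V) k, d.1 v k = if k ∈ S then -v k else v k := by
    intro S
    induction S using Finset.strongInduction with
    | _ S ih =>
      intro hS
      rcases S.eq_empty_or_nonempty with rfl | hne
      · exact ⟨1, one_mem G, fun v k => by simp [show (1 : quadIso (Q1 F n)).1 v = v from rfl]⟩
      obtain ⟨a, ha⟩ := hne
      obtain ⟨b, hb⟩ : ∃ b, b ∈ S.erase a := Finset.card_pos.1 (by
        rw [Finset.card_erase_of_mem ha]
        obtain ⟨m, hm⟩ := hS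
        have := Finset.card_pos.2 ⟨a, ha⟩
        omega)
      obtain ⟨hba, hbS⟩ := Finset.mem_erase.1 hb
      obtain ⟨d, hd, hdv⟩ := ih ((S.erase a).erase b)
        ((Finset.erase_ssubset hb).trans (Finset.erase_ssubset ha)) (by
          rw [Finset.card_erase_of_mem hb, Finset.card_erase_of_mem ha]
          obtain ⟨m, hm⟩ := hS
          exact ⟨m - 1, by omega⟩)
      refine ⟨rf (ee a : V) * rf (ee b) * d, mul_mem (O.pair_ee hn a b) hd, fun v k => ?_⟩
      show (rf (ee a : V)).1 ((rf (ee b : V)).1 (d.1 v)) k = _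
      simp only [rf_ee_apply, hdv, Finset.mem_erase]
      by_cases hka : k = a
      · subst hka; simp [ha, Ne.symm hba]
      by_cases hkb : k = b
      · subst hkb; simp [hbS, hba]
      simp [hka, hkb]
  obtain ⟨d, hd, hdv⟩ := hD (Finset.univ.erase i) (by
    rw [Finset.card_erase_of_mem (Finset.mem_univ i), Finset.card_univ, Fintype.card_fin]
    exact Nat.Odd.sub_odd hodd odd_one)
  refine ⟨g * d * g⁻¹, mul_mem (mul_mem hg hd) (inv_mem hg), fun v => ?_⟩
  obtain ⟨z, rfl⟩ := g.1.surjective v
  show g.1 (d.1 (g.1.symm (g.1 z))) = _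
  rw [LinearEquiv.symm_apply_apply, dot_map g O.two, ← map_smul, ← map_sub]
  congr 1
  funext k
  rw [hdv, ee_dot, Pi.sub_apply, Pi.smul_apply, ee_apply]
  by_cases hk : k = i
  · subst hk; simp; ring
  · simp [hk]

/-- A vector of the orbit is full or has weight at most two. -/
theorem Orb.weight (O : Ov G) (hn : 5 ≤ n) (hodd : Odd n) (hstar : Star G) {u : V} (hu : Orb G u) {j : Fin n}
    (hj : u j = 0) : ∀ x, (∀ v, x.1 v = (2 * (u ⬝ᵥ v)) • u - v) → x ∈ G → Mono x ∧ (supp u).card ≤ 2 := by
  classical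
  intro x hx hxG
  have hm : Mono x := hstar x hxG ⟨j, j, Or.inr (by rw [hx, dot_ee, hj]; simp)⟩
  refine ⟨hm, ?_⟩
  obtain ⟨a, ha⟩ : ∃ a, u a ≠ 0 := by
    by_contra hc
    push Not at hc
    have h := hu.norm
    rw [show u = 0 from funext hc, zero_dotProduct] at h
    exact zero_ne_one h
  obtain ⟨k, hk⟩ := hm a
  refine card_le_two_of_subset (i := a) (j := k) fun l hl => ?_
  by_contra hl'
  simp only [Finset.mem_insert, Finset.mem_singleton, not_or] at hl'
  have h : x.1 (ee a : V) l = 0 := by rcases hk with e | e <;> rw [e] <;> simp [ee_ne hl'.2]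
  rw [hx, dot_ee, Pi.sub_apply, Pi.smul_apply, ee_ne hl'.1, sub_zero, smul_eq_mul] at h
  exact mul_ne_zero (mul_ne_zero O.two ha) (mem_supp.1 hl) h

/-- The squares of a full vector of the orbit over a sign change. -/
theorem Orb.sum_sq (O : Ov G) (hn : 5 ≤ n) (hodd : Odd n) (hstar : Star G) {u : V} (hu : Orb G u)
    (hfull : ∀ k, u k ≠ 0) {S : Finset (Fin n)} (hS : Even S.card) (hS0 : S.Nonempty) (hS3 : S.card + 3 ≤ n)
    {t : quadIso (Q1 F n)} (htG : t ∈ G) (ht : ∀ (v : V) k, t.1 v k = if k ∈ S then -v k else v k) :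
    ∑ k ∈ S, u k * u k = 0 ∨ ∑ k ∈ S, u k * u k = 1 ∨ (S.card ≤ 2 ∧ ∀ a ∈ S, ∀ b ∈ S, u a * u a = u b * u b) := by
  classical
  have h2 := O.two
  obtain ⟨x, hxG, hx⟩ := hu.exists_neg O hn hodd
  have ht2 : t * t = 1 := ext_iso fun v => funext fun k => by
    show t.1 (t.1 v) k = v k
    simp only [ht]
    split_ifs <;> simp
  have hxu : x.1 u = u := by rw [hx, hu.norm]; module
  have hx2 : x * x = 1 := ext_iso fun v => by
    show x.1 (x.1 v) = v
    rw [hx v, map_sub, map_smul, hxu, hx]
    module
  have hScard : 3 ≤ Sᶜ.card := by rw [Finset.card_compl, Fintype.card_fin]; omega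
  obtain ⟨a, b, -, ha, hb, -, hab, -, -⟩ := Finset.two_lt_card_iff.1 (show 2 < Sᶜ.card by omega)
  rw [Finset.mem_compl] at ha hb
  have heven : Even (orderOf (t * x)) := by
    rw [← Nat.not_odd_iff_even]
    intro ho
    obtain ⟨k, -, hk⟩ := dihedral_odd ht2 hx2 ho
    set w := k.1 u with hw
    have hfix : ∀ c, c ∉ S → (ee c : V) = w c • w := fun c hc => by
      have h1 : t.1 (ee c : V) = ee c := funext fun l => by
        rw [ht]
        split_ifs with hl
        · rw [ee_ne fun e : l = c => hc (e ▸ hl), neg_zero]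
        · rfl
      rw [← hk, show (k * x * k⁻¹).1 (ee c : V) = k.1 (x.1 (k⁻¹.1 (ee c))) from rfl, hx, map_sub, map_smul,
        show k.1 (k⁻¹.1 (ee c : V)) = ee c from k.1.apply_symm_apply _, ← hw,
        show u ⬝ᵥ k⁻¹.1 (ee c : V) = w c by
          rw [← dot_ee c w, ← dot_map k h2 u, show k.1 (k⁻¹.1 (ee c : V)) = ee c from k.1.apply_symm_apply _]]
        at h1
      funext l
      have h3 := congrFun h1 l
      simp only [Pi.sub_apply, Pi.smul_apply, smul_eq_mul] at h3 ⊢
      exact mul_left_cancel₀ h2 (by linear_combination -h3)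
    have e1 := congrFun (hfix a ha) a
    have e2 := congrFun (hfix a ha) b
    have e3 := congrFun (hfix b hb) b
    rw [Pi.smul_apply, ee_self, smul_eq_mul] at e1 e3
    rw [Pi.smul_apply, ee_ne hab.symm, smul_eq_mul, eq_comm, mul_eq_zero] at e2
    rcases e2 with h | h
    · simp [h] at e1
    · simp [h] at e3
  obtain ⟨m, hm⟩ := heven
  have hm0 : 0 < m := by
    have := orderOf_pos (t * x)
    omega
  obtain ⟨hw1, -, hwt, hwx⟩ := dihedral_even ht2 hx2 (m := m) (by omega) hm0
  set w := (t * x) ^ m with hw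
  have hwG : w ∈ G := pow_mem (mul_mem htG hxG) m
  have happ : ∀ (g h : quadIso (Q1 F n)), g * h = h * g → ∀ v, g.1 (h.1 v) = h.1 (g.1 v) := fun g h e v =>
    congrArg (fun z : quadIso (Q1 F n) => z.1 v) e
  have hcrossv : ∀ v : V, ∀ k, w.1 (fun l => if l ∈ S then v l else 0) k = if k ∈ S then w.1 v k else 0 := by
    intro v k
    have h1 := congrFun (happ t w hwt v) k
    have hdec : (fun l => if l ∈ S then v l else 0) = (2⁻¹ : F) • (v - t.1 v) := funext fun l => by
      rw [Pi.smul_apply, Pi.sub_apply, ht, smul_eq_mul]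
      split_ifs
      · rw [sub_neg_eq_add, ← two_mul, ← mul_assoc, inv_mul_cancel₀ h2, one_mul]
      · ring
    rw [hdec, map_smul, map_sub, ← happ t w hwt v, Pi.smul_apply, Pi.sub_apply, ht, smul_eq_mul]
    split_ifs
    · rw [sub_neg_eq_add, ← two_mul, ← mul_assoc, inv_mul_cancel₀ h2, one_mul]
    · ring
  have hmono : Mono w := mono_of_commute O hn hodd hstar hwG hS hS0 fun i k hik => by
    by_cases hi : i ∈ S
    · have h := hcrossv (ee i) k
      rw [show (fun l => if l ∈ S then (ee i : V) l else 0) = ee i from funext fun l => by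
        split_ifs with hl
        · rfl
        · rw [ee_ne fun e : l = i => hl (e ▸ hi)], if_neg fun hk => hik (iff_of_true hi hk)] at h
      exact h
    · have h := hcrossv (ee i) k
      rw [show (fun l => if l ∈ S then (ee i : V) l else 0) = 0 from funext fun l => by
        split_ifs with hl
        · rw [ee_ne fun e : l = i => hi (e ▸ hl)]; rfl
        · rfl, map_zero, if_pos (by by_contra hk; exact hik (iff_of_false hi hk))] at h
      exact h.symm
  -- the eigenvalue
  set c := u ⬝ᵥ w.1 u with hc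
  have hwu : w.1 u = c • u := by
    have h1 := happ x w hwx u
    rw [hxu, hx, ← hc] at h1
    funext k
    have h3 := congrFun h1 k
    simp only [Pi.sub_apply, Pi.smul_apply, smul_eq_mul] at h3 ⊢
    exact mul_left_cancel₀ h2 (by linear_combination -h3)
  have hc1 : c = 1 ∨ c = -1 := by
    have h1 := dot_map w h2 u u
    rw [hwu, smul_dotProduct, dotProduct_smul, hu.norm, smul_eq_mul, smul_eq_mul, mul_one] at h1
    exact mul_self_eq_one_iff.1 h1
  set q : V := fun l => if l ∈ S then u l else 0 with hq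
  set f : V := fun l => if l ∈ S then 0 else u l with hf
  have huqf : u = q + f := funext fun l => by simp only [hq, hf, Pi.add_apply]; split_ifs <;> simp
  have hwq : w.1 q = c • q := funext fun k => by
    rw [hq, hcrossv, hwu]
    split_ifs with hk <;> simp [hk]
  have hwf : w.1 f = c • f := by
    rw [show f = u - q by rw [huqf, add_sub_cancel_left], map_sub, hwu, hwq, smul_sub]
  have hqq : q ⬝ᵥ q = ∑ k ∈ S, u k * u k := by
    rw [dotProduct, ← Finset.sum_subset (Finset.subset_univ S) (fun l _ hl => by simp [hq, hl])]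
    exact Finset.sum_congr rfl fun l hl => by simp [hq, hl]
  have hff : f ⬝ᵥ f = 1 - ∑ k ∈ S, u k * u k := by
    have hqf : q ⬝ᵥ f = 0 := Finset.sum_eq_zero fun l _ => by
      simp only [hq, hf]; split_ifs <;> simp
    have h := hu.norm
    rw [huqf, add_dotProduct, dotProduct_add, dotProduct_add, dotProduct_comm f q, hqf, hqq] at h
    linear_combination h
  by_cases h0 : ∑ k ∈ S, u k * u k = 0
  · exact Or.inl h0
  by_cases h1 : ∑ k ∈ S, u k * u k = 1
  · exact Or.inr (Or.inl h1)
  right; right
  -- the eigenvalues away from the vector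
  have hpow : ∀ (σ : F) (v : V), (t * x).1 v = σ • v → ∀ k : ℕ, ((t * x) ^ k).1 v = σ ^ k • v := by
    intro σ v hv k
    induction k with
    | zero => rw [pow_zero, pow_zero, one_smul]; rfl
    | succ k ih =>
      rw [pow_succ]
      show ((t * x) ^ k).1 ((t * x).1 v) = _
      rw [hv, map_smul, ih, smul_smul, pow_succ, mul_comm]
  have hwin : ∀ e ∈ S, w.1 (ee e : V) = ee e + ((c - 1) * (u e / ∑ k ∈ S, u k * u k)) • q := by
    intro e he
    set v : V := ee e - (u e / ∑ k ∈ S, u k * u k) • q with hv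
    have hvS : ∀ l, l ∉ S → v l = 0 := fun l hl => by simp [hv, hq, hl, ee_ne (fun h : l = e => hl (h ▸ he))]
    have huv : u ⬝ᵥ v = 0 := by
      rw [hv, dotProduct_sub, dot_ee, dotProduct_smul, smul_eq_mul,
        show u ⬝ᵥ q = ∑ k ∈ S, u k * u k by
          rw [← hqq]; exact Finset.sum_congr rfl fun l _ => by simp only [hq]; split_ifs <;> simp,
        div_mul_cancel₀ _ h0, sub_self]
    have htx : (t * x).1 v = (1 : F) • v := by
      show t.1 (x.1 v) = _
      rw [hx, huv, one_smul, mul_zero, zero_smul, zero_sub]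
      funext l
      rw [ht]
      split_ifs with hl
      · rw [Pi.neg_apply, neg_neg]
      · rw [Pi.neg_apply, hvS l hl, neg_zero]
    have h := hpow 1 v htx m
    rw [one_pow, one_smul, ← hw, hv, map_sub, map_smul, hwq] at h
    rw [eq_add_of_sub_eq h]
    module
  have hwout : ∀ e, e ∉ S →
      w.1 (ee e : V) = (-1 : F) ^ m • ee e + ((c - (-1) ^ m) * (u e / (1 - ∑ k ∈ S, u k * u k))) • f := by
    intro e he
    set v : V := ee e - (u e / (1 - ∑ k ∈ S, u k * u k)) • f with hv
    have hvS : ∀ l, l ∈ S → v l = 0 := fun l hl => by simp [hv, hf, hl, ee_ne (fun h : l = e => he (h ▸ hl))]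
    have huv : u ⬝ᵥ v = 0 := by
      rw [hv, dotProduct_sub, dot_ee, dotProduct_smul, smul_eq_mul,
        show u ⬝ᵥ f = 1 - ∑ k ∈ S, u k * u k by
          rw [← hff]; exact Finset.sum_congr rfl fun l _ => by simp only [hf]; split_ifs <;> simp,
        div_mul_cancel₀ _ (sub_ne_zero.2 (Ne.symm h1)), sub_self]
    have htx : (t * x).1 v = (-1 : F) • v := by
      show t.1 (x.1 v) = _
      rw [hx, huv, mul_zero, zero_smul, zero_sub, neg_one_smul]
      funext l
      rw [ht]
      split_ifs with hl
      · simp [hvS l hl]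
      · rfl
    have h := hpow (-1) v htx m
    rw [← hw, hv, map_sub, map_smul, hwf] at h
    rw [eq_add_of_sub_eq h]
    module
  rcases hc1 with hc1 | hc1
  · -- the vector is fixed
    exfalso
    rcases neg_one_pow_eq_or F m with hσ | hσ
    · refine hw1 (ext_std fun e => ?_)
      show w.1 (ee e : V) = ee e
      by_cases he : e ∈ S
      · rw [hwin e he, hc1, sub_self, zero_mul, zero_smul, add_zero]
      · rw [hwout e he, hc1, hσ, sub_self, zero_mul, zero_smul, add_zero, one_smul]
    obtain ⟨e, he⟩ : ∃ e, e ∈ Sᶜ := Finset.card_pos.1 (by omega)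
    obtain ⟨j, hj⟩ := hmono e
    obtain ⟨l, hl⟩ : ∃ l, l ∈ Sᶜ \ {e, j} := Finset.card_pos.1 (by
      have := Finset.le_card_sdiff {e, j} Sᶜ
      have := Finset.card_le_two (a := e) (b := j)
      omega)
    simp only [Finset.mem_sdiff, Finset.mem_compl, Finset.mem_insert, Finset.mem_singleton, not_or] at he hl
    have h := congrFun (hwout e he) l
    rw [show w.1 (ee e : V) l = 0 by rcases hj with q' | q' <;> rw [q'] <;> simp [ee_ne hl.2.2], hc1, hσ] at h
    simp only [Pi.add_apply, Pi.smul_apply, hf, if_neg hl.1, ee_ne hl.2.1, smul_eq_mul, mul_zero, zero_add] at h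
    exact mul_ne_zero (mul_ne_zero h2 (div_ne_zero (hfull e) (sub_ne_zero.2 (Ne.symm h1)))) (hfull l)
      (by linear_combination -h)
  -- the vector is negated
  have hjs : ∀ e ∈ S, ∀ l ∈ S, l ≠ e → w.1 (ee e : V) l ≠ 0 := fun e he l hl hle => by
    rw [hwin e he, hc1]
    simp only [Pi.add_apply, Pi.smul_apply, hq, if_pos hl, ee_ne hle, zero_add, smul_eq_mul]
    exact mul_ne_zero (mul_ne_zero (fun h => h2 (by linear_combination -h)) (div_ne_zero (hfull e) h0)) (hfull l)
  have hS2 : S.card ≤ 2 := by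
    by_contra hlt
    obtain ⟨e, he⟩ := hS0
    obtain ⟨j, hj⟩ := hmono e
    obtain ⟨l, hl⟩ : ∃ l, l ∈ S \ {e, j} := Finset.card_pos.1 (by
      have := Finset.le_card_sdiff {e, j} S
      have := Finset.card_le_two (a := e) (b := j)
      omega)
    simp only [Finset.mem_sdiff, Finset.mem_insert, Finset.mem_singleton, not_or] at hl
    exact hjs e he l hl.1 hl.2.1 (by rcases hj with q' | q' <;> rw [q'] <;> simp [ee_ne hl.2.2])
  refine ⟨hS2, fun a' ha' b' hb' => ?_⟩
  by_cases hab' : a' = b'
  · rw [hab']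
  have hSeq : S = {a', b'} := (Finset.eq_of_subset_of_card_le (by simp [Finset.insert_subset_iff, ha', hb'])
    (by rw [Finset.card_pair hab']; exact hS2)).symm
  obtain ⟨j, hj⟩ := hmono a'
  have hdiag : w.1 (ee a' : V) a' = 0 := by
    have hoff := hjs a' ha' b' hb' (Ne.symm hab')
    rcases hj with e | e <;> rw [e] at hoff ⊢ <;>
      · have hjb : j = b' := by
          by_contra hne
          exact hoff (by simp [ee_ne (Ne.symm hne)])
        simp [hjb, ee_ne hab']
  rw [hwin a' ha', hc1] at hdiag
  simp only [Pi.add_apply, Pi.smul_apply, hq, if_pos ha', ee_self, smul_eq_mul] at hdiag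
  have hsum : ∑ k ∈ S, u k * u k = u a' * u a' + u b' * u b' := by rw [hSeq, Finset.sum_pair hab']
  rw [hsum] at hdiag h0
  generalize u a' = p, u b' = r at hdiag h0 ⊢
  have e := div_mul_cancel₀ p h0
  linear_combination (-(p * p + r * r)) * hdiag - (2 * p) * e

/-- No vector of the orbit is full. -/
theorem Orb.not_full (O : Ov G) (hn : 7 ≤ n) (hodd : Odd n) (hstar : Star G) :
    ∀ u : V, Orb G u → ∃ j, u j = 0 := by
  classical
  have h2 := O.two
  have hn5 : 5 ≤ n := by omega
  have hpair : ∀ a b : Fin n, a ≠ b → ∀ (v : V) k, (rf (ee a : V) * rf (ee b)).1 v k =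
      if k ∈ ({a, b} : Finset (Fin n)) then -v k else v k := fun a b hab v k => by
    show (rf (ee a : V)).1 ((rf (ee b : V)).1 v) k = _
    simp only [rf_ee_apply, Finset.mem_insert, Finset.mem_singleton]
    by_cases hka : k = a
    · simp [hka, hab]
    · simp [hka]
  -- all squares of a full vector are equal
  have heq : ∀ u : V, Orb G u → (∀ k, u k ≠ 0) →
      ∃ A : F, (∀ k, u k * u k = A) ∧ 4 * A = 1 := by
    intro u hu hfull
    set A : Fin n → F := fun k => u k * u k with hA
    have hA0 : ∀ k, A k ≠ 0 := fun k => mul_ne_zero (hfull k) (hfull k)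
    have hfour : ∀ a b c d : Fin n, a ≠ b → a ≠ c → a ≠ d → b ≠ c → b ≠ d → c ≠ d →
        A a + A b + A c + A d = 0 ∨ A a + A b + A c + A d = 1 := by
      intro a b c d hab hac had hbc hbd hcd
      have hcard : ({a, b, c, d} : Finset (Fin n)).card = 4 := by
        rw [Finset.card_insert_of_notMem (by simp [hab, hac, had]),
          Finset.card_insert_of_notMem (by simp [hbc, hbd]), Finset.card_pair hcd]
      rcases hu.sum_sq O hn5 hodd hstar hfull (S := {a, b, c, d}) (by rw [hcard]; exact ⟨2, rfl⟩)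
        ⟨a, by simp⟩ (by omega) (mul_mem (O.pair_ee hn5 a b) (O.pair_ee hn5 c d)) (fun v k => by
          show (rf (ee a : V) * rf (ee b)).1 ((rf (ee c : V) * rf (ee d)).1 v) k = _
          rw [hpair a b hab, hpair c d hcd]
          simp only [Finset.mem_insert, Finset.mem_singleton]
          by_cases hka : k = a
          · subst hka; simp [hac, had]
          by_cases hkb : k = b
          · subst hkb; simp [hbc, hbd]
          simp [hka, hkb]) with h | h | ⟨h, -⟩
      · left; rw [← h, Finset.sum_insert (by simp [hab, hac, had]), Finset.sum_insert (by simp [hbc, hbd]),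
          Finset.sum_pair hcd, ← add_assoc, ← add_assoc]
      · right; rw [← h, Finset.sum_insert (by simp [hab, hac, had]), Finset.sum_insert (by simp [hbc, hbd]),
          Finset.sum_pair hcd, ← add_assoc, ← add_assoc]
      · omega
    have htwo : ∀ a b : Fin n, a ≠ b → A a + A b = 0 ∨ A a + A b = 1 ∨ A a = A b := by
      intro a b hab
      rcases hu.sum_sq O hn5 hodd hstar hfull (S := {a, b}) (by rw [Finset.card_pair hab]; exact even_two)
        ⟨a, by simp⟩ (by rw [Finset.card_pair hab]; omega) (O.pair_ee hn5 a b) (hpair a b hab) with h | h | ⟨-, h⟩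
      · left; rw [← h, Finset.sum_pair hab]
      · right; left; rw [← h, Finset.sum_pair hab]
      · exact Or.inr (Or.inr (h a (by simp) b (by simp)))
    have hothers : ∀ s : Finset (Fin n), s.card ≤ 4 → ∃ c d e : Fin n, c ∉ s ∧ d ∉ s ∧ e ∉ s ∧
        c ≠ d ∧ c ≠ e ∧ d ≠ e := fun s hs => by
      obtain ⟨c, d, e, hc, hd, he, hcd, hce, hde⟩ := Finset.two_lt_card_iff.1
        (show 2 < sᶜ.card by rw [Finset.card_compl, Fintype.card_fin]; omega)
      exact ⟨c, d, e, Finset.mem_compl.1 hc, Finset.mem_compl.1 hd, Finset.mem_compl.1 he, hcd, hce, hde⟩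
    have hC : ∀ a b : Fin n, A a ≠ A b → ∀ k l : Fin n, k ≠ a → k ≠ b → l ≠ a → l ≠ b → A k = A l := by
      intro a b hne k l hka hkb hla hlb
      by_cases hkl : k = l
      · rw [hkl]
      obtain ⟨c, d, -, hc, hd, -, hcd, -, -⟩ := hothers {a, b, k, l} Finset.card_le_four
      simp only [Finset.mem_insert, Finset.mem_singleton, not_or] at hc hd
      have hab : a ≠ b := fun e => hne (by rw [e])
      have hsum : ∀ x y : F, (A a + x = 0 ∨ A a + x = 1) → (A b + x = 0 ∨ A b + x = 1) →
          (A a + y = 0 ∨ A a + y = 1) → (A b + y = 0 ∨ A b + y = 1) → x = y := by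
        intro x y h1 h3 h4 h5
        rcases h1 with h1 | h1 <;> rcases h3 with h3 | h3 <;> rcases h4 with h4 | h4 <;> rcases h5 with h5 | h5 <;>
          first
            | exact absurd (by linear_combination h1 - h3) hne
            | exact absurd (by linear_combination h4 - h5) hne
            | linear_combination h1 - h4
            | exact absurd (show (2 : F) = 0 by linear_combination h1 - h3 - h4 + h5) h2
            | exact absurd (show (2 : F) = 0 by linear_combination -h1 + h3 + h4 - h5) h2
      have h := hsum (A k + A c + A d) (A l + A c + A d)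
        (by simpa only [add_assoc] using hfour a k c d (Ne.symm hka) (Ne.symm hc.1) (Ne.symm hd.1)
              (Ne.symm hc.2.2.1) (Ne.symm hd.2.2.1) hcd)
        (by simpa only [add_assoc] using hfour b k c d (Ne.symm hkb) (Ne.symm hc.2.1) (Ne.symm hd.2.1)
              (Ne.symm hc.2.2.1) (Ne.symm hd.2.2.1) hcd)
        (by simpa only [add_assoc] using hfour a l c d (Ne.symm hla) (Ne.symm hc.1) (Ne.symm hd.1)
              (Ne.symm hc.2.2.2) (Ne.symm hd.2.2.2) hcd)
        (by simpa only [add_assoc] using hfour b l c d (Ne.symm hlb) (Ne.symm hc.2.1) (Ne.symm hd.2.1)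
              (Ne.symm hc.2.2.2) (Ne.symm hd.2.2.2) hcd)
      linear_combination h
    -- the exceptional coordinate
    have hall : ∀ a b : Fin n, A a = A b := by
      intro a b
      by_contra hne
      obtain ⟨k, l, m, hk, hl, hm, hkl, hkm, hlm⟩ := hothers {a, b} (by
        have := Finset.card_le_two (a := a) (b := b)
        omega)
      simp only [Finset.mem_insert, Finset.mem_singleton, not_or] at hk hl hm
      obtain ⟨a', b', ha', hb', hka', hla', hma', hkb', hlb', hmb'⟩ : ∃ a' b', A a' ≠ A b' ∧ A b' = A k ∧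
          k ≠ a' ∧ l ≠ a' ∧ m ≠ a' ∧ k ≠ b' ∧ l ≠ b' ∧ m ≠ b' := by
        by_cases hak : A k = A b
        · exact ⟨a, b, hne, hak.symm, hk.1, hl.1, hm.1, hk.2, hl.2, hm.2⟩
        · refine ⟨b, a, Ne.symm hne, ?_, hk.2, hl.2, hm.2, hk.1, hl.1, hm.1⟩
          rw [hC k b hak a l (Ne.symm hk.1) (fun e => hne (by rw [e])) (Ne.symm hkl) hl.2]
          exact (hC a b hne k l hk.1 hk.2 hl.1 hl.2).symm
      have hab' : a' ≠ b' := fun e => ha' (by rw [e])
      have hl' := hC a' b' ha' l k hla' hlb' hka' hkb'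
      have hm' := hC a' b' ha' m k hma' hmb' hka' hkb'
      have e1 := hfour b' k l m (Ne.symm hkb') (Ne.symm hlb') (Ne.symm hmb') hkl hkm hlm
      have e2 := hfour a' k l m (Ne.symm hka') (Ne.symm hla') (Ne.symm hma') hkl hkm hlm
      rw [hl', hm', ← hb'] at e1 e2
      have e1' : 4 * A b' = 1 := by
        rcases e1 with e1 | e1
        · exact absurd (show A b' * (2 * 2) = 0 by linear_combination e1)
            (mul_ne_zero (hA0 b') (mul_ne_zero h2 h2))
        · linear_combination e1
      have e2' : A a' + 3 * A b' = 0 := by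
        rcases e2 with e2 | e2
        · linear_combination e2
        · exact absurd (by linear_combination e2 - e1') ha'
      rcases htwo a' b' hab' with h | h | h
      · exact absurd (show A b' * 2 = 0 by linear_combination e2' - h) (mul_ne_zero (hA0 b') h2)
      · exact absurd (show A a' * 2 = 0 by linear_combination e2' - e1' + h) (mul_ne_zero (hA0 a') h2)
      · exact ha' h
    obtain ⟨a, b, c, hab, hac, hbc⟩ : ∃ a b c : Fin n, a ≠ b ∧ a ≠ c ∧ b ≠ c :=
      ⟨⟨0, by omega⟩, ⟨1, by omega⟩, ⟨2, by omega⟩, by simp, by simp, by simp⟩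
    obtain ⟨d, -, -, hd, -, -, -, -, -⟩ := hothers {a, b, c} (by
      have := Finset.card_le_three (a := a) (b := b) (c := c)
      omega)
    simp only [Finset.mem_insert, Finset.mem_singleton, not_or] at hd
    refine ⟨A a, fun k => hall k a, ?_⟩
    rcases hfour a b c d hab hac (Ne.symm hd.1) hbc (Ne.symm hd.2.1) (Ne.symm hd.2.2) with h | h
    · rw [hall b a, hall c a, hall d a] at h
      exact absurd (show A a * (2 * 2) = 0 by linear_combination h) (mul_ne_zero (hA0 a) (mul_ne_zero h2 h2))
    · rw [hall b a, hall c a, hall d a] at h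
      linear_combination h
  -- four sign changes
  intro u hu
  by_contra hfull
  push Not at hfull
  obtain ⟨A, hA, h4⟩ := heq u hu hfull
  have hlt : ∀ i : ℕ, i < 4 → i < n := fun i hi => by omega
  set a : Fin n := ⟨0, hlt 0 (by norm_num)⟩
  set b : Fin n := ⟨1, hlt 1 (by norm_num)⟩
  set c : Fin n := ⟨2, hlt 2 (by norm_num)⟩
  set d : Fin n := ⟨3, hlt 3 (by norm_num)⟩
  set o : Fin n := ⟨4, by omega⟩
  set E : Finset (Fin n) := {a, b, c, d} with hE
  have hEc : E.card = 4 := by simp [hE, a, b, c, d]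
  have hoE : o ∉ E := by simp [hE, a, b, c, d, o]
  obtain ⟨x, hxG, hx⟩ := hu.exists_neg O hn5 hodd
  obtain ⟨g, hg, i, hgi⟩ := hu.orbit
  set ε := rf (ee a : V) * rf (ee b) * (rf (ee c : V) * rf (ee d)) with hε
  have hεv : ∀ (v : V) k, ε.1 v k = if k ∈ E then -v k else v k := fun v k => by
    show (rf (ee a : V) * rf (ee b)).1 ((rf (ee c : V) * rf (ee d)).1 v) k = _
    rw [hpair a b (by simp [a, b]), hpair c d (by simp [c, d])]
    simp only [hE, Finset.mem_insert, Finset.mem_singleton]
    by_cases hka : k = a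
    · subst hka; simp [a, c, d]
    by_cases hkb : k = b
    · subst hkb; simp [b, c, d]
    simp [hka, hkb]
  set u' := x.1 (ε.1 u) with hu'
  have horb : Orb G u' := ⟨by rw [hu', dot_map x h2, dot_map ε h2, hu.norm],
    x * ε * g, mul_mem (mul_mem hxG (mul_mem (O.pair_ee hn5 a b) (O.pair_ee hn5 c d))) hg, i, by
      show x.1 (ε.1 (g.1 (ee i))) = _
      rw [hgi]⟩
  have hdot : u ⬝ᵥ ε.1 u = -1 := by
    have h1 : u ⬝ᵥ ε.1 u = u ⬝ᵥ u - 2 * ∑ k ∈ E, u k * u k := by
      rw [Finset.mul_sum, dotProduct, dotProduct]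
      conv_rhs => arg 2; rw [← Finset.univ_inter E, ← Finset.sum_ite_mem]
      rw [← Finset.sum_sub_distrib]
      exact Finset.sum_congr rfl fun k _ => by rw [hεv]; split_ifs <;> ring
    rw [h1, hu.norm, Finset.sum_congr rfl fun k _ => hA k, Finset.sum_const, hEc, nsmul_eq_mul]
    push_cast
    linear_combination (-2 : F) * h4
  have hcoord : ∀ k, u' k = if k ∈ E then -u k else -(3 * u k) := fun k => by
    rw [hu', hx, hdot, Pi.sub_apply, Pi.smul_apply, hεv, smul_eq_mul]
    split_ifs <;> ring
  by_cases h3 : (3 : F) = 0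
  · obtain ⟨x', hx'G, hx'⟩ := horb.exists_neg O hn5 hodd
    have hw := (horb.weight O hn5 hodd hstar (j := o) (by rw [hcoord, if_neg hoE, h3]; ring) x' hx' hx'G).2
    have hsub : E ⊆ supp u' := fun k hk => by
      rw [mem_supp, hcoord, if_pos hk]
      exact neg_ne_zero.2 (hfull k)
    have := Finset.card_le_card hsub
    omega
  obtain ⟨A', hA', -⟩ := heq u' horb fun k => by
    rw [hcoord]
    split_ifs
    · exact neg_ne_zero.2 (hfull k)
    · exact neg_ne_zero.2 (mul_ne_zero h3 (hfull k))
  have e1 := hA' a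
  have e2 := hA' o
  rw [hcoord, if_pos (by simp [hE])] at e1
  rw [hcoord, if_neg hoE] at e2
  exact mul_ne_zero (pow_ne_zero 3 h2) (show A ≠ 0 from hA a ▸ mul_ne_zero (hfull a) (hfull a))
    (by linear_combination e2 - e1 - (9 : F) * hA o + hA a)

/-- An overgroup outside the monomial group in odd dimension has an element outside it with a monomial column. -/
theorem exists_col_odd (O : Ov G) (hn : 7 ≤ n) (hodd : Odd n) {g : quadIso (Q1 F n)} (hg : g ∈ G)
    (hgm : ¬ Mono g) : ∃ y ∈ G, ¬ Mono y ∧ ∃ i, IsE (y.1 (ee i : V)) := by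
  classical
  by_contra hh
  have hstar : Star G := fun y hy hc => by
    by_contra hm
    exact hh ⟨y, hy, hm, hc⟩
  have hn5 : 5 ≤ n := by omega
  have hx : ∀ i, ∃ x ∈ G, Mono x ∧ x * x = 1 ∧ ∀ v, x.1 v = -(rf (g.1 (ee i : V))).1 v := by
    intro i
    have hu : Orb G (g.1 (ee i : V)) := ⟨norm_image O.two g i, g, hg, i, rfl⟩
    obtain ⟨x, hxG, hxv⟩ := hu.exists_neg O hn5 hodd
    obtain ⟨j, hj⟩ := Orb.not_full O hn hodd hstar _ hu
    refine ⟨x, hxG, (hu.weight O hn5 hodd hstar hj x hxv hxG).1, ext_iso fun v => ?_, fun v => ?_⟩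
    · show x.1 (x.1 v) = v
      rw [hxv v, map_sub, map_smul, hxv, hxv, hu.norm]
      module
    · rw [hxv, rf_apply (by rw [norm_image O.two g i]; exact one_ne_zero), norm_image O.two g i, div_one]
      abel
  obtain ⟨a, -, ha⟩ := odd_block O (g := g) (S := Finset.univ) (by rw [Finset.card_univ, Fintype.card_fin]; exact hodd)
    (fun a _ => Finset.subset_univ _) (fun k hk => absurd (Finset.mem_univ k) hk) fun a _ b _ _ => by
      obtain ⟨x, -, hxm, -, hxv⟩ := hx a
      obtain ⟨y, -, hym, -, hyv⟩ := hx b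
      rw [show rf (g.1 (ee a : V)) * rf (g.1 (ee b)) = x * y from ext_iso fun v => by
        show (rf (g.1 (ee a : V))).1 ((rf (g.1 (ee b))).1 v) = x.1 (y.1 v)
        rw [hyv, map_neg, hxv, neg_neg]]
      exact hxm.mul hym
  exact hgm (hstar g hg ⟨a, ha⟩)

end CfsgLib.MaxSub.Frame
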