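import Cfsg.Agent.Lib.MaxSub.Frame.Descent
import Mathlib.LinearAlgebra.CrossProduct

/-!
Orthogonal frames, part 6: a group of rotations of a three-space over a prime field containing the monomial
rotations and one more is transitive on the vectors of norm one.
-/

set_option autoImplicit false
set_option linter.unusedSectionVars false
set_option maxHeartbeats 400000

namespace CfsgLib.MaxSub.Frame

open Matrix

variable {F : Type*} [Field F]

local notation "E" => Fin 3 → F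

/-- A rotation. -/
def IsRot (g : (Fin 3 → F) ≃ₗ[F] (Fin 3 → F)) : Prop :=
  (∀ x y, g x ⬝ᵥ g y = x ⬝ᵥ y) ∧ ∀ x y, g (x ⨯₃ y) = g x ⨯₃ g y

theorem cross_bac (u v w : E) : u ⨯₃ (v ⨯₃ w) = (u ⬝ᵥ w) • v - (u ⬝ᵥ v) • w := by
  ext i
  fin_cases i <;> simp [cross_apply, dotProduct, Fin.sum_univ_three] <;> ring

theorem eq_smul_of_cross {e d : E} (he : e ≠ 0) (h : e ⨯₃ d = 0) : ∃ t : F, d = t • e := by
  by_contra hh
  push Not at hh
  exact crossProduct_ne_zero_iff_linearIndependent.2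
    ((LinearIndependent.pair_iff' he).2 fun t e' => hh t e'.symm) h

theorem IsRot.fix_two {g : E ≃ₗ[F] E} (hg : IsRot g) (h2 : (2 : F) ≠ 0) {x y : E} (hx : g x = x) (hy : g y = y)
    (hxy : x ⨯₃ y ≠ 0) : g = 1 := by
  set z := x ⨯₃ y with hz
  have hgz : g z = z := by rw [hz, hg.2, hx, hy]
  have key : ∀ w, z ⬝ᵥ w ≠ 0 → g w = w := by
    intro w hw
    have h0 : ∀ v, g v = v → v ⬝ᵥ (g w - w) = 0 := fun v hv => by
      rw [dotProduct_sub]
      nth_rw 1 [← hv]
      rw [hg.1, sub_self]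
    obtain ⟨t, ht⟩ := eq_smul_of_cross hxy (show z ⨯₃ (g w - w) = 0 by
      rw [← cross_anticomm, hz, cross_bac, dotProduct_comm (g w - w) y, h0 y hy, dotProduct_comm (g w - w) x,
        h0 x hx, zero_smul, zero_smul, sub_zero, neg_zero])
    have h1 : t * (z ⬝ᵥ z) = 0 := by
      have := h0 z hgz
      rwa [ht, dotProduct_smul, smul_eq_mul] at this
    have h3 := hg.1 w w
    rw [show g w = w + t • z by rw [← ht]; abel] at h3
    simp only [dotProduct_add, add_dotProduct, dotProduct_smul, smul_dotProduct, smul_eq_mul,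
      dotProduct_comm w z] at h3
    have h4 : 2 * (z ⬝ᵥ w) * t = 0 := by linear_combination h3 - t * h1
    rw [(mul_eq_zero.1 h4).resolve_left (mul_ne_zero h2 hw), zero_smul, sub_eq_zero] at ht
    exact ht
  obtain ⟨j, hj⟩ : ∃ j, z j ≠ 0 := by
    by_contra hh
    push Not at hh
    exact hxy (funext hh)
  have hw0 : z ⬝ᵥ ee j ≠ 0 := by rwa [dot_ee]
  refine LinearEquiv.ext fun w => ?_
  by_cases hw : z ⬝ᵥ w = 0
  · have h := key (w + ee j) (by rw [dotProduct_add, hw, zero_add]; exact hw0)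
    rw [map_add, key _ hw0] at h
    exact add_right_cancel h
  · exact key w hw

theorem IsRot.fix_unique {g : E ≃ₗ[F] E} (hg : IsRot g) (h2 : (2 : F) ≠ 0) (hne : g ≠ 1) {e y : E} (he : g e = e)
    (he0 : e ≠ 0) (hy : g y = y) : ∃ t : F, y = t • e := by
  refine eq_smul_of_cross he0 ?_
  by_contra h
  exact hne (hg.fix_two h2 he hy h)

theorem IsRot.exists_fix {g : E ≃ₗ[F] E} (hg : IsRot g) (h2 : (2 : F) ≠ 0) : ∃ v : E, v ≠ 0 ∧ g v = v := by
  set M : Matrix (Fin 3) (Fin 3) F := fun i => g (ee i) with hM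
  have hdet : M.det = 1 := by
    rw [show M = ![g (ee 0), g (ee 1), g (ee 2)] by funext i; fin_cases i <;> rfl, ← triple_product_eq_det, ← hg.2,
      hg.1]
    simp [ee, cross_apply, dotProduct, Fin.sum_univ_three]
  have horth : M * Mᵀ = 1 := by
    ext i j
    rw [Matrix.mul_apply']
    show g (ee i) ⬝ᵥ g (ee j) = _
    rw [hg.1, ee_dot, Matrix.one_apply, ee_apply]
  have hz : (M - 1).det = 0 := by
    have h1 : (M - 1) * Mᵀ = -(M - 1)ᵀ := by
      rw [sub_mul, horth, one_mul, Matrix.transpose_sub, Matrix.transpose_one, neg_sub]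
    have h3 := congrArg Matrix.det h1
    rw [Matrix.det_mul, Matrix.det_transpose, hdet, mul_one, Matrix.det_neg, Matrix.det_transpose,
      Fintype.card_fin] at h3
    exact (mul_eq_zero.1 (show 2 * (M - 1).det = 0 by linear_combination h3)).resolve_left h2
  obtain ⟨v, hv0, hv⟩ := Matrix.exists_vecMul_eq_zero_iff.2 hz
  refine ⟨v, hv0, ?_⟩
  rw [Matrix.vecMul_sub, Matrix.vecMul_one, sub_eq_zero] at hv
  conv_rhs => rw [← hv]
  conv_lhs => rw [pi_eq_sum_univ' v]
  rw [map_sum]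
  funext j
  rw [Finset.sum_apply, Matrix.vecMul, dotProduct]
  refine Finset.sum_congr rfl fun i _ => ?_
  rw [map_smul]
  rfl

theorem IsRot.iso_pow {g : E ≃ₗ[F] E} (hg : IsRot g) (h2 : (2 : F) ≠ 0) {p : ℕ} (hp : (p : F) = 0) {e : E}
    (he : g e = e) (he0 : e ≠ 0) (hee : e ⬝ᵥ e = 0) : g ^ p = 1 := by
  refine LinearEquiv.ext fun w => ?_
  set d := g w - w with hd
  have hde : e ⬝ᵥ d = 0 := by
    rw [hd, dotProduct_sub]
    nth_rw 1 [← he]
    rw [hg.1, sub_self]
  have hc : ∃ c : F, g d = d + c • e := by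
    obtain ⟨t, ht⟩ : ∃ t : F, e ⨯₃ d = t • e := by
      refine eq_smul_of_cross he0 ?_
      rw [cross_bac, hde, hee, zero_smul, zero_smul, sub_zero]
    have h1 : g (e ⨯₃ d) = e ⨯₃ d := by rw [ht, map_smul, he]
    rw [hg.2, he] at h1
    obtain ⟨c, hc⟩ := eq_smul_of_cross he0 (show e ⨯₃ (g d - d) = 0 by rw [map_sub, h1, sub_self])
    exact ⟨c, by rw [← hc]; abel⟩
  obtain ⟨c, hc⟩ := hc
  have hk : ∀ k : ℕ, (2 : F) • (g ^ k) w =
      (2 : F) • w + (2 * (k : F)) • d + ((k : F) * ((k : F) - 1) * c) • e := by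
    intro k
    induction k with
    | zero => simp
    | succ k ih =>
      rw [pow_succ', LinearEquiv.mul_apply, ← map_smul, ih, map_add, map_add, map_smul, map_smul, map_smul, hc, he,
        show g w = w + d by rw [hd]; abel]
      push_cast
      module
  have h := hk p
  rw [hp, mul_zero, zero_smul, add_zero, zero_mul, zero_mul, zero_smul, add_zero] at h
  exact smul_right_injective E h2 h

theorem IsRot.order_iso {g : E ≃ₗ[F] E} (hg : IsRot g) (h2 : (2 : F) ≠ 0) {p : ℕ} [Fact p.Prime] [CharP F p]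
    (hne : g ≠ 1) (hgp : g ^ p = 1) {e : E} (he : g e = e) (he0 : e ≠ 0) : e ⬝ᵥ e = 0 := by
  by_contra hee
  haveI : CharP (Module.End F E) p :=
    charP_of_injective_algebraMap (algebraMap F (Module.End F E)).injective p
  set N : Module.End F E := g.toLinearMap - 1 with hN
  have hpow : ∀ k : ℕ, (g.toLinearMap : Module.End F E) ^ k = (g ^ k).toLinearMap := by
    intro k
    induction k with
    | zero => rfl
    | succ k ih => rw [pow_succ, ih, pow_succ]; rfl
  have hNp : N ^ p = 0 := by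
    rw [hN, sub_pow_char_of_commute _ (Commute.one_right _), one_pow, hpow, hgp]
    exact sub_self _
  have hNe : ∀ w, e ⬝ᵥ N w = 0 := fun w => by
    show e ⬝ᵥ (g w - w) = 0
    rw [dotProduct_sub]
    nth_rw 1 [← he]
    rw [hg.1, sub_self]
  obtain ⟨v, hv0, hve⟩ : ∃ v : E, v ≠ 0 ∧ e ⬝ᵥ v = 0 := by
    by_contra hh
    push Not at hh
    have : g = 1 := LinearEquiv.ext fun w => by
      by_contra hw
      exact hh (g w - w) (sub_ne_zero.2 hw) (hNe w)
    exact hne this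
  classical
  have hex : ∃ k, (N ^ k) v = 0 := ⟨p, by rw [hNp]; rfl⟩
  obtain ⟨j, hj⟩ := Nat.exists_eq_succ_of_ne_zero (fun h0 : Nat.find hex = 0 => by
    have h1 := Nat.find_spec hex
    rw [h0, pow_zero] at h1
    exact hv0 h1)
  set y := (N ^ j) v with hy
  have hy0 : y ≠ 0 := Nat.find_min hex (by omega)
  have hgy : g y = y := by
    have h1 := Nat.find_spec hex
    rw [hj, pow_succ'] at h1
    exact sub_eq_zero.1 h1
  have hye : e ⬝ᵥ y = 0 := by
    rw [hy]
    clear_value y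
    cases j with
    | zero => exact hve
    | succ j => rw [pow_succ']; exact hNe _
  obtain ⟨t, ht⟩ := hg.fix_unique h2 hne he he0 hgy
  rw [ht, dotProduct_smul, smul_eq_mul, mul_eq_zero] at hye
  exact hy0 (by rw [ht, hye.resolve_right hee, zero_smul])

/-- The monomial rotations lie in the group. -/
structure RotGroup (H : Subgroup ((Fin 3 → F) ≃ₗ[F] (Fin 3 → F))) : Prop where
  two : (2 : F) ≠ 0
  rot : ∀ g ∈ H, IsRot g
  sign : ∀ i : Fin 3, ∃ g ∈ H, ∀ x k, g x k = if k = i then x k else -x k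
  quarter : ∃ g ∈ H, ∀ x : Fin 3 → F, g x = ![x 0, -x 2, x 1]
  cyc : ∃ g ∈ H, ∀ x : Fin 3 → F, g x = ![x 2, x 0, x 1]

section count

variable [Fintype F]

theorem ringChar_ne_two (h2 : (2 : F) ≠ 0) : ringChar F ≠ 2 := fun h => h2 (by
  have h1 := ringChar.spec F 2
  exact_mod_cast h1.2 (by rw [h]))

theorem finite_equiv : Finite (E ≃ₗ[F] E) :=
  Finite.of_injective (fun g => (g : E → E)) DFunLike.coe_injective

theorem arith_orbits {h o a b : ℕ} (ho : 6 ≤ o) (hsum : a + b + o = h + 2) (ho4 : 4 * o = h ∨ 8 * o ≤ h)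
    (ha : 2 * a = h ∨ 3 * a = h ∨ 4 * a ≤ h) (hb : 2 * b = h ∨ 3 * b = h ∨ 4 * b ≤ h) : o = 6 := by
  omega

/-- Without elements of order `p` the group is monomial. -/
theorem RotGroup.mono_of_coprime {H : Subgroup (E ≃ₗ[F] E)} (R : RotGroup H) {p : ℕ} [Fact p.Prime] [CharP F p]
    (hp : ¬ p ∣ Nat.card H) : ∀ g ∈ H, ∀ i, IsE (g (ee i)) := by
  classical
  haveI := finite_equiv (F := F)
  haveI : Fintype H := Fintype.ofFinite H
  have h2 := R.two
  obtain ⟨ε, hε⟩ := FiniteField.exists_nonsquare (F := F) (ringChar_ne_two h2)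
  have hε0 : ε ≠ 0 := fun h => hε (h ▸ IsSquare.zero)
  let S := {v : E // v ⬝ᵥ v = 1 ∨ v ⬝ᵥ v = ε}
  let act : MulAction H S :=
    { smul := fun g v => ⟨g.1 v.1, by rw [(R.rot g.1 g.2).1]; exact v.2⟩
      one_smul := fun v => Subtype.ext rfl
      mul_smul := fun g g' v => Subtype.ext rfl }
  have hsmul : ∀ (g : H) (v : S), (g • v).1 = g.1 v.1 := fun g v => rfl
  have hfix : ∀ g : H, g ≠ 1 → Fintype.card (MulAction.fixedBy S g) = 2 := by
    intro g hg
    have hg1 : g.1 ≠ 1 := fun h => hg (Subtype.ext h)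
    obtain ⟨e, he0, he⟩ := (R.rot _ g.2).exists_fix h2
    set N := e ⬝ᵥ e with hNdef
    have hN : N ≠ 0 := fun h => by
      have h1 := (R.rot _ g.2).iso_pow h2 (CharP.cast_eq_zero F p) he he0 h
      have h3 : orderOf g = p := orderOf_eq_prime (Subtype.ext (by rw [SubmonoidClass.coe_pow]; exact h1)) hg
      exact hp (h3 ▸ orderOf_dvd_natCard g)
    obtain ⟨t0, ht0, ht0'⟩ : ∃ t : F, t ≠ 0 ∧ (t * t * N = 1 ∨ t * t * N = ε) := by
      by_cases hsq : IsSquare N
      · obtain ⟨r, hr⟩ := hsq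
        have hr0 : r ≠ 0 := fun h => hN (by rw [hr, h, mul_zero])
        exact ⟨r⁻¹, inv_ne_zero hr0, Or.inl (by rw [hr]; field_simp)⟩
      · have h1 : IsSquare (ε * N) := by
          rw [← quadraticChar_one_iff_isSquare (mul_ne_zero hε0 hN), map_mul,
            quadraticChar_neg_one_iff_not_isSquare.2 hε, quadraticChar_neg_one_iff_not_isSquare.2 hsq]
          norm_num
        obtain ⟨r, hr⟩ := h1
        refine ⟨r / N, div_ne_zero (fun h => mul_ne_zero hε0 hN (by rw [hr, h, mul_zero])) hN, Or.inr ?_⟩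
        field_simp
        linear_combination -hr
    have hv : ∀ t : F, (t • e) ⬝ᵥ (t • e) = t * t * N := fun t => by
      rw [smul_dotProduct, dotProduct_smul, smul_eq_mul, smul_eq_mul, hNdef, mul_assoc]
    let v1 : S := ⟨t0 • e, by rw [hv]; exact ht0'⟩
    let v2 : S := ⟨(-t0) • e, by rw [hv, neg_mul_neg]; exact ht0'⟩
    have hne : v1 ≠ v2 := fun h => by
      have h1 := smul_left_injective F he0 (congrArg Subtype.val h)
      exact mul_ne_zero h2 ht0 (by linear_combination h1)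
    rw [show Fintype.card (MulAction.fixedBy S g) = ({v1, v2} : Finset S).card from Fintype.card_of_finset' _ ?_,
      Finset.card_pair hne]
    intro v
    rw [Finset.mem_insert, Finset.mem_singleton, MulAction.mem_fixedBy]
    constructor
    · rintro (rfl | rfl) <;> refine Subtype.ext ?_ <;> rw [hsmul] <;> simp [v1, v2, map_smul, he]
    intro hgv
    obtain ⟨t, ht⟩ := (R.rot _ g.2).fix_unique h2 hg1 he he0 (show g.1 v.1 = v.1 by rw [← hsmul, hgv])
    have h1 := v.2
    rw [ht, hv] at h1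
    have h3 : t * t * N = t0 * t0 * N := by
      rcases h1 with h1 | h1 <;> rcases ht0' with h4 | h4 <;> rw [h1, h4]
      · exfalso
        refine hε ⟨t0 / t, ?_⟩
        have ht : t ≠ 0 := fun h => zero_ne_one (by rw [h, zero_mul, zero_mul] at h1; exact h1)
        field_simp
        linear_combination -(t * t) * h4 + (t0 * t0) * h1
      · exfalso
        refine hε ⟨t / t0, ?_⟩
        field_simp
        linear_combination -(t0 * t0) * h1 + (t * t) * h4
    rcases mul_self_eq_mul_self_iff.1 (mul_right_cancel₀ hN h3) with h | h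
    · exact Or.inl (Subtype.ext (by rw [ht, h]))
    · exact Or.inr (Subtype.ext (by rw [ht, h]))
  set h := Fintype.card H with hh
  let Ω := Quotient (MulAction.orbitRel H S)
  let f : Ω → ℕ := fun O => Nat.card (MulAction.orbit H O.out)
  have hdvd : ∀ O, f O * Nat.card (MulAction.stabilizer H O.out) = h := fun O => by
    rw [hh, ← MulAction.card_orbit_mul_card_stabilizer_eq_card_group H O.out]
    simp [f, Nat.card_eq_fintype_card]
  have hle : ∀ O, f O ≤ h := fun O => by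
    rw [← hdvd O]
    exact Nat.le_mul_of_pos_right _ Nat.card_pos
  have hS : Fintype.card S = ∑ O, f O := by
    rw [← Nat.card_eq_fintype_card, Nat.card_congr (MulAction.selfEquivSigmaOrbits H S), Nat.card_sigma]
  have hburn := MulAction.sum_card_fixedBy_eq_card_orbits_mul_card_group H S
  rw [Finset.sum_eq_add_sum_sdiff_singleton_of_mem (Finset.mem_univ (1 : H)),
    Finset.sum_congr rfl (fun g hg => hfix g (by simpa using hg)), Finset.sum_const,
    Finset.card_sdiff_of_subset (Finset.subset_univ _), Finset.card_singleton, Finset.card_univ, ← hh,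
    smul_eq_mul] at hburn
  have hone : Fintype.card (MulAction.fixedBy S (1 : H)) = Fintype.card S :=
    Fintype.card_congr ((Equiv.setCongr (MulAction.fixedBy_one_eq_univ S H)).trans (Equiv.Set.univ S))
  rw [hone, hS] at hburn
  -- the orbit of an axis
  let v0 : S := ⟨ee 0, Or.inl (ee_norm 0)⟩
  let O1 : Ω := Quotient.mk _ v0
  have hf1 : f O1 = Nat.card (MulAction.orbit H v0) := by
    have : MulAction.orbit H (O1.out) = MulAction.orbit H v0 :=
      MulAction.orbit_eq_iff.2 (Quotient.mk_out (s := MulAction.orbitRel H S) v0)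
    simp only [f, this]
  obtain ⟨q, hq, hqx⟩ := R.quarter
  obtain ⟨c, hc, hcx⟩ := R.cyc
  obtain ⟨s1, hs1, hs1x⟩ := R.sign 1
  have he1 : c (ee 0 : E) = ee 1 := by rw [hcx]; funext k; fin_cases k <;> simp [ee]
  have he2 : c (ee 1 : E) = ee 2 := by rw [hcx]; funext k; fin_cases k <;> simp [ee]
  have hs0 : s1 (ee 0 : E) = -ee 0 := by funext k; rw [hs1x]; fin_cases k <;> simp [ee]
  have hmem : ∀ g ∈ H, ∀ v : S, g (ee 0 : E) = v.1 → v ∈ MulAction.orbit H v0 := fun g hg v hv =>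
    ⟨⟨g, hg⟩, Subtype.ext hv⟩
  let T : Finset E := {ee 0, -ee 0, ee 1, -ee 1, ee 2, -ee 2}
  have hT : ∀ x ∈ T, IsE x := fun x hx => by
    simp only [T, Finset.mem_insert, Finset.mem_singleton] at hx
    rcases hx with rfl | rfl | rfl | rfl | rfl | rfl <;> exact ⟨_, by tauto⟩
  have hT6 : T.card = 6 := by
    have h11 : (1 : F) ≠ -1 := fun h => h2 (by linear_combination h)
    simp only [T]
    repeat rw [Finset.card_insert_of_notMem]
    · rfl
    all_goals
      simp only [Finset.mem_insert, Finset.mem_singleton, not_or]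
      refine ?_
      repeat' constructor
    all_goals
      intro he
      first
        | exact h11 (by simpa [ee] using congrFun he 0)
        | exact h11 (by simpa [ee] using congrFun he 1)
        | exact h11 (by simpa [ee] using congrFun he 2)
        | exact h11 (by simpa [ee] using (congrFun he 0).symm)
        | exact h11 (by simpa [ee] using (congrFun he 1).symm)
        | exact h11 (by simpa [ee] using (congrFun he 2).symm)
        | simpa [ee] using congrFun he 0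
        | simpa [ee] using congrFun he 1
        | simpa [ee] using congrFun he 2
  have hTorb : ∀ x ∈ T, ∃ g ∈ H, g (ee 0 : E) = x := fun x hx => by
    simp only [T, Finset.mem_insert, Finset.mem_singleton] at hx
    rcases hx with rfl | rfl | rfl | rfl | rfl | rfl
    · exact ⟨1, one_mem H, rfl⟩
    · exact ⟨s1, hs1, hs0⟩
    · exact ⟨c, hc, he1⟩
    · exact ⟨c * s1, mul_mem hc hs1, by rw [LinearEquiv.mul_apply, hs0, map_neg, he1]⟩
    · exact ⟨c * c, mul_mem hc hc, by rw [LinearEquiv.mul_apply, he1, he2]⟩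
    · exact ⟨c * (c * s1), mul_mem hc (mul_mem hc hs1), by
        rw [LinearEquiv.mul_apply, LinearEquiv.mul_apply, hs0, map_neg, he1, map_neg, he2]⟩
  let Ob : Finset E := Finset.univ.filter fun x => ∃ g ∈ H, g (ee 0 : E) = x
  have hOb : Ob.card = f O1 := by
    have hinj : Set.InjOn (fun v : S => v.1) (MulAction.orbit H v0).toFinset := fun a _ b _ hab => Subtype.ext hab
    rw [hf1, Nat.card_eq_fintype_card, ← Set.toFinset_card, ← Finset.card_image_of_injOn hinj]
    congr 1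
    ext x
    simp only [Ob, Finset.mem_filter, Finset.mem_univ, true_and, Finset.mem_image, Set.mem_toFinset]
    constructor
    · rintro ⟨g, hg, rfl⟩
      exact ⟨(⟨g, hg⟩ : H) • v0, ⟨⟨g, hg⟩, rfl⟩, rfl⟩
    · rintro ⟨v, ⟨g, rfl⟩, rfl⟩
      exact ⟨g.1, g.2, rfl⟩
  have hTsub : T ⊆ Ob := fun x hx => Finset.mem_filter.2 ⟨Finset.mem_univ _, hTorb x hx⟩
  have ho6 : 6 ≤ f O1 := by rw [← hOb, ← hT6]; exact Finset.card_le_card hTsub
  have h4 : 4 ∣ Nat.card (MulAction.stabilizer H O1.out) := by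
    have hk : Nat.card (MulAction.stabilizer H O1.out) = Nat.card (MulAction.stabilizer H v0) := by
      have h1 := hdvd O1
      have h3 := MulAction.card_orbit_mul_card_stabilizer_eq_card_group H v0
      rw [hf1] at h1
      simp only [← Nat.card_eq_fintype_card] at h3
      rw [hh, ← Nat.card_eq_fintype_card, ← h3] at h1
      exact Nat.eq_of_mul_eq_mul_left (by rw [← hf1]; omega) h1
    rw [hk]
    let q' : MulAction.stabilizer H v0 := ⟨⟨q, hq⟩, Subtype.ext (by
      rw [hsmul]; show q (ee 0) = ee 0; rw [hqx]; funext k; fin_cases k <;> simp [ee])⟩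
    have hq4 : orderOf q' = 4 := by
      haveI : Fact (Nat.Prime 2) := ⟨Nat.prime_two⟩
      refine orderOf_eq_prime_pow (p := 2) (n := 1) ?_ ?_
      · intro hh'
        have h1 := congrArg (fun z : MulAction.stabilizer H v0 => z.1.1 (ee 1 : E) 1) hh'
        simp only [pow_one, sq, Subgroup.coe_mul, LinearEquiv.mul_apply, q', hqx, OneMemClass.coe_one,
          LinearEquiv.coe_one, id_eq] at h1
        simp [ee] at h1
        exact h2 (by linear_combination -h1)
      · refine Subtype.ext (Subtype.ext (LinearEquiv.ext fun x => ?_))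
        simp only [show (2 : ℕ) ^ (1 + 1) = 4 from rfl, SubmonoidClass.coe_pow, OneMemClass.coe_one, pow_succ,
          pow_zero, one_mul, LinearEquiv.mul_apply, q', hqx, LinearEquiv.coe_one, id_eq]
        show q (q (q (q x))) = x
        rw [hqx, hqx, hqx, hqx]
        funext k
        fin_cases k <;> simp
    exact hq4 ▸ orderOf_dvd_natCard q'
  -- the count
  have hpos : ∀ O, 0 < f O := fun O => by
    rcases Nat.eq_zero_or_pos (f O) with h0 | h0
    · exact absurd (hdvd O) (by rw [h0, zero_mul]; exact (Fintype.card_pos (α := H)).ne)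
    · exact h0
  have hsplit : ∀ O, f O = h ∨ 2 * f O = h ∨ 3 * f O = h ∨ 4 * f O ≤ h := fun O => by
    have h1 := hdvd O
    have hk : 0 < Nat.card (MulAction.stabilizer H O.out) := Nat.card_pos
    generalize Nat.card (MulAction.stabilizer H O.out) = m at h1 hk
    rcases Nat.lt_or_ge m 4 with hm | hm
    · interval_cases m <;> omega
    · exact Or.inr (Or.inr (Or.inr (by rw [← h1, mul_comm 4]; exact Nat.mul_le_mul_left _ hm)))
  set P := Finset.univ.filter fun O : Ω => O ≠ O1 ∧ f O < h with hP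
  have hsum : (∑ O, (h - f O)) + 2 = 2 * h := by
    have h1 : (∑ O, (h - f O)) + ∑ O, f O = Fintype.card Ω * h := by
      rw [← Finset.sum_add_distrib, Finset.sum_congr rfl fun O _ => Nat.sub_add_cancel (hle O), Finset.sum_const,
        Finset.card_univ, smul_eq_mul]
    rw [← h1] at hburn
    have : 0 < h := Fintype.card_pos
    omega
  have hrest : ∑ O, (h - f O) = (h - f O1) + ∑ O ∈ P, (h - f O) := by
    rw [← Finset.add_sum_erase _ _ (Finset.mem_univ O1)]
    congr 1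
    refine (Finset.sum_subset (fun O hO => ?_) fun O hO hO' => ?_).symm
    · rw [hP, Finset.mem_filter] at hO
      simp [hO.2.1]
    · simp only [hP, Finset.mem_filter, Finset.mem_univ, true_and, not_and, not_lt] at hO'
      have := hO' (Finset.ne_of_mem_erase hO)
      omega
  have hPle : ∀ O ∈ P, 2 * f O ≤ h := fun O hO => by
    rw [hP, Finset.mem_filter] at hO
    have := hsplit O
    omega
  have hhi : ∑ O ∈ P, (h - f O) ≤ P.card * h := by
    rw [← smul_eq_mul, ← Finset.sum_const]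
    exact Finset.sum_le_sum fun O _ => Nat.sub_le _ _
  have hlo : P.card * h ≤ 2 * ∑ O ∈ P, (h - f O) := by
    rw [← smul_eq_mul, ← Finset.sum_const, Finset.mul_sum]
    exact Finset.sum_le_sum fun O hO => by have := hPle O hO; omega
  obtain ⟨k, hk⟩ := h4
  have hk1 := hdvd O1
  rw [hk] at hk1
  have ho4 : 4 * f O1 = h ∨ 8 * f O1 ≤ h := by
    rcases Nat.lt_or_ge k 2 with hk2 | hk2
    · interval_cases k
      · simp at hk1; omega
      · left; omega
    · right
      rw [← hk1, mul_comm 8]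
      exact Nat.mul_le_mul_left _ (by omega)
  have hP2 : P.card = 2 := by
    have h1 : 2 ≤ P.card := by
      by_contra hlt
      have : P.card * h ≤ 1 * h := Nat.mul_le_mul_right _ (by omega)
      omega
    have h3 : P.card ≤ 2 := by
      by_contra hlt
      have : 3 * h ≤ P.card * h := Nat.mul_le_mul_right _ (by omega)
      omega
    omega
  obtain ⟨A, B, hAB, hPeq⟩ := Finset.card_eq_two.1 hP2
  rw [hPeq, Finset.sum_pair hAB] at hrest
  have hsel : ∀ O ∈ P, 2 * f O = h ∨ 3 * f O = h ∨ 4 * f O ≤ h := fun O hO => by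
    rw [hP, Finset.mem_filter] at hO
    exact (hsplit O).resolve_left hO.2.2.ne
  have ho := arith_orbits (a := f A) (b := f B) ho6
    (by have := hle A; have := hle B; have := hle O1; omega)
    ho4 (hsel A (by rw [hPeq]; simp)) (hsel B (by rw [hPeq]; simp))
  have hTeq : T = Ob := Finset.eq_of_subset_of_card_le hTsub (by rw [hOb, ho, hT6])
  intro g hg i
  obtain ⟨c', hc', hci⟩ : ∃ c' ∈ H, c' (ee 0 : E) = ee i := by
    fin_cases i
    · exact hTorb (ee 0) (by simp [T])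
    · exact hTorb (ee 1) (by simp [T])
    · exact hTorb (ee 2) (by simp [T])
  refine hT _ (hTeq ▸ Finset.mem_filter.2 ⟨Finset.mem_univ _, g * c', mul_mem hg hc', ?_⟩)
  rw [LinearEquiv.mul_apply, hci]

end count

theorem IsRot.shift {u : E ≃ₗ[F] E} (hu : IsRot u) (h2 : (2 : F) ≠ 0) (hne : u ≠ 1) {e f : E} (he : u e = e)
    (hee : e ⬝ᵥ e = 0) (hef : e ⬝ᵥ f = 1) :
    ∃ c : F, c ≠ 0 ∧ ∀ k : ℕ, (u ^ k) e = e ∧ (u ^ k) (e ⨯₃ f) = e ⨯₃ f + ((k : F) * c) • e := by
  have he0 : e ≠ 0 := fun h => by rw [h, zero_dotProduct] at hef; exact zero_ne_one hef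
  set m := e ⨯₃ f with hm
  have hem : e ⨯₃ m = e := by rw [hm, cross_bac, hef, hee, one_smul, zero_smul, sub_zero]
  obtain ⟨c, hc⟩ := eq_smul_of_cross he0 (show e ⨯₃ (u m - m) = 0 by
    have h1 := hu.2 e m
    rw [he, hem, he] at h1
    rw [map_sub, ← h1, hem, sub_self])
  refine ⟨c, fun h0 => ?_, fun k => ?_⟩
  · rw [h0, zero_smul, sub_eq_zero] at hc
    exact hne (hu.fix_two h2 he hc (by rw [hem]; exact he0))
  induction k with
  | zero => simp
  | succ k ih =>
    rw [pow_succ', LinearEquiv.mul_apply, LinearEquiv.mul_apply, ih.1, ih.2, map_add, map_smul, he,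
      show u m = m + c • e by rw [← hc]; abel]
    push_cast
    exact ⟨rfl, by module⟩

theorem rot_decomp {e f : E} (hee : e ⬝ᵥ e = 0) (hff : f ⬝ᵥ f = 0) (hef : e ⬝ᵥ f = 1) (v : E) :
    v = (f ⬝ᵥ v) • e - ((e ⨯₃ f) ⬝ᵥ v) • (e ⨯₃ f) + (e ⬝ᵥ v) • f := by
  set m := e ⨯₃ f with hm
  have hmm : m ⬝ᵥ m = -1 := by
    rw [hm, cross_dot_cross, hee, hff, hef, dotProduct_comm f e, hef]; ring
  have hem : e ⬝ᵥ m = 0 := dot_self_cross e f
  have hfm : f ⬝ᵥ m = 0 := dot_cross_self e f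
  set d := v - ((f ⬝ᵥ v) • e - (m ⬝ᵥ v) • m + (e ⬝ᵥ v) • f) with hd
  have hde : e ⬝ᵥ d = 0 := by
    simp only [hd, dotProduct_sub, dotProduct_add, dotProduct_smul, smul_eq_mul, hee, hem, hef]; ring
  have hdf : f ⬝ᵥ d = 0 := by
    simp only [hd, dotProduct_sub, dotProduct_add, dotProduct_smul, smul_eq_mul, hff, hfm, dotProduct_comm f e,
      hef]; ring
  have hdm : m ⬝ᵥ d = 0 := by
    simp only [hd, dotProduct_sub, dotProduct_add, dotProduct_smul, smul_eq_mul, hmm, dotProduct_comm m e,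
      dotProduct_comm m f, hem, hfm]; ring
  have hm0 : m ≠ 0 := fun h => by rw [h, zero_dotProduct] at hmm; exact one_ne_zero (by linear_combination hmm)
  obtain ⟨t, ht⟩ := eq_smul_of_cross hm0 (show m ⨯₃ d = 0 by
    rw [← cross_anticomm, hm, cross_bac, dotProduct_comm d f, hdf, dotProduct_comm d e, hde, zero_smul,
      zero_smul, sub_zero, neg_zero])
  rw [ht, dotProduct_smul, hmm, smul_eq_mul, mul_eq_zero] at hdm
  rw [hdm.resolve_right (neg_ne_zero.2 one_ne_zero), zero_smul, hd, sub_eq_zero] at ht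
  exact ht

/-- The group is transitive on the vectors of norm one. -/
theorem RotGroup.transitive [Fintype F] {H : Subgroup (E ≃ₗ[F] E)} (R : RotGroup H)
    (hcast : ∀ x : F, ∃ k : ℕ, (k : F) = x) {g0 : E ≃ₗ[F] E} (hg0 : g0 ∈ H) {i0 : Fin 3}
    (hnm : ¬ IsE (g0 (ee i0))) (x y : E) (hxy : x ⬝ᵥ x = y ⬝ᵥ y) (hx0 : x ⬝ᵥ x ≠ 0) : ∃ g ∈ H, g x = y := by
  classical
  haveI := finite_equiv (F := F)
  have h2 := R.two
  obtain ⟨p, hchar⟩ := CharP.exists F
  haveI := hchar
  haveI : Fact p.Prime := ⟨CharP.char_is_prime F p⟩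
  have hdiv : p ∣ Nat.card H := by
    by_contra hp
    exact hnm (R.mono_of_coprime hp g0 hg0 i0)
  obtain ⟨⟨u, hu⟩, hord⟩ := exists_prime_orderOf_dvd_card' p hdiv
  have hu1 : u ≠ 1 := fun h => by
    subst h
    exact (Fact.out : p.Prime).ne_one (hord ▸ orderOf_one)
  have hup : u ^ p = 1 := congrArg Subtype.val (hord ▸ pow_orderOf_eq_one (⟨u, hu⟩ : H))
  obtain ⟨e, he0, he⟩ := (R.rot u hu).exists_fix h2
  have hee := (R.rot u hu).order_iso h2 hu1 hup he he0
  -- a second isotropic line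
  obtain ⟨s, hs, hse⟩ : ∃ s ∈ H, e ⬝ᵥ s e ≠ 0 := by
    obtain ⟨i, hi⟩ : ∃ i, e i ≠ 0 := by
      by_contra hh
      push Not at hh
      exact he0 (funext hh)
    obtain ⟨s, hs, hsx⟩ := R.sign i
    refine ⟨s, hs, ?_⟩
    have h1 : e ⬝ᵥ s e = 2 * (e i * e i) - e ⬝ᵥ e := by
      simp only [dotProduct, hsx, Finset.mul_sum]
      rw [eq_sub_iff_add_eq, ← Finset.sum_add_distrib,
        Finset.sum_congr rfl fun k _ => show e k * (if k = i then e k else -e k) + e k * e k =
          if k = i then 2 * (e i * e i) else 0 by split_ifs with h <;> [(subst h; ring); ring],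
        Finset.sum_ite_eq' Finset.univ i, if_pos (Finset.mem_univ i)]
    rw [h1, hee, sub_zero]
    exact mul_ne_zero h2 (mul_ne_zero hi hi)
  set f := (e ⬝ᵥ s e)⁻¹ • s e with hf
  have hef : e ⬝ᵥ f = 1 := by rw [hf, dotProduct_smul, smul_eq_mul, inv_mul_cancel₀ hse]
  have hfe : f ⬝ᵥ e = 1 := by rw [dotProduct_comm]; exact hef
  have hff : f ⬝ᵥ f = 0 := by rw [hf, smul_dotProduct, dotProduct_smul, (R.rot s hs).1, hee, smul_zero, smul_zero]
  set u' := s * u * s⁻¹ with hu'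
  have hu'H : u' ∈ H := mul_mem (mul_mem hs hu) (inv_mem hs)
  have hu'f : u' f = f := by
    show s (u (s⁻¹ f)) = f
    rw [hf, map_smul, show s⁻¹ (s e) = e from s.symm_apply_apply e, map_smul, he, map_smul]
  have hu'1 : u' ≠ 1 := fun h => hu1 (conj_eq_one_iff.1 h)
  set m := e ⨯₃ f with hm
  obtain ⟨c, hc, hshift⟩ := (R.rot u hu).shift h2 hu1 he hee hef
  obtain ⟨c', hc', hshift'⟩ := (R.rot u' hu'H).shift h2 hu'1 hu'f hff hfe
  rw [← cross_anticomm e f, ← hm] at hshift'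
  rw [← hm] at hshift
  have hpres : ∀ g ∈ H, ∀ x y, g x ⬝ᵥ g y = x ⬝ᵥ y := fun g hg => (R.rot g hg).1
  let Rel : E → E → Prop := fun x y => ∃ g ∈ H, g x = y
  have htrans : ∀ {x y z}, Rel x y → Rel y z → Rel x z := fun ⟨g, hg, hgx⟩ ⟨g', hg', hgy⟩ =>
    ⟨g' * g, mul_mem hg' hg, by rw [LinearEquiv.mul_apply, hgx, hgy]⟩
  have hnorm : ∀ x : E, x ⬝ᵥ x = 2 * ((f ⬝ᵥ x) * (e ⬝ᵥ x)) - (m ⬝ᵥ x) * (m ⬝ᵥ x) := fun x => by
    nth_rw 1 [rot_decomp hee hff hef x]
    simp only [add_dotProduct, sub_dotProduct, smul_dotProduct, smul_eq_mul, ← hm]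
    ring
  have hU : ∀ x t, ∃ y, Rel x y ∧ e ⬝ᵥ y = e ⬝ᵥ x ∧ m ⬝ᵥ y = m ⬝ᵥ x - t * (e ⬝ᵥ x) := by
    intro x t
    obtain ⟨k, hk⟩ := hcast (t / c)
    obtain ⟨hke, hkm⟩ := hshift k
    have h1 := hpres _ (pow_mem hu k) e x
    have h3 := hpres _ (pow_mem hu k) m x
    rw [hke] at h1
    rw [hkm, add_dotProduct, smul_dotProduct, h1, hk, div_mul_cancel₀ _ hc, smul_eq_mul] at h3
    exact ⟨_, ⟨_, pow_mem hu k, rfl⟩, h1, by linear_combination h3⟩
  have hU' : ∀ x t, ∃ y, Rel x y ∧ f ⬝ᵥ y = f ⬝ᵥ x ∧ m ⬝ᵥ y = m ⬝ᵥ x + t * (f ⬝ᵥ x) ∧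
      (f ⬝ᵥ x = 0 → e ⬝ᵥ y = e ⬝ᵥ x + t * (m ⬝ᵥ x)) := by
    intro x t
    obtain ⟨k, hk⟩ := hcast (t / c')
    obtain ⟨hkf, hkm⟩ := hshift' k
    rw [hk, div_mul_cancel₀ _ hc', map_neg] at hkm
    have hkm' : (u' ^ k) m = m - t • f := by
      rw [← neg_neg ((u' ^ k) m), hkm]; abel
    have h1 := hpres _ (pow_mem hu'H k) f x
    have h3 := hpres _ (pow_mem hu'H k) m x
    rw [hkf] at h1
    rw [hkm', sub_dotProduct, smul_dotProduct, h1, smul_eq_mul] at h3
    refine ⟨_, ⟨_, pow_mem hu'H k, rfl⟩, h1, by linear_combination h3, fun hfx => ?_⟩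
    conv_lhs => rw [rot_decomp hee hff hef x, ← hm, hfx, zero_smul, zero_sub, map_add, map_neg, map_smul, map_smul,
      hkm', hkf, dotProduct_add, dotProduct_neg, dotProduct_smul, dotProduct_smul, dotProduct_sub,
      dotProduct_smul, show e ⬝ᵥ m = 0 from dot_self_cross e f, hef]
    simp only [smul_eq_mul]
    ring
  have huniq : ∀ x y : E, x ⬝ᵥ x = y ⬝ᵥ y → e ⬝ᵥ x = e ⬝ᵥ y → m ⬝ᵥ x = m ⬝ᵥ y → e ⬝ᵥ x ≠ 0 → x = y := by
    intro x y hn hxe hxm hx0
    have hα : f ⬝ᵥ x = f ⬝ᵥ y := by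
      refine mul_left_cancel₀ (mul_ne_zero h2 hx0) ?_
      rw [hnorm x, hnorm y, ← hxe, ← hxm] at hn
      linear_combination hn
    rw [rot_decomp hee hff hef x, rot_decomp hee hff hef y, hα, hxe, ← hm, hxm]
  have hkeep : ∀ {x y}, Rel x y → y ⬝ᵥ y = x ⬝ᵥ x := fun ⟨g, hg, hgx⟩ => by
    rw [← hgx, hpres g hg]
  have hnz : ∀ x : E, x ⬝ᵥ x ≠ 0 → ∃ y, Rel x y ∧ e ⬝ᵥ y ≠ 0 := by
    intro x hx
    by_cases hγ : e ⬝ᵥ x = 0
    swap
    · exact ⟨x, ⟨1, one_mem H, rfl⟩, hγ⟩
    have hb : m ⬝ᵥ x ≠ 0 := fun h => hx (by rw [hnorm x, hγ, h]; ring)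
    by_cases hα : f ⬝ᵥ x = 0
    · obtain ⟨y, hy, -, -, hye⟩ := hU' x 1
      exact ⟨y, hy, by rw [hye hα, hγ, zero_add, one_mul]; exact hb⟩
    obtain ⟨y, hy, -, hym, -⟩ := hU' x (-(m ⬝ᵥ x) / (f ⬝ᵥ x))
    refine ⟨y, hy, fun h => hx ?_⟩
    rw [div_mul_cancel₀ _ hα, add_neg_cancel] at hym
    rw [← hkeep hy, hnorm y, h, hym]
    ring
  have hb' : ∀ x b, e ⬝ᵥ x ≠ 0 → ∃ y, Rel x y ∧ e ⬝ᵥ y = e ⬝ᵥ x ∧ m ⬝ᵥ y = b := by
    intro x b hγ
    obtain ⟨y, hy, hye, hym⟩ := hU x ((m ⬝ᵥ x - b) / (e ⬝ᵥ x))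
    exact ⟨y, hy, hye, by rw [hym, div_mul_cancel₀ _ hγ]; ring⟩
  have hone : ∀ x : E, x ⬝ᵥ x ≠ 0 → ∃ y, Rel x y ∧ e ⬝ᵥ y = 1 ∧ m ⬝ᵥ y = 0 := by
    intro x hx
    obtain ⟨x1, hx1, hγ⟩ := hnz x hx
    set ν := x ⬝ᵥ x with hν
    have hx1n : x1 ⬝ᵥ x1 = ν := hkeep hx1
    obtain ⟨x2, hx2, hγ2⟩ : ∃ x2, Rel x1 x2 ∧ e ⬝ᵥ x2 = 1 := by
      by_cases hsq : IsSquare (-ν)
      · obtain ⟨r, hr⟩ := hsq
        obtain ⟨y, hy, hye, hym⟩ := hb' x1 r hγ
        have hr0 : r ≠ 0 := fun h => hx (by rw [h, mul_zero] at hr; exact neg_eq_zero.1 hr)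
        have hfy : f ⬝ᵥ y = 0 := by
          have h1 := hnorm y
          rw [hkeep hy, hx1n, hye, hym, ← hr] at h1
          exact (mul_eq_zero.1 (show (2 * (e ⬝ᵥ x1)) * (f ⬝ᵥ y) = 0 by linear_combination -h1)).resolve_left
            (mul_ne_zero h2 hγ)
        obtain ⟨z, hz, -, -, hze⟩ := hU' y ((1 - e ⬝ᵥ x1) / r)
        exact ⟨z, htrans hy hz, by rw [hze hfy, hye, hym, div_mul_cancel₀ _ hr0]; ring⟩
      set γ := e ⬝ᵥ x1 with hγd
      have hne : ∀ b : F, ν + b * b ≠ 0 := fun b h => hsq ⟨b, by linear_combination -h⟩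
      obtain ⟨b', b, hbb⟩ := FiniteField.exists_root_sum_quadratic
        (f := Polynomial.C γ * Polynomial.X ^ 2 + Polynomial.C 0 * Polynomial.X + Polynomial.C (γ * ν - ν))
        (g := Polynomial.C (-1 : F) * Polynomial.X ^ 2 + Polynomial.C 0 * Polynomial.X + Polynomial.C 0)
        (Polynomial.degree_quadratic hγ) (Polynomial.degree_quadratic (neg_ne_zero.2 one_ne_zero))
        (FiniteField.odd_card_of_char_ne_two (ringChar_ne_two h2))
      simp only [Polynomial.eval_add, Polynomial.eval_mul, Polynomial.eval_C, Polynomial.eval_pow,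
        Polynomial.eval_X] at hbb
      obtain ⟨y, hy, hye, hym⟩ := hb' x1 b hγ
      have hy1 := hnorm y
      rw [hkeep hy, hx1n, hye, hym] at hy1
      have hα : f ⬝ᵥ y ≠ 0 := fun h => hne b (by rw [h] at hy1; linear_combination hy1)
      obtain ⟨z, hz, hzf, hzm, -⟩ := hU' y ((b' - b) / (f ⬝ᵥ y))
      rw [hym, div_mul_cancel₀ _ hα, add_sub_cancel] at hzm
      refine ⟨z, htrans hy hz, ?_⟩
      have hz1 := hnorm z
      rw [hkeep hz, hkeep hy, hx1n, hzf, hzm] at hz1
      refine mul_left_cancel₀ (mul_ne_zero h2 (mul_ne_zero hγ hα)) ?_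
      linear_combination -γ * hz1 + hy1 + hbb
    obtain ⟨y, hy, hye, hym⟩ := hb' x2 0 (by rw [hγ2]; exact one_ne_zero)
    exact ⟨y, htrans hx1 (htrans hx2 hy), by rw [hye, hγ2], hym⟩
  obtain ⟨x', hx', hxe, hxm⟩ := hone x hx0
  obtain ⟨y', hy', hye, hym⟩ := hone y (hxy ▸ hx0)
  obtain ⟨g, hg, hgy⟩ := hy'
  obtain ⟨g', hg', hgx⟩ := hx'
  refine ⟨g⁻¹ * g', mul_mem (inv_mem hg) hg', ?_⟩
  have hyz : x' = y' := huniq x' y' (by rw [← hgx, ← hgy, hpres g' hg', hpres g hg, hxy])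
    (by rw [hxe, hye]) (by rw [hxm, hym]) (by rw [hxe]; exact one_ne_zero)
  rw [LinearEquiv.mul_apply, hgx, hyz, ← hgy]
  exact g.symm_apply_apply y

end CfsgLib.MaxSub.Frame
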