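import Cfsg.Agent.Lib.MaxSub.Frame.Rot

/-!
Orthogonal frames, part 7: a vector of weight three in the reflection set gives every vector of norm one on a
triple of coordinates, and with it every vector of norm one.
-/

set_option autoImplicit false
set_option linter.unusedSectionVars false
set_option maxHeartbeats 400000

namespace CfsgLib.MaxSub.Frame

open QuadraticMap CfsgLib.WittExtension CfsgLib.SpinorNorm Matrix

variable {F : Type*} [Field F] [Fintype F] {n : ℕ} {G : Subgroup (quadIso (Q1 F n))}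

local notation "V" => Fin n → F
local notation "E" => Fin 3 → F

/-- An even permutation carrying one tuple to another. -/
theorem exists_even_tuple {k : ℕ} (hk : k + 2 ≤ n) {ι ι' : Fin k → Fin n} (hι : Function.Injective ι)
    (hι' : Function.Injective ι') :
    ∃ σ : Equiv.Perm (Fin n), Equiv.Perm.sign σ = 1 ∧ ∀ i, σ (ι i) = ι' i := by
  classical
  let e : {x // x ∈ Set.range ι} ≃ {x // x ∈ Set.range ι'} :=
    (Equiv.ofInjective ι hι).symm.trans (Equiv.ofInjective ι' hι')
  have he : ∀ i, (e.extendSubtype : Equiv.Perm (Fin n)) (ι i) = ι' i := fun i => by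
    rw [Equiv.extendSubtype_apply_of_mem e (ι i) ⟨i, rfl⟩]
    simp [e]
  rcases Int.units_eq_one_or (Equiv.Perm.sign (e.extendSubtype : Equiv.Perm (Fin n))) with hs | hs
  · exact ⟨_, hs, he⟩
  obtain ⟨c, d, hc, hd, hcd⟩ := Finset.one_lt_card_iff.1 (show 1 < (Finset.univ.image ι')ᶜ.card by
    rw [Finset.card_compl, Fintype.card_fin, Finset.card_image_of_injective _ hι', Finset.card_univ,
      Fintype.card_fin]
    omega)
  simp only [Finset.mem_compl, Finset.mem_image, Finset.mem_univ, true_and, not_exists] at hc hd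
  refine ⟨Equiv.swap c d * e.extendSubtype, by rw [map_mul, hs, Equiv.Perm.sign_swap hcd]; rfl, fun i => ?_⟩
  rw [Equiv.Perm.mul_apply, he, Equiv.swap_apply_of_ne_of_ne (hc i) (hd i)]

/-- A vector on three coordinates. -/
def emb (ι : Fin 3 → Fin n) : (Fin 3 → F) →ₗ[F] (Fin n → F) where
  toFun x := ∑ i, x i • ee (ι i)
  map_add' x y := by simp [add_smul, Finset.sum_add_distrib]
  map_smul' c x := by simp [Finset.smul_sum, smul_smul]

theorem emb_ee (ι : Fin 3 → Fin n) (i : Fin 3) : emb ι (ee i : E) = (ee (ι i) : V) := by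
  show ∑ j, (ee i : E) j • (ee (ι j) : V) = _
  simp [ee_apply]

theorem emb_dot (ι : Fin 3 → Fin n) (x : E) (y : V) : emb ι x ⬝ᵥ y = ∑ i, x i * y (ι i) := by
  show (∑ i, x i • (ee (ι i) : V)) ⬝ᵥ y = _
  simp [sum_dotProduct, smul_dotProduct, ee_dot]

theorem emb_apply_self {ι : Fin 3 → Fin n} (hι : Function.Injective ι) (x : E) (i : Fin 3) :
    (emb ι x : V) (ι i) = x i := by
  show (∑ j, x j • (ee (ι j) : V)) (ι i) = _
  simp [Finset.sum_apply, ee_apply, hι.eq_iff]

theorem emb_apply_ne (ι : Fin 3 → Fin n) (x : E) {k : Fin n} (hk : ∀ i, ι i ≠ k) : (emb ι x : V) k = 0 := by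
  show (∑ j, x j • (ee (ι j) : V)) k = _
  simp [Finset.sum_apply, ee_apply, fun i => Ne.symm (hk i)]

theorem emb_isometry {ι : Fin 3 → Fin n} (hι : Function.Injective ι) (x y : E) :
    emb ι x ⬝ᵥ (emb ι y : V) = x ⬝ᵥ y := by
  rw [emb_dot]
  simp only [emb_apply_self hι]
  rfl

/-- The part of a vector on three coordinates. -/
theorem emb_split {ι : Fin 3 → Fin n} (hι : Function.Injective ι) (v : V) :
    ∀ i, (v - emb ι (fun j => v (ι j))) (ι i) = 0 := fun i => by
  rw [Pi.sub_apply, emb_apply_self hι, sub_self]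

theorem gam_iff {g : quadIso (Q1 F n)} (h : ∀ v, Gam G v → Gam G (g.1 v)) (v : V) :
    Gam G v ↔ Gam G (g.1 v) := by
  refine ⟨h v, fun hv => ?_⟩
  have hS : {y : V | Gam G y}.Finite := Set.toFinite _
  obtain ⟨y, hy, e⟩ := ((Set.Finite.surjOn_iff_bijOn_of_mapsTo hS (show Set.MapsTo (fun y => g.1 y)
    {y : V | Gam G y} {y : V | Gam G y} from fun y hy => h y hy)).2
      ⟨fun y hy => h y hy, g.1.injective.injOn,
        ((Set.Finite.injOn_iff_bijOn_of_mapsTo hS fun y hy => h y hy).1 g.1.injective.injOn).surjOn⟩) hv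
  exact g.1.injective e ▸ hy

/-- The elements preserving the set, three coordinates, and the weight outside. -/
def tripleGroup (G : Subgroup (quadIso (Q1 F n))) (ι : Fin 3 → Fin n) (hι : Function.Injective ι) :
    Subgroup ((Fin 3 → F) ≃ₗ[F] (Fin 3 → F)) where
  carrier := {h | IsRot h ∧ ∃ g : quadIso (Q1 F n), (∀ v, Gam G v ↔ Gam G (g.1 v)) ∧
    (∀ x, g.1 (emb ι x) = emb ι (h x)) ∧
    ∀ y : Fin n → F, (∀ i, y (ι i) = 0) → (∀ i, g.1 y (ι i) = 0) ∧ (supp (g.1 y)).card = (supp y).card}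
  one_mem' := ⟨⟨fun _ _ => rfl, fun _ _ => rfl⟩, 1, fun _ => Iff.rfl, fun _ => rfl, fun y hy => ⟨hy, rfl⟩⟩
  mul_mem' := by
    rintro a b ⟨⟨ha1, ha2⟩, g, hg1, hg2, hg3⟩ ⟨⟨hb1, hb2⟩, g', hg1', hg2', hg3'⟩
    refine ⟨⟨fun x y => ?_, fun x y => ?_⟩, g * g', fun v => (hg1' v).trans (hg1 _), fun x => ?_, fun y hy => ?_⟩
    · rw [LinearEquiv.mul_apply, LinearEquiv.mul_apply, ha1, hb1]
    · simp only [LinearEquiv.mul_apply, hb2, ha2]
    · show g.1 (g'.1 _) = _
      rw [hg2', hg2]; rfl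
    · obtain ⟨h1, h2⟩ := hg3' y hy
      obtain ⟨h3, h4⟩ := hg3 _ h1
      exact ⟨h3, h4.trans h2⟩
  inv_mem' := by
    rintro a ⟨⟨ha1, ha2⟩, g, hg1, hg2, hg3⟩
    have hinv : ∀ x, a (a⁻¹ x) = x := fun x => a.apply_symm_apply x
    have hginv : ∀ x, g.1 (g⁻¹.1 x) = x := fun x => g.1.apply_symm_apply x
    refine ⟨⟨fun x y => ?_, fun x y => a.injective ?_⟩, g⁻¹, fun v => ?_, fun x => g.1.injective ?_,
      fun y hy => ?_⟩
    · rw [← ha1, hinv, hinv]
    · rw [hinv, ha2, hinv, hinv]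
    · rw [hg1 (g⁻¹.1 v), hginv]
    · rw [hginv, hg2, hinv]
    set z := g⁻¹.1 y with hz
    obtain ⟨h1, -⟩ := hg3 _ (emb_split hι z)
    have hza : ∀ i, z (ι i) = 0 := fun i => by
      have h3 : a (fun j => z (ι j)) = 0 := funext fun j => by
        have := h1 j
        rwa [map_sub, hg2, hz, hginv, Pi.sub_apply, hy j, zero_sub, neg_eq_zero, emb_apply_self hι, ← hz] at this
      exact congrFun (a.injective (h3.trans (map_zero a).symm)) i
    obtain ⟨-, h2⟩ := hg3 z hza
    rw [hz, hginv, ← hz] at h2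
    exact ⟨hza, h2.symm⟩

theorem supp_image {g : quadIso (Q1 F n)} {σ : Equiv.Perm (Fin n)} (hg : ∀ i, g.1 (ee i : V) = ee (σ i))
    (y : V) : (supp (g.1 y)).card = (supp y).card := by
  rw [show supp (g.1 y) = (supp y).map σ.toEmbedding from ?_, Finset.card_map]
  ext k
  obtain ⟨i, rfl⟩ := σ.surjective k
  rw [mem_supp, perm_apply hg, Finset.mem_map]
  simp [mem_supp]

theorem mem_triple (O : Ov G) (hn : 5 ≤ n) {ι : Fin 3 → Fin n} (hι : Function.Injective ι)
    (h : E ≃ₗ[F] E) (hh : IsRot h) (g : quadIso (Q1 F n)) (hg : ∀ v, Gam G v → Gam G (g.1 v))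
    (hgh : ∀ i, g.1 (ee (ι i) : V) = emb ι (h (ee i)))
    (hout : ∀ y : V, (∀ i, y (ι i) = 0) → (∀ i, g.1 y (ι i) = 0) ∧ (supp (g.1 y)).card = (supp y).card) :
    h ∈ tripleGroup G ι hι := by
  refine ⟨hh, g, gam_iff hg, fun x => ?_, hout⟩
  have : (g.1.toLinearMap ∘ₗ emb ι : E →ₗ[F] V) = emb ι ∘ₗ h.toLinearMap :=
    LinearMap.pi_ext' fun i => LinearMap.ext_ring (by
      show g.1 (emb ι (ee i : E)) = emb ι (h (ee i))
      rw [emb_ee, hgh])
  exact LinearMap.congr_fun this x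

variable (F) in
/-- Two signs. -/
def signEquiv (i : Fin 3) : (Fin 3 → F) ≃ₗ[F] (Fin 3 → F) where
  toFun x k := if k = i then x k else -x k
  invFun x k := if k = i then x k else -x k
  map_add' x y := by funext k; by_cases h : k = i <;> simp [h, add_comm]
  map_smul' c x := by funext k; by_cases h : k = i <;> simp [h]
  left_inv x := by funext k; by_cases h : k = i <;> simp [h]
  right_inv x := by funext k; by_cases h : k = i <;> simp [h]

variable (F) in
/-- A quarter turn. -/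
def quarterEquiv : (Fin 3 → F) ≃ₗ[F] (Fin 3 → F) where
  toFun x := ![x 0, -x 2, x 1]
  invFun x := ![x 0, x 2, -x 1]
  map_add' x y := by funext k; fin_cases k <;> simp [add_comm]
  map_smul' c x := by funext k; fin_cases k <;> simp
  left_inv x := by funext k; fin_cases k <;> simp
  right_inv x := by funext k; fin_cases k <;> simp

variable (F) in
/-- A cyclic shift. -/
def cycEquiv : (Fin 3 → F) ≃ₗ[F] (Fin 3 → F) where
  toFun x := ![x 2, x 0, x 1]
  invFun x := ![x 1, x 2, x 0]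
  map_add' x y := by funext k; fin_cases k <;> simp
  map_smul' c x := by funext k; fin_cases k <;> simp
  left_inv x := by funext k; fin_cases k <;> simp
  right_inv x := by funext k; fin_cases k <;> simp

/-- A half turn. -/
noncomputable def halfEquiv {a : Fin 3 → F} (ha : a ⬝ᵥ a = 1) : (Fin 3 → F) ≃ₗ[F] (Fin 3 → F) where
  toFun x := (2 * (a ⬝ᵥ x)) • a - x
  invFun x := (2 * (a ⬝ᵥ x)) • a - x
  map_add' x y := by simp only [dotProduct_add]; module
  map_smul' c x := by simp only [dotProduct_smul, smul_eq_mul, RingHom.id_apply]; module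
  left_inv x := by simp only [dotProduct_sub, dotProduct_smul, ha, smul_eq_mul]; module
  right_inv x := by simp only [dotProduct_sub, dotProduct_smul, ha, smul_eq_mul]; module

theorem half_rot {a : E} (ha : a ⬝ᵥ a = 1) : IsRot (halfEquiv ha) := by
  have happ : ∀ x, halfEquiv ha x = (2 * (a ⬝ᵥ x)) • a - x := fun x => rfl
  refine ⟨fun x y => ?_, fun x y => ?_⟩
  · simp only [happ, dotProduct_sub, sub_dotProduct, dotProduct_smul, smul_dotProduct, ha, smul_eq_mul,
      dotProduct_comm x a]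
    ring
  · have ha' : a 0 * a 0 + a 1 * a 1 + a 2 * a 2 = 1 := by rw [← ha]; simp [dotProduct, Fin.sum_univ_three]
    simp only [happ]
    ext i
    fin_cases i <;> simp [cross_apply, dotProduct, Fin.sum_univ_three]
    · linear_combination (2 * (x 1 * y 2 - x 2 * y 1)) * ha'
    · linear_combination (2 * (x 2 * y 0 - x 0 * y 2)) * ha'
    · linear_combination (2 * (x 0 * y 1 - x 1 * y 0)) * ha'

theorem sign_rot (i : Fin 3) : IsRot (signEquiv F i) := by
  refine ⟨fun x y => ?_, fun x y => ?_⟩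
  · fin_cases i <;> simp [signEquiv, dotProduct, Fin.sum_univ_three]
  · ext k
    fin_cases i <;> fin_cases k <;> simp [signEquiv, cross_apply] <;> ring

theorem quarter_rot : IsRot (quarterEquiv F) := by
  refine ⟨fun x y => ?_, fun x y => ?_⟩
  · simp [quarterEquiv, dotProduct, Fin.sum_univ_three]; ring
  · ext k
    fin_cases k <;> simp [quarterEquiv, cross_apply] <;> ring

theorem cyc_rot : IsRot (cycEquiv F) := by
  refine ⟨fun x y => ?_, fun x y => ?_⟩
  · simp [cycEquiv, dotProduct, Fin.sum_univ_three]; ring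
  · ext k
    fin_cases k <;> simp [cycEquiv, cross_apply]

theorem rot_triple (O : Ov G) (hn : 5 ≤ n) {ι : Fin 3 → Fin n} (hι : Function.Injective ι) :
    RotGroup (tripleGroup G ι hι) := by
  classical
  have hn5 : 5 ≤ n := by omega
  obtain ⟨c, d, hc, hd, hcd⟩ := Finset.one_lt_card_iff.1 (show 1 < (Finset.univ.image ι)ᶜ.card by
    rw [Finset.card_compl, Fintype.card_fin, Finset.card_image_of_injective _ hι, Finset.card_univ,
      Fintype.card_fin]
    omega)
  simp only [Finset.mem_compl, Finset.mem_image, Finset.mem_univ, true_and, not_exists] at hc hd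
  have hperm : ∀ σ : Equiv.Perm (Fin n), Equiv.Perm.sign σ = 1 → (∀ i, ∃ j, σ (ι i) = ι j) →
      ∃ g : quadIso (Q1 F n), (∀ v, Gam G v → Gam G (g.1 v)) ∧ (∀ i, g.1 (ee i : V) = ee (σ i)) ∧
        ∀ y : V, (∀ i, y (ι i) = 0) → (∀ i, g.1 y (ι i) = 0) ∧ (supp (g.1 y)).card = (supp y).card := by
    intro σ hσ hσι
    obtain ⟨g, hg, hgσ⟩ := O.exists_even hn5 hσ
    refine ⟨g, fun v hv => hv.map O hn5 hg (i := ι 0) ⟨_, Or.inl (hgσ _)⟩, hgσ, fun y hy => ⟨fun i => ?_, supp_image hgσ y⟩⟩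
    choose f hf using hσι
    have hinj : Function.Injective f := fun a b e => hι (σ.injective (by rw [hf, hf, e]))
    obtain ⟨j, rfl⟩ := (Finite.injective_iff_surjective.1 hinj) i
    rw [← hf, perm_apply hgσ]
    exact hy j
  refine ⟨O.two, fun g hg => hg.1, fun i => ⟨signEquiv F i, ?_, fun x k => rfl⟩,
    ⟨quarterEquiv F, ?_, fun x => rfl⟩, ⟨cycEquiv F, ?_, fun x => rfl⟩⟩
  · obtain ⟨j, k, hij, hik, hjk⟩ : ∃ j k : Fin 3, j ≠ i ∧ k ≠ i ∧ j ≠ k := by
      fin_cases i <;> [exact ⟨1, 2, by decide⟩; exact ⟨0, 2, by decide⟩; exact ⟨0, 1, by decide⟩]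
    refine mem_triple O hn hι _ (sign_rot i) (rf (ee (ι j) : V) * rf (ee (ι k)))
      (fun v hv => (hv.sign O hn5 (ι k)).sign O hn5 (ι j)) (fun l => ?_) fun y hy => ?_
    · show (rf (ee (ι j) : V)).1 ((rf (ee (ι k) : V)).1 (ee (ι l))) = _
      funext m
      simp only [rf_ee_apply]
      by_cases hm : ∃ q, ι q = m
      · obtain ⟨q, rfl⟩ := hm
        rw [emb_apply_self hι]
        show _ = if q = i then (ee l : E) q else -(ee l : E) q
        simp only [hι.eq_iff, ee_apply]
        have : q = i ∨ q = j ∨ q = k := by omega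
        rcases this with rfl | rfl | rfl
        · simp [hij.symm, hik.symm]
        · simp [hij, hjk]
        · simp [hik, hjk.symm]
      · push Not at hm
        rw [emb_apply_ne ι _ hm]
        simp [(hm j).symm, (hm k).symm, ee_ne, (hm l).symm]
    · have e : (rf (ee (ι j) : V) * rf (ee (ι k))).1 y = y := by
        show (rf (ee (ι j) : V)).1 ((rf (ee (ι k) : V)).1 y) = y
        funext m
        simp only [rf_ee_apply]
        by_cases h1 : m = ι j
        · subst h1; simp [hι.eq_iff, hjk, hy j]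
        · by_cases h2 : m = ι k
          · subst h2; simp [hι.eq_iff, hjk.symm, hy k]
          · simp [h1, h2]
      rw [e]
      exact ⟨hy, rfl⟩
  · have h12 : ι 1 ≠ ι 2 := fun e => absurd (hι e) (by decide)
    obtain ⟨g, hg, hgσ, hgo⟩ := hperm (Equiv.swap (ι 1) (ι 2) * Equiv.swap c d)
      (by rw [map_mul, Equiv.Perm.sign_swap h12, Equiv.Perm.sign_swap hcd]; rfl) (fun i => ⟨Equiv.swap 1 2 i, by
        rw [Equiv.Perm.mul_apply, Equiv.swap_apply_of_ne_of_ne (hc i) (hd i)]
        exact (hι.swap_apply 1 2 i)⟩)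
    refine mem_triple O hn hι _ quarter_rot (rf (ee (ι 1) : V) * g)
      (fun v hv => (hg v hv).sign O hn5 (ι 1)) (fun l => ?_) fun y hy => ?_
    · show (rf (ee (ι 1) : V)).1 (g.1 (ee (ι l))) = _
      rw [hgσ, Equiv.Perm.mul_apply, Equiv.swap_apply_of_ne_of_ne (hc l) (hd l), hι.swap_apply 1 2 l]
      funext m
      rw [rf_ee_apply]
      by_cases hm : ∃ q, ι q = m
      · obtain ⟨q, rfl⟩ := hm
        rw [emb_apply_self hι]
        show _ = (![(ee l : E) 0, -(ee l : E) 2, (ee l : E) 1] : E) q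
        simp only [hι.eq_iff, ee_apply]
        fin_cases l <;> fin_cases q <;> simp [Equiv.swap_apply_def]
      · push Not at hm
        rw [emb_apply_ne ι _ hm]
        simp [(hm 1).symm, ee_ne, (hm _).symm]
    · obtain ⟨h1, h2⟩ := hgo y hy
      have e : (rf (ee (ι 1) : V) * g).1 y = g.1 y := by
        show (rf (ee (ι 1) : V)).1 (g.1 y) = _
        funext m
        rw [rf_ee_apply]
        by_cases hm : m = ι 1
        · rw [if_pos hm, hm, h1 1, neg_zero]
        · rw [if_neg hm]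
      rw [e]
      exact ⟨h1, h2⟩
  · obtain ⟨σ, hσ, hσι⟩ := exists_even_tuple (k := 3) (by omega) hι (hι.comp (show
      Function.Injective (![1, 2, 0] : Fin 3 → Fin 3) by decide))
    obtain ⟨g, hg, hgσ, hgo⟩ := hperm σ hσ fun i => ⟨_, hσι i⟩
    refine mem_triple O hn hι _ cyc_rot g hg (fun l => ?_) hgo
    rw [hgσ, hσι]
    funext m
    by_cases hm : ∃ q, ι q = m
    · obtain ⟨q, rfl⟩ := hm
      rw [emb_apply_self hι, Function.comp_apply]
      show _ = (![(ee l : E) 2, (ee l : E) 0, (ee l : E) 1] : E) q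
      simp only [hι.eq_iff, ee_apply]
      fin_cases l <;> fin_cases q <;> simp
    · push Not at hm
      rw [emb_apply_ne ι _ hm]
      exact ee_ne (hm _).symm

theorem half_mem (O : Ov G) (hn : 5 ≤ n) {ι : Fin 3 → Fin n} (hι : Function.Injective ι) {a : E}
    (ha : a ⬝ᵥ a = 1) (hG : Gam G (emb ι a : V)) : halfEquiv ha ∈ tripleGroup G ι hι := by
  classical
  have hn5 : 5 ≤ n := by omega
  have hv : (emb ι a : V) ⬝ᵥ emb ι a ≠ 0 := by rw [emb_isometry hι, ha]; exact one_ne_zero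
  set N := rf (ee (ι 0) : V) * (rf (ee (ι 1)) * rf (ee (ι 2))) with hN
  have hNv : ∀ (x : V) m, N.1 x m = if (∃ i, ι i = m) then -x m else x m := fun x m => by
    show (rf (ee (ι 0) : V)).1 ((rf (ee (ι 1) : V)).1 ((rf (ee (ι 2) : V)).1 x)) m = _
    simp only [rf_ee_apply]
    by_cases hm : ∃ i, ι i = m
    · obtain ⟨i, rfl⟩ := hm
      rw [if_pos (show ∃ j, ι j = ι i from ⟨i, rfl⟩)]
      fin_cases i <;> simp [hι.eq_iff]
    · rw [if_neg hm]
      push Not at hm
      simp [(hm 0).symm, (hm 1).symm, (hm 2).symm]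
  refine mem_triple O hn hι _ (half_rot ha) (N * rf (emb ι a : V)) (fun v hv => ?_) (fun l => ?_) fun y hy => ?_
  · exact (((hG.refl O hn5 hv).sign O hn5 (ι 2)).sign O hn5 (ι 1)).sign O hn5 (ι 0)
  · show N.1 ((rf (emb ι a : V)).1 (ee (ι l))) = emb ι ((2 * (a ⬝ᵥ ee l)) • a - ee l)
    funext m
    rw [hNv, rf_apply hv, emb_isometry hι, ha, div_one, dot_ee, emb_apply_self hι, dot_ee, map_sub, map_smul,
      emb_ee]
    split_ifs with hm
    · simp only [Pi.sub_apply, Pi.smul_apply, smul_eq_mul]; ring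
    · push Not at hm
      simp [ee_ne (hm l).symm, emb_apply_ne ι a hm]
  · have e : (N * rf (emb ι a : V)).1 y = y := by
      show N.1 ((rf (emb ι a : V)).1 y) = y
      rw [rf_perp hv (by rw [emb_dot]; simp [hy])]
      funext m
      rw [hNv]
      split_ifs with hm
      · obtain ⟨i, rfl⟩ := hm
        rw [hy i, neg_zero]
      · rfl
    rw [e]
    exact ⟨hy, rfl⟩

/-- The data of a weight three vector on given coordinates. -/
theorem exists_triple (O : Ov G) (hn : 5 ≤ n) {v : V} (hv : Gam G v) (h3 : (supp v).card = 3)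
    {ι : Fin 3 → Fin n} (hι : Function.Injective ι) :
    ∃ a : E, a ⬝ᵥ a = 1 ∧ Gam G (emb ι a : V) ∧ ∀ i, a i ≠ 0 := by
  classical
  obtain ⟨i, j, k, hij, hik, hjk, hs⟩ := Finset.card_eq_three.1 h3
  set ι0 : Fin 3 → Fin n := ![i, j, k] with hι0
  have hi0 : Function.Injective ι0 := fun a b e => by
    fin_cases a <;> fin_cases b <;> simp [hι0, hij, hik, hjk, hij.symm, hik.symm, hjk.symm] at e ⊢
  obtain ⟨σ, hσ, hσι⟩ := exists_even_tuple (k := 3) (by omega) hi0 hι
  have hve : (fun m => v (σ.symm m)) = (emb ι (fun q => v (ι0 q)) : V) := funext fun m => by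
    by_cases hm : ∃ q, ι q = m
    · obtain ⟨q, rfl⟩ := hm
      rw [emb_apply_self hι, ← hσι q, Equiv.symm_apply_apply]
    · push Not at hm
      rw [emb_apply_ne ι _ hm]
      refine notMem_supp.1 fun h => ?_
      rw [hs, Finset.mem_insert, Finset.mem_insert, Finset.mem_singleton] at h
      have hq : ∃ q, ι0 q = σ.symm m := by
        rcases h with h | h | h
        · exact ⟨0, h.symm⟩
        · exact ⟨1, h.symm⟩
        · exact ⟨2, h.symm⟩
      obtain ⟨q, hq⟩ := hq
      exact hm q (by rw [← hσι q, hq, Equiv.apply_symm_apply])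
  have hG := hv.perm O (by omega) hσ
  rw [hve] at hG
  refine ⟨_, by rw [← emb_isometry hι]; exact hG.1, hG, fun q => mem_supp.1 ?_⟩
  rw [hs]
  fin_cases q <;> simp [hι0]

theorem half_nonmono (h2 : (2 : F) ≠ 0) {a : E} (ha : a ⬝ᵥ a = 1) (hne : ∀ i, a i ≠ 0) :
    ¬ IsE (halfEquiv ha (ee 0 : E)) := fun ⟨j, hj⟩ => by
  have hval : halfEquiv ha (ee 0 : E) = (2 * a 0) • a - ee 0 := by
    show (2 * (a ⬝ᵥ ee 0)) • a - ee 0 = _
    rw [dot_ee]
  rw [hval] at hj
  obtain ⟨k, hk0, hkj⟩ : ∃ k : Fin 3, k ≠ 0 ∧ k ≠ j := by fin_cases j <;> decide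
  have h1 : ((2 * a 0) • a - ee 0 : E) k = 0 := by
    rcases hj with e | e <;> rw [e] <;> simp [ee_ne hkj]
  rw [Pi.sub_apply, Pi.smul_apply, ee_ne hk0, sub_zero, smul_eq_mul] at h1
  exact mul_ne_zero (mul_ne_zero h2 (hne 0)) (hne k) h1

/-- The group of a triple moves any anisotropic vector to any other of equal norm. -/
theorem triple_transitive (O : Ov G) (hn : 5 ≤ n) (hcast : ∀ x : F, ∃ k : ℕ, (k : F) = x) {v : V}
    (hv : Gam G v) (h3 : (supp v).card = 3) {ι : Fin 3 → Fin n} (hι : Function.Injective ι) (x y : E)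
    (hxy : x ⬝ᵥ x = y ⬝ᵥ y) (hx : x ⬝ᵥ x ≠ 0) : ∃ h ∈ tripleGroup G ι hι, h x = y := by
  obtain ⟨a, ha, hG, hne⟩ := exists_triple O hn hv h3 hι
  exact (rot_triple O hn hι).transitive hcast (half_mem O hn hι ha hG) (half_nonmono O.two ha hne) x y hxy hx

end CfsgLib.MaxSub.Frame
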