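import Cfsg.Agent.Lib.MaxSub.Frame.Four
import Cfsg.Agent.Lib.MaxSub.Frame.Descent
import Cfsg.Agent.Lib.MaxSub.Frame.Three

/-!
Orthogonal frames in dimension six, part 1: signed permutations bringing planes to normal form, the shape of a
monomial product of two reflections, and a coordinate plane sent to a coordinate plane.
-/

set_option autoImplicit false
set_option linter.unusedSectionVars false
set_option maxHeartbeats 800000

namespace CfsgLib.MaxSub.Frame.Six

open QuadraticMap CfsgLib.WittExtension CfsgLib.SpinorNorm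

variable {F : Type*} [Field F] [Fintype F] {G : Subgroup (quadIso (Q1 F 6))}

local notation "V" => Fin 6 → F

/-- A signed sum of two basis vectors. -/
def sd (a b : Fin 6) (s : F) : Fin 6 → F := ee a + s • ee b

theorem sd_apply (a b : Fin 6) (s : F) (k : Fin 6) :
    (sd a b s : V) k = (if k = a then 1 else 0) + s * (if k = b then 1 else 0) := by
  simp [sd, ee_apply]

theorem sd_dot (a b : Fin 6) (s : F) (x : V) : sd a b s ⬝ᵥ x = x a + s * x b := by
  simp [sd, add_dotProduct, smul_dotProduct, ee_dot]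

theorem sd_norm {a b : Fin 6} (hab : a ≠ b) {s : F} (hs : s * s = 1) : (sd a b s : V) ⬝ᵥ sd a b s = 2 := by
  rw [sd_dot, sd_apply, sd_apply, if_pos rfl, if_neg hab, if_neg (Ne.symm hab), if_pos rfl]
  linear_combination hs

theorem rf_sd (h2 : (2 : F) ≠ 0) {a b : Fin 6} (hab : a ≠ b) {s : F} (hs : s * s = 1) (x : V) (k : Fin 6) :
    (rf (sd a b s : V)).1 x k = x k - (x a + s * x b) * (sd a b s : V) k := by
  rw [rf_apply (by rw [sd_norm hab hs]; exact h2), sd_norm hab hs, sd_dot, mul_div_cancel_left₀ _ h2,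
    Pi.sub_apply, Pi.smul_apply, smul_eq_mul]

theorem mono_rf_sd (h2 : (2 : F) ≠ 0) {a b : Fin 6} (hab : a ≠ b) {s : F} (hs : s * s = 1) :
    Mono (rf (sd a b s : V)) := by
  intro i
  by_cases hia : i = a
  · subst hia
    have h : (rf (sd i b s : V)).1 (ee i) = (-s) • ee b := funext fun k => by
      rw [rf_sd h2 hab hs, sd_apply, ee_self, ee_ne (Ne.symm hab), Pi.smul_apply, smul_eq_mul, ee_apply,
        ee_apply]
      ring
    rcases mul_self_eq_one_iff.1 hs with e | e
    · exact ⟨b, Or.inr (by rw [h, e, neg_one_smul])⟩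
    · exact ⟨b, Or.inl (by rw [h, e, neg_neg, one_smul])⟩
  by_cases hib : i = b
  · subst hib
    have h : (rf (sd a i s : V)).1 (ee i) = (-s) • ee a := funext fun k => by
      rw [rf_sd h2 hab hs, sd_apply, ee_self, ee_ne hab, Pi.smul_apply, smul_eq_mul, ee_apply, ee_apply]
      linear_combination -(if k = i then (1 : F) else 0) * hs
    rcases mul_self_eq_one_iff.1 hs with e | e
    · exact ⟨a, Or.inr (by rw [h, e, neg_one_smul])⟩
    · exact ⟨a, Or.inl (by rw [h, e, neg_neg, one_smul])⟩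
  refine ⟨i, Or.inl (funext fun k => ?_)⟩
  rw [rf_sd h2 hab hs, ee_ne (Ne.symm hia), ee_ne (Ne.symm hib)]
  ring

theorem sd_pair_mem (O : Ov G) {a b c d : Fin 6} (hab : a ≠ b) (hcd : c ≠ d) {s t : F} (hs : s * s = 1)
    (ht : t * t = 1) : rf (sd a b s : V) * rf (sd c d t) ∈ G :=
  O.mono _ (pair_mem O.two (by norm_num) (by rw [sd_norm hab hs]; exact O.two)
      (by rw [sd_norm hab hs, sd_norm hcd ht]))
    ((mono_rf_sd O.two hab hs).mul (mono_rf_sd O.two hcd ht))

theorem ee_pair_apply (a b : Fin 6) (x : V) (k : Fin 6) :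
    (rf (ee a : V) * rf (ee b)).1 x k =
      if k = a then (if k = b then x k else -x k) else (if k = b then -x k else x k) := by
  show (rf (ee a : V)).1 ((rf (ee b : V)).1 x) k = _
  simp only [rf_ee_apply]
  split_ifs <;> simp

theorem mono_inv {g : quadIso (Q1 F 6)} (hg : Mono g) : Mono g⁻¹ := by
  rw [show g⁻¹ = g ^ (orderOf g - 1) from inv_eq_of_mul_eq_one_right (by
    rw [← pow_succ', Nat.sub_add_cancel (orderOf_pos g), pow_orderOf_eq_one])]
  clear * - hg
  induction (orderOf g - 1) with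
  | zero => exact mono_one
  | succ k ih => rw [pow_succ]; exact ih.mul hg

theorem inv_map (g : quadIso (Q1 F 6)) (x : V) : g⁻¹.1 (g.1 x) = x := g.1.symm_apply_apply x

theorem map_inv' (g : quadIso (Q1 F 6)) (x : V) : g.1 (g⁻¹.1 x) = x := g.1.apply_symm_apply x

theorem mul_app (g h : quadIso (Q1 F 6)) (x : V) : (g * h).1 x = g.1 (h.1 x) := rfl

theorem dot_inv (h2 : (2 : F) ≠ 0) (g : quadIso (Q1 F 6)) (x : V) (k : Fin 6) :
    g.1 (ee k) ⬝ᵥ x = g⁻¹.1 x k := by
  conv_lhs => rw [← map_inv' g x]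
  rw [dot_map g h2, ee_dot]

theorem row_norm (h2 : (2 : F) ≠ 0) (g : quadIso (Q1 F 6)) (i : Fin 6) :
    ∑ k, g.1 (ee k : V) i * g.1 (ee k : V) i = 1 := by
  have h := norm_image h2 g⁻¹ i
  rw [dotProduct, Finset.sum_congr rfl fun k _ => by rw [inv_ee g h2]] at h
  exact h

/-- A monomial image has one non-zero coordinate. -/
theorem mono_coord {x : quadIso (Q1 F 6)} (hx : Mono x) {k i j : Fin 6} (hi : x.1 (ee k : V) i ≠ 0)
    (hj : x.1 (ee k : V) j ≠ 0) : i = j := by
  obtain ⟨l, e | e⟩ := hx k <;> rw [e] at hi hj <;> simp [ee_apply] at hi hj <;> rw [hi, hj]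

theorem isE_coord {v : V} (h : IsE v) {i j : Fin 6} (hi : v i ≠ 0) (hj : v j ≠ 0) : i = j := by
  obtain ⟨l, e | e⟩ := h <;> rw [e] at hi hj <;> simp [ee_apply] at hi hj <;> rw [hi, hj]

/-- A monomial pair of reflections in vectors with disjoint supports: the second has weight at most two. -/
theorem no_three_coord (h2 : (2 : F) ≠ 0) {u v : V} (hu : u ⬝ᵥ u ≠ 0) (hv : v ⬝ᵥ v ≠ 0)
    (hm : Mono (rf u * rf v)) {i j l : Fin 6} (hui : u i = 0) (huj : u j = 0) (hul : u l = 0)
    (huv : u ⬝ᵥ v = 0) (hi : v i ≠ 0) (hj : v j ≠ 0) (hl : v l ≠ 0) (hij : i ≠ j) (hil : i ≠ l) (hjl : j ≠ l) :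
    False := by
  have h : ∀ m, (rf u * rf v).1 (ee i) m = (ee i : V) m - 2 * v i / (v ⬝ᵥ v) * v m := fun m => by
    rw [mul_app, rf_perp (x := (rf v).1 (ee i : V)) hu ?_, rf_apply hv, dot_ee, Pi.sub_apply, Pi.smul_apply,
      smul_eq_mul]
    rw [rf_apply hv, dotProduct_sub, dot_ee, hui, dotProduct_smul, huv, smul_zero, sub_zero]
  have hc : 2 * v i / (v ⬝ᵥ v) ≠ 0 := div_ne_zero (mul_ne_zero h2 hi) hv
  have e1 : (rf u * rf v).1 (ee i) j ≠ 0 := by
    rw [h, ee_ne (Ne.symm hij), zero_sub]; exact neg_ne_zero.2 (mul_ne_zero hc hj)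
  have e2 : (rf u * rf v).1 (ee i) l ≠ 0 := by
    rw [h, ee_ne (Ne.symm hil), zero_sub]; exact neg_ne_zero.2 (mul_ne_zero hc hl)
  exact hjl (mono_coord hm e1 e2)

/-- Two columns vanishing at a common coordinate give a monomial involution. -/
theorem pair_zero (O : Ov G) (hstar : Star G) {y : quadIso (Q1 F 6)} (hy : y ∈ G) {a b k : Fin 6} (hab : a ≠ b)
    (ha : y.1 (ee a : V) k = 0) (hb : y.1 (ee b : V) k = 0) : Mono (rf (y.1 (ee a : V)) * rf (y.1 (ee b))) := by
  refine hstar _ ?_ ⟨k, k, Or.inl ?_⟩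
  · rw [← conj_pair y]
    exact mul_mem (mul_mem hy (O.pair_ee (by norm_num) a b)) (inv_mem hy)
  · rw [pair_apply (norm_image O.two y a) (norm_image O.two y b) (image_orth O.two y hab), dot_ee, dot_ee, ha, hb]
    simp

theorem pair_mem' (O : Ov G) {y : quadIso (Q1 F 6)} (hy : y ∈ G) (a b : Fin 6) :
    rf (y.1 (ee a : V)) * rf (y.1 (ee b)) ∈ G := by
  rw [← conj_pair y]
  exact mul_mem (mul_mem hy (O.pair_ee (by norm_num) a b)) (inv_mem hy)

/-- An element fixing the image of a basis vector permutes the images of all of them up to sign. -/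
theorem col_image (hstar : Star G) {y m : quadIso (Q1 F 6)} (hy : y ∈ G) (hm : m ∈ G) {c : Fin 6}
    (hc : m.1 (y.1 (ee c : V)) = y.1 (ee c)) (g : Fin 6) :
    ∃ h, m.1 (y.1 (ee g : V)) = y.1 (ee h) ∨ m.1 (y.1 (ee g : V)) = -y.1 (ee h) := by
  have hz : Mono (y⁻¹ * m * y) := hstar _ (mul_mem (mul_mem (inv_mem hy) hm) hy) ⟨c, c, Or.inl (by
    rw [mul_app, mul_app, hc, inv_map])⟩
  obtain ⟨h, e | e⟩ := hz g
  · exact ⟨h, Or.inl (by rw [← e, mul_app, mul_app, map_inv'])⟩
  · exact ⟨h, Or.inr (by rw [← neg_eq_iff_eq_neg.2 e, map_neg, neg_neg, mul_app, mul_app, map_inv'])⟩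

/-- A signed permutation to normal position. -/
theorem exists_canon (O : Ov G) {i j k l : Fin 6} (hinj : Function.Injective ![i, j, k, l]) {s t : F}
    (hs : s = 1 ∨ s = -1) (ht : t = 1 ∨ t = -1) :
    ∃ h ∈ G, Mono h ∧ (∀ v : V, h.1 v 0 = v i ∧ h.1 v 1 = s * v j ∧ h.1 v 2 = v k ∧ h.1 v 3 = t * v l) ∧
      ∀ v : V, (h.1 v 4 = 0 ∧ h.1 v 5 = 0) ↔ ∀ m, m ≠ i → m ≠ j → m ≠ k → m ≠ l → v m = 0 := by
  classical
  have hn : 5 ≤ 6 := by norm_num
  obtain ⟨σ, hσ, hσi⟩ := exists_even_tuple (n := 6) (k := 4) (by norm_num) hinj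
    (ι' := ![0, 1, 2, 3]) (by decide)
  obtain ⟨g, hg, hgσ⟩ := O.exists_even hn hσ
  have h0 : σ i = 0 := hσi 0
  have h1 : σ j = 1 := hσi 1
  have h2 : σ k = 2 := hσi 2
  have h3 : σ l = 3 := hσi 3
  have hgm : Mono g := fun m => ⟨σ m, Or.inl (hgσ m)⟩
  have hv : ∀ (v : V) m, g.1 v (σ m) = v m := fun v m => perm_apply hgσ v m
  set R1 : quadIso (Q1 F 6) := if s = 1 then 1 else rf (ee 1 : V) * rf (ee 5) with hR1
  set R3 : quadIso (Q1 F 6) := if t = 1 then 1 else rf (ee 3 : V) * rf (ee 5) with hR3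
  have hR1G : R1 ∈ G := by rw [hR1]; split_ifs; exacts [one_mem G, O.pair_ee hn 1 5]
  have hR3G : R3 ∈ G := by rw [hR3]; split_ifs; exacts [one_mem G, O.pair_ee hn 3 5]
  have hR1m : Mono R1 := by rw [hR1]; split_ifs; exacts [mono_one, (mono_rf_ee 1).mul (mono_rf_ee 5)]
  have hR3m : Mono R3 := by rw [hR3]; split_ifs; exacts [mono_one, (mono_rf_ee 3).mul (mono_rf_ee 5)]
  have hR1v : ∀ x : V, ∀ m, R1.1 x m = if m = 1 then s * x m else if m = 5 then s * x m else x m := by
    intro x m
    rw [hR1]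
    rcases hs with rfl | rfl
    · rw [if_pos rfl]; simp [show (1 : quadIso (Q1 F 6)).1 x = x from rfl]
    · rw [if_neg (fun h => O.two (by linear_combination -h)), ee_pair_apply]
      split_ifs with h h' <;> simp_all
  have hR3v : ∀ x : V, ∀ m, R3.1 x m = if m = 3 then t * x m else if m = 5 then t * x m else x m := by
    intro x m
    rw [hR3]
    rcases ht with rfl | rfl
    · rw [if_pos rfl]; simp [show (1 : quadIso (Q1 F 6)).1 x = x from rfl]
    · rw [if_neg (fun h => O.two (by linear_combination -h)), ee_pair_apply]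
      split_ifs with h h' <;> simp_all
  have hs0 : s ≠ 0 := by rcases hs with rfl | rfl <;> simp
  have ht0 : t ≠ 0 := by rcases ht with rfl | rfl <;> simp
  refine ⟨R1 * R3 * g, mul_mem (mul_mem hR1G hR3G) hg, (hR1m.mul hR3m).mul hgm, fun v => ?_, fun v => ?_⟩
  · simp only [mul_app, hR1v, hR3v]
    have e0 := hv v i; rw [h0] at e0
    have e1 := hv v j; rw [h1] at e1
    have e2 := hv v k; rw [h2] at e2
    have e3 := hv v l; rw [h3] at e3
    simp [e0, e1, e2, e3]
  · simp only [mul_app, hR1v, hR3v]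
    simp only [show ((4 : Fin 6) = 1) = False by decide, show ((4 : Fin 6) = 3) = False by decide,
      show ((4 : Fin 6) = 5) = False by decide, show ((5 : Fin 6) = 1) = False by decide,
      show ((5 : Fin 6) = 3) = False by decide, if_false, if_true, mul_eq_zero, hs0, ht0, false_or]
    constructor
    · rintro ⟨e4, e5⟩ m hmi hmj hmk hml
      have hm : σ m = 4 ∨ σ m = 5 := by
        have a0 : σ m ≠ 0 := fun e => hmi (σ.injective (e.trans h0.symm))
        have a1 : σ m ≠ 1 := fun e => hmj (σ.injective (e.trans h1.symm))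
        have a2 : σ m ≠ 2 := fun e => hmk (σ.injective (e.trans h2.symm))
        have a3 : σ m ≠ 3 := fun e => hml (σ.injective (e.trans h3.symm))
        revert a0 a1 a2 a3
        generalize σ m = z
        revert z
        decide
      rw [← hv v m]
      rcases hm with e | e <;> rw [e] <;> assumption
    · intro h
      obtain ⟨m, hm⟩ := σ.surjective 4
      obtain ⟨m', hm'⟩ := σ.surjective 5
      rw [← hm, ← hm', hv, hv]
      constructor <;> apply h <;> intro e <;> subst e <;> first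
        | (rw [h0] at hm; exact absurd hm (by decide))
        | (rw [h1] at hm; exact absurd hm (by decide))
        | (rw [h2] at hm; exact absurd hm (by decide))
        | (rw [h3] at hm; exact absurd hm (by decide))
        | (rw [h0] at hm'; exact absurd hm' (by decide))
        | (rw [h1] at hm'; exact absurd hm' (by decide))
        | (rw [h2] at hm'; exact absurd hm' (by decide))
        | (rw [h3] at hm'; exact absurd hm' (by decide))

/-- Two orthonormal vectors and the monomial product of their reflections. -/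
theorem classify (h2 : (2 : F) ≠ 0) {u v : V} (hu : u ⬝ᵥ u = 1) (hv : v ⬝ᵥ v = 1) (huv : u ⬝ᵥ v = 0)
    (hm : Mono (rf u * rf v)) :
    (∃ a b : Fin 6, a ≠ b ∧ ∀ w, w = u ∨ w = v → ∀ m, m ≠ a → m ≠ b → w m = 0) ∨
    (∃ (i j k : Fin 6) (s : F), (s = 1 ∨ s = -1) ∧ i ≠ j ∧ i ≠ k ∧ j ≠ k ∧
      ∀ w, w = u ∨ w = v → (∀ m, m ≠ i → m ≠ j → m ≠ k → w m = 0) ∧ w j = -(s * w i)) ∨
    (∃ (i j k l : Fin 6) (s t : F), (s = 1 ∨ s = -1) ∧ (t = 1 ∨ t = -1) ∧ Function.Injective ![i, j, k, l] ∧
      ∀ w, w = u ∨ w = v → (∀ m, m ≠ i → m ≠ j → m ≠ k → m ≠ l → w m = 0) ∧ w j = -(s * w i) ∧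
        w l = -(t * w k)) := by
  classical
  set x := rf u * rf v with hxdef
  have hxu : x.1 u = -u := by
    rw [hxdef, pair_apply hu hv huv, hu, dotProduct_comm v u, huv]
    module
  have hxv : x.1 v = -v := by
    rw [hxdef, pair_apply hu hv huv, huv, hv]
    module
  have hx2 : x * x = 1 := ext_iso fun z => by
    show x.1 (x.1 z) = z
    simp only [hxdef, pair_apply hu hv huv, dotProduct_sub, dotProduct_smul, hu, hv, huv,
      dotProduct_comm v u, smul_eq_mul]
    module
  obtain ⟨f, s, hf⟩ := Mono.invol h2 hm hx2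
  have hneg : ∀ w, w = u ∨ w = v → ∀ m, s m * w (f m) = -w m := fun w hw m => by
    rw [← (hf m).2.2.2 w]
    rcases hw with rfl | rfl
    · rw [hxu]; rfl
    · rw [hxv]; rfl
  set R : Finset (Fin 6) := Finset.univ.filter fun m => m < f m ∨ (f m = m ∧ s m = -1) with hR
  have hoff : ∀ w, w = u ∨ w = v → ∀ m, m ∉ R → (f m ∈ R → f m = m) → w m = 0 := by
    intro w hw m hmR hfm
    simp only [hR, Finset.mem_filter, Finset.mem_univ, true_and, not_or, not_and, (hf m).2.2.1] at hmR hfm
    have hfix : f m = m := by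
      by_contra hne
      rcases lt_or_gt_of_ne hne with h | h
      · exact hne (hfm (Or.inl h))
      · exact hmR.1 h
    have h1 := hneg w hw m
    rw [hfix, (hf m).1.resolve_right (hmR.2 hfix), one_mul] at h1
    exact (mul_eq_zero.1 (show (2 : F) * w m = 0 by linear_combination h1)).resolve_left h2
  have hrel : ∀ w, w = u ∨ w = v → ∀ m, w (f m) = -(s m * w m) := fun w hw m => by
    have h1 := hneg w hw m
    have hsq : s m * s m = 1 := by rcases (hf m).1 with e | e <;> rw [e] <;> simp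
    linear_combination (s m) * h1 - w (f m) * hsq
  -- eigenvectors of the representatives
  let N : Fin 6 → V := fun m => if f m = m then ee m else ee m - s m • ee (f m)
  have hsf : ∀ m, f m ≠ m → s (f m) = s m := fun m _ => by
    have h1 : x.1 (x.1 (ee m : V)) = ee m := congrArg (fun g : quadIso (Q1 F 6) => g.1 (ee m : V)) hx2
    rw [(hf m).2.1, map_smul, (hf (f m)).2.1, (hf m).2.2.1, smul_smul] at h1
    have h3 := congrFun h1 m
    rw [Pi.smul_apply, ee_self, smul_eq_mul, mul_one] at h3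
    have hsq : s m * s m = 1 := by rcases (hf m).1 with e | e <;> rw [e] <;> simp
    linear_combination (s m) * h3 - s (f m) * hsq
  have hNx : ∀ m ∈ R, x.1 (N m) = -N m := by
    intro m hm
    simp only [hR, Finset.mem_filter, Finset.mem_univ, true_and] at hm
    by_cases h : f m = m
    · rw [show N m = ee m from if_pos h, (hf m).2.1, h, hm.resolve_left (by rw [h]; exact lt_irrefl m) |>.2,
        neg_one_smul]
    · have hsq : s m * s m = 1 := by rcases (hf m).1 with e | e <;> rw [e] <;> simp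
      rw [show N m = ee m - s m • ee (f m) from if_neg h, map_sub, map_smul, (hf m).2.1, (hf (f m)).2.1,
        (hf m).2.2.1, hsf m h, smul_smul, hsq, one_smul, neg_sub]
  have hN0 : ∀ m, N m ⬝ᵥ N m ≠ 0 := fun m => by
    by_cases h : f m = m
    · rw [show N m = ee m from if_pos h, ee_norm]; exact one_ne_zero
    · have hsq : s m * s m = 1 := by rcases (hf m).1 with e | e <;> rw [e] <;> simp
      rw [show N m = ee m - s m • ee (f m) from if_neg h, sub_dotProduct, smul_dotProduct, ee_dot, ee_dot]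
      simp only [Pi.sub_apply, Pi.smul_apply, smul_eq_mul, ee_self, ee_ne h, ee_ne (Ne.symm h)]
      exact fun e => h2 (by linear_combination e - hsq)
  have hNsupp : ∀ m k, N m k ≠ 0 → k = m ∨ k = f m := fun m k hk => by
    by_contra hh
    rw [not_or] at hh
    refine hk ?_
    by_cases h : f m = m
    · rw [show N m = ee m from if_pos h, ee_ne hh.1]
    · rw [show N m = ee m - s m • ee (f m) from if_neg h, Pi.sub_apply, Pi.smul_apply, ee_ne hh.1, ee_ne hh.2,
        smul_zero, sub_zero]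
  have hNorth : ∀ a ∈ R, ∀ b ∈ R, a ≠ b → N a ⬝ᵥ N b = 0 := by
    intro a ha b hb hab
    refine Finset.sum_eq_zero fun k _ => ?_
    by_contra hk
    simp only [hR, Finset.mem_filter, Finset.mem_univ, true_and] at ha hb
    rcases hNsupp a k (left_ne_zero_of_mul hk) with e1 | e1 <;>
      rcases hNsupp b k (right_ne_zero_of_mul hk) with e2 | e2
    · exact hab (e1.symm.trans e2)
    · have e : f a = b := by rw [show a = f b from e1.symm.trans e2, (hf b).2.2.1]
      have e' : f b = a := (e1.symm.trans e2).symm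
      rw [e] at ha; rw [e'] at hb
      rcases ha with ha | ha
      · rcases hb with hb | hb
        · exact lt_asymm ha hb
        · exact hab hb.1
      · exact hab ha.1.symm
    · have e : f a = b := e1.symm.trans e2
      have e' : f b = a := by rw [← e, (hf a).2.2.1]
      rw [e] at ha; rw [e'] at hb
      rcases ha with ha | ha
      · rcases hb with hb | hb
        · exact lt_asymm ha hb
        · exact hab hb.1
      · exact hab ha.1.symm
    · exact hab (by rw [← (hf a).2.2.1, show f a = f b from e1.symm.trans e2, (hf b).2.2.1])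
  have hInP : ∀ w : V, x.1 w = -w → ∃ α β : F, w = α • u + β • v := fun w hw => by
    refine ⟨u ⬝ᵥ w, v ⬝ᵥ w, funext fun m => mul_left_cancel₀ h2 ?_⟩
    rw [hxdef, pair_apply hu hv huv] at hw
    have h1 := congrFun hw m
    simp only [Pi.sub_apply, Pi.neg_apply, Pi.smul_apply, Pi.add_apply, smul_eq_mul] at h1 ⊢
    linear_combination h1
  -- at most two representatives
  have hle : R.card ≤ 2 := by
    by_contra hc
    obtain ⟨a, b, c, ha, hb, hcR, hab, hac, hbc⟩ := Finset.two_lt_card_iff.1 (not_le.1 hc)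
    obtain ⟨a1, a2, ea⟩ := hInP _ (hNx a ha)
    obtain ⟨b1, b2, eb⟩ := hInP _ (hNx b hb)
    obtain ⟨c1, c2, ec⟩ := hInP _ (hNx c hcR)
    have hd : ∀ p q r t : F, (p • u + q • v) ⬝ᵥ (r • u + t • v) = p * r + q * t := fun p q r t => by
      simp only [add_dotProduct, dotProduct_add, smul_dotProduct, dotProduct_smul, hu, hv, huv,
        dotProduct_comm v u, smul_eq_mul]
      ring
    have naa := hN0 a
    have nbb := hN0 b
    have ncc := hN0 c
    have hab' := hNorth a ha b hb hab
    have hac' := hNorth a ha c hcR hac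
    have hbc' := hNorth b hb c hcR hbc
    rw [ea, hd] at naa
    rw [eb, hd] at nbb
    rw [ec, hd] at ncc
    rw [ea, eb, hd] at hab'
    rw [ea, ec, hd] at hac'
    rw [eb, ec, hd] at hbc'
    have k1 : a1 * (b1 * c2 - b2 * c1) = 0 := by linear_combination c2 * hab' - b2 * hac'
    have k2 : a2 * (b1 * c2 - b2 * c1) = 0 := by linear_combination b1 * hac' - c1 * hab'
    have hD : b1 * c2 - b2 * c1 = 0 :=
      (mul_eq_zero.1 (show (a1 * a1 + a2 * a2) * (b1 * c2 - b2 * c1) = 0 by
        linear_combination a1 * k1 + a2 * k2)).resolve_left naa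
    exact mul_ne_zero nbb ncc
      (by linear_combination (b1 * c1 + b2 * c2) * hbc' + (b1 * c2 - b2 * c1) * hD)
  -- at least two, as the vectors are orthogonal
  have hge : 2 ≤ R.card := by
    by_contra hc
    obtain ⟨a, hRa⟩ : ∃ a, R ⊆ {a} := by
      rcases R.eq_empty_or_nonempty with h | ⟨a, ha⟩
      · exact ⟨0, by simp [h]⟩
      · exact ⟨a, fun b hb => Finset.mem_singleton.2 (Finset.card_le_one.1 (by omega) b hb a ha)⟩
    have hval : ∀ w, w = u ∨ w = v → ∀ m, (m ≠ a → m ≠ f a → w m = 0) := fun w hw m hma hmf =>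
      hoff w hw m (fun h => hma (Finset.mem_singleton.1 (hRa h))) fun h => absurd
        (show m = f a by rw [← Finset.mem_singleton.1 (hRa h), (hf m).2.2.1]) hmf
    have hprop : ∀ m, u m * v a = u a * v m := fun m => by
      by_cases hma : m = a
      · subst hma; rfl
      by_cases hmf : m = f a
      · subst hmf
        rw [hrel u (Or.inl rfl), hrel v (Or.inr rfl)]; ring
      rw [hval u (Or.inl rfl) m hma hmf, hval v (Or.inr rfl) m hma hmf]; ring
    have hua : u a * (v ⬝ᵥ v) = v a * (u ⬝ᵥ v) := by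
      rw [dotProduct, dotProduct, Finset.mul_sum, Finset.mul_sum]
      exact Finset.sum_congr rfl fun m _ => by linear_combination -(v m) * hprop m
    rw [hv, huv, mul_one, mul_zero] at hua
    have : u = 0 := funext fun m => by
      by_cases hma : m = a
      · rw [hma, hua]; rfl
      by_cases hmf : m = f a
      · rw [hmf, hrel u (Or.inl rfl), hua]; simp
      exact hval u (Or.inl rfl) m hma hmf
    rw [this, zero_dotProduct] at hu
    exact zero_ne_one hu
  obtain ⟨a, b, hab, hRab⟩ := Finset.card_eq_two.1 (show R.card = 2 by omega)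
  have ha : a ∈ R := by simp [hRab]
  have hb : b ∈ R := by simp [hRab]
  have hout : ∀ w, w = u ∨ w = v → ∀ m, m ≠ a → m ≠ b → m ≠ f a → m ≠ f b → w m = 0 := by
    intro w hw m h1 h3 h4 h5
    refine hoff w hw m (fun h => ?_) fun h => ?_
    · simp [hRab, h1, h3] at h
    · rw [hRab, Finset.mem_insert, Finset.mem_singleton] at h
      rcases h with h | h
      · exact absurd (by rw [← h, (hf m).2.2.1] : m = f a) h4
      · exact absurd (by rw [← h, (hf m).2.2.1] : m = f b) h5
  have hmov : ∀ p ∈ R, f p ≠ p → f p ∉ R := fun p hp hne h => by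
    simp only [hR, Finset.mem_filter, Finset.mem_univ, true_and, (hf p).2.2.1] at hp h
    rcases hp with hp | hp
    · rcases h with h | h
      · exact lt_asymm hp h
      · exact hne h.1.symm
    · exact hne hp.1
  by_cases hfa : f a = a <;> by_cases hfb : f b = b
  · exact Or.inl ⟨a, b, hab, fun w hw m h1 h3 => hout w hw m h1 h3 (by rwa [hfa]) (by rwa [hfb])⟩
  · refine Or.inr (Or.inl ⟨b, f b, a, s b, (hf b).1, Ne.symm hfb, hab.symm,
      fun e => hmov b hb hfb (e ▸ ha), fun w hw => ⟨fun m h1 h3 h4 => hout w hw m h4 h1 (by rwa [hfa]) h3,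
        hrel w hw b⟩⟩)
  · refine Or.inr (Or.inl ⟨a, f a, b, s a, (hf a).1, Ne.symm hfa, hab,
      fun e => hmov a ha hfa (e ▸ hb), fun w hw => ⟨fun m h1 h3 h4 => hout w hw m h1 h4 h3 (by rwa [hfb]),
        hrel w hw a⟩⟩)
  · refine Or.inr (Or.inr ⟨a, f a, b, f b, s a, s b, (hf a).1, (hf b).1, ?_, fun w hw =>
      ⟨fun m h1 h3 h4 h5 => hout w hw m h1 h4 h3 h5, hrel w hw a, hrel w hw b⟩⟩)
    have n1 : f a ≠ b := fun e => hmov a ha hfa (e ▸ hb)
    have n2 : f b ≠ a := fun e => hmov b hb hfb (e ▸ ha)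
    have n3 : f a ≠ f b := fun e => hab (by rw [← (hf a).2.2.1, e, (hf b).2.2.1])
    intro p q e
    fin_cases p <;> fin_cases q <;>
      first
        | rfl
        | (exfalso; simp at e; first
            | exact hfa e | exact hfa e.symm | exact hfb e | exact hfb e.symm | exact hab e | exact hab e.symm
            | exact n1 e | exact n1 e.symm | exact n2 e | exact n2 e.symm | exact n3 e | exact n3 e.symm)

/-- The two last coordinates to the two last ones. -/
theorem plane_mono_std (O : Ov G) (hstar : Star G) {y : quadIso (Q1 F 6)} (hy : y ∈ G)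
    (h4 : ∀ m, m ≠ 4 → m ≠ 5 → y.1 (ee 4 : V) m = 0) (h5 : ∀ m, m ≠ 4 → m ≠ 5 → y.1 (ee 5 : V) m = 0) :
    Mono y := by
  classical
  have h2 := O.two
  set α := y.1 (ee 4 : V) 4 with hα
  set β := y.1 (ee 4 : V) 5 with hβ
  set γ := y.1 (ee 5 : V) 4 with hγ
  set δ := y.1 (ee 5 : V) 5 with hδ
  have hdot : ∀ w : V, y.1 (ee 4 : V) ⬝ᵥ w = α * w 4 + β * w 5 ∧ y.1 (ee 5 : V) ⬝ᵥ w = γ * w 4 + δ * w 5 :=
    fun w => by
      constructor <;> rw [dot_eq_sum (s := ({4, 5} : Finset (Fin 6))), Finset.sum_pair (by decide)] <;>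
        intro m hm <;> rw [Finset.mem_insert, Finset.mem_singleton] <;> by_contra hh <;> rw [not_or] at hh
      · exact mem_supp.1 hm (h4 m hh.1 hh.2)
      · exact mem_supp.1 hm (h5 m hh.1 hh.2)
  have n4 : α * α + β * β = 1 := by rw [← norm_image h2 y 4, (hdot _).1]
  have n5 : γ * γ + δ * δ = 1 := by rw [← norm_image h2 y 5, (hdot _).2]
  have n45 : α * γ + β * δ = 0 := by rw [← image_orth h2 y (show (4 : Fin 6) ≠ 5 by decide), (hdot _).1]
  have hD : (α * δ - β * γ) * (α * δ - β * γ) = 1 := by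
    linear_combination (γ * γ + δ * δ) * n4 + n5 - (α * γ + β * δ) * n45
  have hD0 : α * δ - β * γ ≠ 0 := fun h => by rw [h, mul_zero] at hD; exact zero_ne_one hD
  have hz : ∀ k : Fin 6, k ≠ 4 → k ≠ 5 → y.1 (ee k : V) 4 = 0 ∧ y.1 (ee k : V) 5 = 0 := fun k hk4 hk5 => by
    have e4 := image_orth h2 y (Ne.symm hk4)
    have e5 := image_orth h2 y (Ne.symm hk5)
    rw [(hdot _).1] at e4
    rw [(hdot _).2] at e5
    exact ⟨(mul_eq_zero.1 (show (α * δ - β * γ) * y.1 (ee k : V) 4 = 0 by
        linear_combination δ * e4 - β * e5)).resolve_left hD0,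
      (mul_eq_zero.1 (show (α * δ - β * γ) * y.1 (ee k : V) 5 = 0 by
        linear_combination α * e5 - γ * e4)).resolve_left hD0⟩
  by_contra hym
  have hcol : ∀ k, ¬ IsE (y.1 (ee k : V)) := fun k h => hym (hstar y hy ⟨k, h⟩)
  have hαβ : α ≠ 0 ∧ β ≠ 0 := by
    constructor <;> intro h <;> refine hcol 4 (isE_of_card (norm_image h2 y 4) ?_)
    · refine (Finset.card_le_card (t := {5}) fun m hm => ?_).trans (by simp)
      rw [Finset.mem_singleton]
      by_contra hne
      by_cases hm4 : m = 4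
      · subst hm4; exact mem_supp.1 hm h
      · exact mem_supp.1 hm (h4 m hm4 hne)
    · refine (Finset.card_le_card (t := {4}) fun m hm => ?_).trans (by simp)
      rw [Finset.mem_singleton]
      by_contra hne
      by_cases hm5 : m = 5
      · subst hm5; exact mem_supp.1 hm h
      · exact mem_supp.1 hm (h4 m hne hm5)
  have hz2 := hz 2 (by decide) (by decide)
  -- the first column is diagonal
  have hdiag : α * α = β * β := by
    have hx := pair_zero O hstar hy (a := 0) (b := 1) (k := 4) (by decide) (hz 0 (by decide) (by decide)).1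
      (hz 1 (by decide) (by decide)).1
    set x := rf (y.1 (ee 0 : V)) * rf (y.1 (ee 1)) with hxdef
    have n0 := norm_image h2 y 0
    have n1 := norm_image h2 y 1
    have n01 := image_orth h2 y (show (0 : Fin 6) ≠ 1 by decide)
    have hx2 : x * x = 1 := ext_iso fun z => by
      show x.1 (x.1 z) = z
      simp only [hxdef, pair_apply n0 n1 n01, dotProduct_sub, dotProduct_smul, n0, n1, n01,
        dotProduct_comm (y.1 (ee 1 : V)) (y.1 (ee 0)), smul_eq_mul]
      module
    obtain ⟨f, s, hf⟩ := Mono.invol h2 hx hx2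
    set w := y.1 (ee 2 : V) with hwdef
    have hxw : x.1 w = w := by
      rw [hxdef, pair_apply n0 n1 n01, image_orth h2 y (show (0 : Fin 6) ≠ 2 by decide),
        image_orth h2 y (show (1 : Fin 6) ≠ 2 by decide)]
      simp
    by_cases hzero : ∃ i : Fin 6, i ≠ 4 ∧ i ≠ 5 ∧ w i = 0
    · obtain ⟨i, hi4, hi5, hi⟩ := hzero
      have hm := pair_zero O hstar hy (a := 4) (b := 2) (k := i) (by decide) (h4 i hi4 hi5) hi
      by_contra hne
      have hval : ∀ m, (rf (y.1 (ee 4 : V)) * rf (y.1 (ee 2))).1 (ee 4) m =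
          (ee 4 : V) m - 2 * α * y.1 (ee 4 : V) m := fun m => by
        rw [pair_apply (norm_image h2 y 4) (norm_image h2 y 2) (image_orth h2 y (by decide)), dot_ee, dot_ee,
          ← hwdef, hz2.1]
        simp [hα]
      refine absurd (mono_coord hm (k := (4 : Fin 6)) (i := 4) (j := 5) ?_ ?_) (by decide)
      · rw [hval, ee_self, ← hα]
        exact fun e => hne (by linear_combination -n4 - e)
      · rw [hval, ee_ne (by decide), ← hβ, zero_sub]
        exact neg_ne_zero.2 (mul_ne_zero (mul_ne_zero h2 hαβ.1) hαβ.2)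
    push Not at hzero
    have hx4 : x.1 (ee 4 : V) = ee 4 := by
      rw [hxdef, pair_apply n0 n1 n01, dot_ee, dot_ee, (hz 0 (by decide) (by decide)).1,
        (hz 1 (by decide) (by decide)).1]
      simp
    have hx5 : x.1 (ee 5 : V) = ee 5 := by
      rw [hxdef, pair_apply n0 n1 n01, dot_ee, dot_ee, (hz 0 (by decide) (by decide)).2,
        (hz 1 (by decide) (by decide)).2]
      simp
    obtain ⟨i, hi4, hi5, hi⟩ : ∃ i : Fin 6, i ≠ 4 ∧ i ≠ 5 ∧ f i ≠ i := by
      by_contra hh
      push Not at hh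
      have hone : x = 1 := ext_std fun i => by
        show x.1 (ee i : V) = ee i
        by_cases hi4 : i = 4
        · rw [hi4, hx4]
        by_cases hi5 : i = 5
        · rw [hi5, hx5]
        rw [(hf i).2.1, hh i hi4 hi5]
        have h := (hf i).2.2.2 w
        rw [hxw, hh i hi4 hi5] at h
        rw [show s i = 1 from mul_right_cancel₀ (hzero i hi4 hi5) (by rw [one_mul]; exact h.symm), one_smul]
      have h := congrArg (fun g : quadIso (Q1 F 6) => g.1 (y.1 (ee 0 : V)) ⬝ᵥ y.1 (ee 0)) hone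
      change x.1 (y.1 (ee 0 : V)) ⬝ᵥ y.1 (ee 0) = y.1 (ee 0 : V) ⬝ᵥ y.1 (ee 0) at h
      rw [hxdef, pair_apply n0 n1 n01, n0, dotProduct_comm (y.1 (ee 1 : V)), n01] at h
      simp [n0] at h
      exact h2 (by linear_combination h)
    have hj4 : f i ≠ 4 := fun e => hi4 (by
      have h := (hf i).2.2.1; rw [e] at h
      have h4' := (hf 4).2.1
      rw [hx4, h] at h4'
      by_contra hne
      have := congrFun h4' 4
      rw [ee_self, Pi.smul_apply, ee_ne (Ne.symm hne), smul_zero] at this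
      exact one_ne_zero this)
    have hj5 : f i ≠ 5 := fun e => hi5 (by
      have h := (hf i).2.2.1; rw [e] at h
      have h4' := (hf 5).2.1
      rw [hx5, h] at h4'
      by_contra hne
      have := congrFun h4' 5
      rw [ee_self, Pi.smul_apply, ee_ne (Ne.symm hne), smul_zero] at this
      exact one_ne_zero this)
    have hwi : w i = s i * w (f i) := by
      have h := (hf i).2.2.2 w
      rwa [hxw] at h
    have hsq : s i * s i = 1 := by rcases (hf i).1 with e | e <;> rw [e] <;> simp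
    set m := rf (sd i (f i) (-s i) : V) * rf (sd 4 5 (-1)) with hmdef
    have hss : (-s i) * (-s i) = 1 := by linear_combination hsq
    have hmG : m ∈ G := sd_pair_mem O (Ne.symm hi) (by decide) hss (by ring)
    have hfixw : m.1 w = w := by
      have h1 : (rf (sd 4 5 (-1) : V)).1 w = w := funext fun k => by
        rw [rf_sd h2 (by decide) (by ring), hz2.1, hz2.2]; ring
      rw [hmdef, mul_app, h1]
      funext k
      rw [rf_sd h2 (Ne.symm hi) hss]
      linear_combination -(sd i (f i) (-s i) : V) k * hwi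
    obtain ⟨h, hh⟩ := col_image hstar hy hmG (c := 2) (by rw [← hwdef]; exact hfixw) 4
    have hm4 : m.1 (y.1 (ee 4 : V)) ⬝ᵥ y.1 (ee 4) = 2 * α * β := by
      rw [dotProduct_comm, (hdot _).1, hmdef, mul_app, rf_sd h2 (Ne.symm hi) hss,
        rf_sd h2 (Ne.symm hi) hss]
      simp only [rf_sd h2 (show (4 : Fin 6) ≠ 5 by decide) (show (-1 : F) * -1 = 1 by ring), sd_apply]
      simp [hi4, hi5, hj4, hj5, Ne.symm hi4, Ne.symm hi5, Ne.symm hj4, Ne.symm hj5, h4, ← hα, ← hβ]
      ring
    have hor : 2 * α * β = 0 ∨ 2 * α * β = 1 ∨ 2 * α * β = -1 := by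
      rw [← hm4]
      by_cases h4h : h = 4
      · rcases hh with e | e <;> rw [e, h4h]
        · exact Or.inr (Or.inl (norm_image h2 y 4))
        · exact Or.inr (Or.inr (by rw [neg_dotProduct, norm_image h2 y 4]))
      · rcases hh with e | e <;> rw [e] <;> refine Or.inl ?_
        · exact image_orth h2 y h4h
        · rw [neg_dotProduct, image_orth h2 y h4h, neg_zero]
    rcases hor with h' | h' | h'
    · exact absurd h' (mul_ne_zero (mul_ne_zero h2 hαβ.1) hαβ.2)
    · have : α - β = 0 := mul_self_eq_zero.1 (by linear_combination n4 - h')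
      linear_combination (α + β) * this
    · have : α + β = 0 := mul_self_eq_zero.1 (by linear_combination n4 + h')
      linear_combination (α - β) * this
  have hhalf : 2 * (α * α) = 1 := by linear_combination n4 + hdiag
  -- every other column has weight two
  have hweight : ∀ k : Fin 6, k ≠ 4 → k ≠ 5 → ∀ i j l : Fin 6, i ≠ j → i ≠ l → j ≠ l →
      y.1 (ee k : V) i ≠ 0 → y.1 (ee k : V) j ≠ 0 → y.1 (ee k : V) l ≠ 0 → False := by
    intro k hk4 hk5 i j l hij hil hjl hi hj hl
    have hne : ∀ m, y.1 (ee k : V) m ≠ 0 → y.1 (ee 4 : V) m = 0 := fun m hm =>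
      h4 m (fun e => hm (by rw [e]; exact (hz k hk4 hk5).1)) fun e => hm (by rw [e]; exact (hz k hk4 hk5).2)
    refine no_three_coord h2 (by rw [norm_image h2 y 4]; exact one_ne_zero)
      (by rw [norm_image h2 y k]; exact one_ne_zero) (hstar _ (pair_mem' O hy 4 k) ⟨4, ?_⟩) (hne i hi) (hne j hj)
      (hne l hl) (image_orth h2 y (Ne.symm hk4)) hi hj hl hij hil hjl
    have hval : (rf (y.1 (ee 4 : V)) * rf (y.1 (ee k))).1 (ee 4) = (-(2 * α * β)) • ee 5 := by
      rw [pair_apply (norm_image h2 y 4) (norm_image h2 y k) (image_orth h2 y (Ne.symm hk4)), dot_ee, dot_ee,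
        (hz k hk4 hk5).1]
      funext m
      simp only [Pi.sub_apply, Pi.smul_apply, smul_eq_mul, ← hα, ee_apply]
      by_cases hm4 : m = 4
      · subst hm4
        simp [← hα]
        linear_combination -hhalf
      by_cases hm5 : m = 5
      · subst hm5; simp [← hβ]
      · simp [hm4, hm5, h4 m hm4 hm5]
    have hsq' : (2 * α * β) * (2 * α * β) = 1 := by
      linear_combination 4 * α * α * (n4 - hhalf) + (2 * (α * α) + 1) * hhalf
    rw [hval]
    rcases mul_self_eq_one_iff.1 hsq' with e | e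
    · exact ⟨5, Or.inr (by rw [e, neg_one_smul])⟩
    · exact ⟨5, Or.inl (by rw [e, neg_neg, one_smul])⟩
  obtain ⟨i, hi⟩ := exists_supp y h2 0
  obtain ⟨j, hj, hji⟩ : ∃ j, y.1 (ee 0 : V) j ≠ 0 ∧ j ≠ i := by
    by_contra hh
    push Not at hh
    refine hcol 0 (isE_of_card (norm_image h2 y 0) ((Finset.card_le_card (t := {i}) fun m hm => ?_).trans (by simp)))
    rw [Finset.mem_singleton]
    exact hh m (mem_supp.1 hm)
  rw [mem_supp] at hi
  obtain ⟨p, hp⟩ : ∃ p : Fin 6, p ∉ ({i, j, 4, 5} : Finset (Fin 6)) := by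
    by_contra hh
    push Not at hh
    have h1 := Finset.card_le_card (s := Finset.univ) fun m _ => hh m
    have h3 : ({i, j, 4, 5} : Finset (Fin 6)).card ≤ 4 := Finset.card_le_four
    simp at h1
    omega
  simp only [Finset.mem_insert, Finset.mem_singleton, not_or] at hp
  obtain ⟨hpi, hpj, hp4, hp5⟩ := hp
  have hp0 : y.1 (ee 0 : V) p = 0 := by
    by_contra hne
    exact hweight 0 (by decide) (by decide) i j p hji.symm (Ne.symm hpi) (Ne.symm hpj) hi hj hne
  obtain ⟨l, hl4, hl5, hlp⟩ : ∃ l : Fin 6, l ≠ 4 ∧ l ≠ 5 ∧ y.1 (ee l : V) p ≠ 0 := by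
    by_contra hh
    push Not at hh
    have h := row_norm h2 y p
    rw [Finset.sum_eq_zero fun k _ => ?_] at h
    · exact zero_ne_one h
    by_cases hk4 : k = 4
    · rw [hk4, h4 p hp4 hp5, mul_zero]
    by_cases hk5 : k = 5
    · rw [hk5, h5 p hp4 hp5, mul_zero]
    rw [hh k hk4 hk5, mul_zero]
  have hl0 : l ≠ 0 := fun e => hlp (by rw [e]; exact hp0)
  have horth : y.1 (ee 0 : V) i * y.1 (ee l : V) i + y.1 (ee 0 : V) j * y.1 (ee l : V) j = 0 := by
    have h := image_orth h2 y (Ne.symm hl0)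
    rwa [dot_eq_sum (s := ({i, j} : Finset (Fin 6))), Finset.sum_pair hji.symm] at h
    intro m hm
    rw [Finset.mem_insert, Finset.mem_singleton]
    by_contra hh
    rw [not_or] at hh
    exact hweight 0 (by decide) (by decide) i j m hji.symm (Ne.symm hh.1) (Ne.symm hh.2) hi hj (mem_supp.1 hm)
  have hli : y.1 (ee l : V) i = 0 := by
    by_contra hne
    have hlj : y.1 (ee l : V) j = 0 := by
      by_contra hne'
      exact hweight l hl4 hl5 i j p hji.symm (Ne.symm hpi) (Ne.symm hpj) hne hne' hlp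
    rw [hlj, mul_zero, add_zero, mul_eq_zero] at horth
    exact horth.elim hi hne
  have hlj : y.1 (ee l : V) j = 0 := by
    rw [hli, mul_zero, zero_add, mul_eq_zero] at horth
    exact horth.resolve_left hj
  -- a reflection pair with an axis
  have hγδ : γ * γ = α * α ∧ δ * δ = α * α := by
    have hγ2 : γ * γ = β * β := by linear_combination (α * γ - β * δ) * n45 - γ * γ * n4 + β * β * n5
    exact ⟨by linear_combination hγ2 - hdiag, by linear_combination n5 - hhalf - hγ2 + hdiag⟩
  set u := y.1 (ee 4 : V) - y.1 (ee 5) with hudef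
  set v := y.1 (ee 0 : V) - y.1 (ee l) with hvdef
  have hmem : rf u * rf v ∈ G := by
    have h := mul_mem (mul_mem hy (sd_pair_mem O (show (4 : Fin 6) ≠ 5 by decide) (Ne.symm hl0)
      (show (-1 : F) * -1 = 1 by ring) (show (-1 : F) * -1 = 1 by ring))) (inv_mem hy)
    rw [conj_pair y] at h
    simpa [sd, map_add, map_neg, ← sub_eq_add_neg, hudef, hvdef] using h
  have hun : ∀ k : Fin 6, k ≠ 4 → k ≠ 5 → u k = 0 := fun k hk4 hk5 => by
    rw [hudef, Pi.sub_apply, h4 k hk4 hk5, h5 k hk4 hk5, sub_zero]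
  have hv45 : v 4 = 0 ∧ v 5 = 0 := by
    constructor <;> rw [hvdef, Pi.sub_apply]
    · rw [(hz 0 (by decide) (by decide)).1, (hz l hl4 hl5).1, sub_zero]
    · rw [(hz 0 (by decide) (by decide)).2, (hz l hl4 hl5).2, sub_zero]
  have hnorm : ∀ a b : Fin 6, a ≠ b →
      (y.1 (ee a : V) - y.1 (ee b)) ⬝ᵥ (y.1 (ee a : V) - y.1 (ee b)) = 2 := fun a b hab => by
    rw [sub_dotProduct, dotProduct_sub, dotProduct_sub, norm_image h2 y a, norm_image h2 y b,
      image_orth h2 y hab, image_orth h2 y (Ne.symm hab)]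
    ring
  have hu0 : u ⬝ᵥ u ≠ 0 := by rw [hudef, hnorm 4 5 (by decide)]; exact h2
  have hv0 : v ⬝ᵥ v ≠ 0 := by rw [hvdef, hnorm 0 l (Ne.symm hl0)]; exact h2
  have huv : u ⬝ᵥ v = 0 := by
    rw [hudef, hvdef, sub_dotProduct, dotProduct_sub, dotProduct_sub, image_orth h2 y (by decide),
      image_orth h2 y (Ne.symm hl4), image_orth h2 y (by decide), image_orth h2 y (Ne.symm hl5)]
    ring
  obtain ⟨c, hc4, hc, hcu⟩ : ∃ c : Fin 6, (c = 4 ∨ c = 5) ∧ v c = 0 ∧ u c = 0 := by
    have h : u 4 * u 5 = 0 := by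
      rw [hudef, Pi.sub_apply, Pi.sub_apply, ← hα, ← hβ, ← hγ, ← hδ]
      rcases mul_self_eq_mul_self_iff.1 hγδ.1 with e | e
      · rw [e, sub_self, zero_mul]
      · have e' : δ = β := mul_left_cancel₀ hαβ.2 (by linear_combination n45 - α * e + hdiag)
        rw [e', sub_self, mul_zero]
    rcases mul_eq_zero.1 h with h | h
    · exact ⟨4, Or.inl rfl, hv45.1, h⟩
    · exact ⟨5, Or.inr rfl, hv45.2, h⟩
  refine no_three_coord h2 hu0 hv0 (hstar _ hmem ⟨c, c, Or.inl ?_⟩) (i := i) (j := j) (l := p) ?_ ?_ ?_ huv ?_ ?_ ?_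
    hji.symm (Ne.symm hpi) (Ne.symm hpj)
  · rw [mul_app, rf_perp hv0 (by rw [dot_ee, hc]), rf_perp hu0 (by rw [dot_ee, hcu])]
  · exact hun i (fun e => hi (by rw [e]; exact (hz 0 (by decide) (by decide)).1))
      fun e => hi (by rw [e]; exact (hz 0 (by decide) (by decide)).2)
  · exact hun j (fun e => hj (by rw [e]; exact (hz 0 (by decide) (by decide)).1))
      fun e => hj (by rw [e]; exact (hz 0 (by decide) (by decide)).2)
  · exact hun p hp4 hp5
  · rw [hvdef, Pi.sub_apply, hli, sub_zero]; exact hi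
  · rw [hvdef, Pi.sub_apply, hlj, sub_zero]; exact hj
  · rw [hvdef, Pi.sub_apply, hp0, zero_sub]; exact neg_ne_zero.2 hlp

/-- Two columns spanning a coordinate plane. -/
theorem plane_mono (O : Ov G) (hstar : Star G) {y : quadIso (Q1 F 6)} (hy : y ∈ G) {a b i j : Fin 6}
    (hab : a ≠ b) (hij : i ≠ j) (ha : ∀ m, m ≠ i → m ≠ j → y.1 (ee a : V) m = 0)
    (hb : ∀ m, m ≠ i → m ≠ j → y.1 (ee b : V) m = 0) : Mono y := by
  obtain ⟨σ, hσ, hσ4, hσ5⟩ := exists_even_map (n := 6) (by norm_num) (show (4 : Fin 6) ≠ 5 by decide) hab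
  obtain ⟨p, hp, hpσ⟩ := O.exists_even (by norm_num) hσ
  obtain ⟨τ, hτ, hτi, hτj⟩ := exists_even_map (n := 6) (by norm_num) hij (show (4 : Fin 6) ≠ 5 by decide)
  obtain ⟨q, hq, hqτ⟩ := O.exists_even (by norm_num) hτ
  have hpm : Mono p := fun m => ⟨σ m, Or.inl (hpσ m)⟩
  have hqm : Mono q := fun m => ⟨τ m, Or.inl (hqτ m)⟩
  have hcol : ∀ c d : Fin 6, σ c = d → (∀ m, m ≠ i → m ≠ j → y.1 (ee d : V) m = 0) →
      ∀ m, m ≠ 4 → m ≠ 5 → (q * y * p).1 (ee c : V) m = 0 := by
    intro c d hcd hd m h4 h5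
    obtain ⟨m, rfl⟩ := τ.surjective m
    rw [mul_app, mul_app, hpσ, hcd, perm_apply hqτ]
    exact hd m (fun e => h4 (by rw [e, hτi])) fun e => h5 (by rw [e, hτj])
  have h := plane_mono_std O hstar (mul_mem (mul_mem hq hy) hp) (hcol 4 a hσ4 ha) (hcol 5 b hσ5 hb)
  have h' := ((mono_inv hqm).mul h).mul (mono_inv hpm)
  rwa [show q⁻¹ * (q * y * p) * p⁻¹ = y by group] at h'

end CfsgLib.MaxSub.Frame.Six
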