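import Cfsg.Agent.Lib.MaxSub.Frame.SixBasic

/-!
Orthogonal frames in dimension six, part 2: two columns vanishing at a common coordinate make an element
monomial, and so does the existence of a plane of that kind.
-/

set_option autoImplicit false
set_option linter.unusedSectionVars false
set_option maxHeartbeats 800000

namespace CfsgLib.MaxSub.Frame.Six

open QuadraticMap CfsgLib.WittExtension CfsgLib.SpinorNorm

variable {F : Type*} [Field F] [Fintype F] {G : Subgroup (quadIso (Q1 F 6))}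

local notation "V" => Fin 6 → F

theorem row_orth (h2 : (2 : F) ≠ 0) (g : quadIso (Q1 F 6)) {i j : Fin 6} (hij : i ≠ j) :
    ∑ k, g.1 (ee k : V) i * g.1 (ee k : V) j = 0 := by
  have h := image_orth h2 g⁻¹ hij
  rw [dotProduct, Finset.sum_congr rfl fun k _ => by rw [inv_ee g h2, inv_ee g h2]] at h
  exact h

theorem dot_six (x y : V) :
    x ⬝ᵥ y = x 0 * y 0 + x 1 * y 1 + x 2 * y 2 + x 3 * y 3 + x 4 * y 4 + x 5 * y 5 := by
  rw [dotProduct, Fin.sum_univ_six]

/-- Vectors of the second normal plane. -/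
def P2 (v : V) : Prop := v 1 = 0 ∧ v 4 = 0 ∧ v 5 = 0 ∧ v 3 = -v 2

/-- Vectors of the first normal plane. -/
def P1 (v : V) : Prop := v 4 = 0 ∧ v 5 = 0 ∧ v 1 = -v 0 ∧ v 3 = -v 2

theorem not_isE_two (h2 : (2 : F) ≠ 0) {v : V} (h : v 3 = -v 2) (hv : IsE v) : v 2 = 0 ∧ v 3 = 0 := by
  by_cases h0 : v 2 = 0
  · exact ⟨h0, by rw [h, h0, neg_zero]⟩
  · exact absurd (isE_coord hv h0 (by rw [h]; exact neg_ne_zero.2 h0)) (by decide)

/-- Two columns in the second normal plane. -/
theorem no_P2 (O : Ov G) (hstar : Star G) {y : quadIso (Q1 F 6)} (hy : y ∈ G) (h4 : P2 (y.1 (ee 4 : V)))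
    (h5 : P2 (y.1 (ee 5 : V))) : False := by
  classical
  have h2 := O.two
  obtain ⟨u1, u4, u5, u3⟩ := h4
  obtain ⟨v1, v4, v5, v3⟩ := h5
  set u := y.1 (ee 4 : V) with hu
  set v := y.1 (ee 5 : V) with hv
  have nu : u ⬝ᵥ u = 1 := norm_image h2 y 4
  have nv : v ⬝ᵥ v = 1 := norm_image h2 y 5
  have nuv : u ⬝ᵥ v = 0 := image_orth h2 y (by decide)
  simp only [dot_six, u1, u4, u5, u3, v1, v4, v5, v3] at nu nv nuv
  have hD : 2 * (u 0 * v 2 - u 2 * v 0) * (u 0 * v 2 - u 2 * v 0) = 1 := by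
    linear_combination (v 0 * v 0 + 2 * (v 2 * v 2)) * nu + nv - (u 0 * v 0 + 2 * (u 2 * v 2)) * nuv
  have hD0 : u 0 * v 2 - u 2 * v 0 ≠ 0 := fun h => by simp [h] at hD
  -- the other columns
  have hT : ∀ g : Fin 6, g ≠ 4 → g ≠ 5 → y.1 (ee g : V) 0 = 0 ∧ y.1 (ee g : V) 3 = y.1 (ee g : V) 2 := by
    intro g g4 g5
    have e4 := image_orth h2 y (Ne.symm g4)
    have e5 := image_orth h2 y (Ne.symm g5)
    rw [← hu, dot_six, u1, u4, u5, u3] at e4
    rw [← hv, dot_six, v1, v4, v5, v3] at e5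
    have k0 : y.1 (ee g : V) 0 = 0 := (mul_eq_zero.1 (show (u 0 * v 2 - u 2 * v 0) * y.1 (ee g : V) 0 = 0 by
      linear_combination v 2 * e4 - u 2 * e5)).resolve_left hD0
    have k2 : y.1 (ee g : V) 2 - y.1 (ee g : V) 3 = 0 := (mul_eq_zero.1
      (show (u 0 * v 2 - u 2 * v 0) * (y.1 (ee g : V) 2 - y.1 (ee g : V) 3) = 0 by
        linear_combination u 0 * e5 - v 0 * e4)).resolve_left hD0
    exact ⟨k0, (sub_eq_zero.1 k2).symm⟩
  obtain ⟨a, a4, a5, ha⟩ : ∃ a : Fin 6, a ≠ 4 ∧ a ≠ 5 ∧ y.1 (ee a : V) 2 ≠ 0 := by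
    by_contra hh
    push Not at hh
    have r22 := row_norm h2 y 2
    have r23 := row_orth h2 y (show (2 : Fin 6) ≠ 3 by decide)
    rw [Fin.sum_univ_six] at r22 r23
    simp only [hh 0 (by decide) (by decide), hh 1 (by decide) (by decide), hh 2 (by decide) (by decide),
      hh 3 (by decide) (by decide), ← hu, ← hv, u3, v3] at r22 r23
    exact one_ne_zero (show (1 : F) = 0 by linear_combination -r22 - r23)
  -- pairs of them
  have hpair : ∀ b c : Fin 6, b ≠ 4 → b ≠ 5 → c ≠ 4 → c ≠ 5 → b ≠ c → y.1 (ee b : V) 2 ≠ 0 →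
      ∀ m, 2 * (y.1 (ee b : V) 2 * y.1 (ee b : V) m + y.1 (ee c : V) 2 * y.1 (ee c : V) m) =
        (if m = 2 then (1 : F) else 0) + (if m = 3 then 1 else 0) := by
    intro b c b4 b5 c4 c5 hbc hb
    have hm := pair_zero O hstar hy hbc (hT b b4 b5).1 (hT c c4 c5).1
    set B := y.1 (ee b : V) with hB
    set C := y.1 (ee c : V) with hC
    have hb3 : B 3 = B 2 := (hT b b4 b5).2
    have hc3 : C 3 = C 2 := (hT c c4 c5).2
    have hBB : B ⬝ᵥ B = 1 := norm_image h2 y b
    have hBC : B ⬝ᵥ C = 0 := image_orth h2 y hbc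
    have hval : ∀ i m, (rf B * rf C).1 (ee i) m = (ee i : V) m - 2 * (B i * B m + C i * C m) := fun i m => by
      rw [pair_apply hBB (norm_image h2 y c) hBC, dot_ee, dot_ee]
      simp only [Pi.sub_apply, Pi.smul_apply, smul_eq_mul]
      ring
    obtain ⟨j, hj⟩ := hm 2
    have hj2 : j ≠ 2 → ∀ m, m ≠ j → 2 * (B 2 * B m + C 2 * C m) = (ee (2 : Fin 6) : V) m := fun _ m hmj => by
      have h := hval 2 m
      rcases hj with e | e <;> rw [e] at h <;> simp [ee_ne hmj] at h <;> linear_combination h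
    by_cases hj2' : j = 2
    · exfalso
      subst hj2'
      have h0 : ∀ m, m ≠ 2 → B 2 * B m + C 2 * C m = 0 := fun m hm2 => by
        have h := hval 2 m
        have : (rf B * rf C).1 (ee (2 : Fin 6)) m = 0 := by
          rcases hj with e | e <;> rw [e] <;> simp [ee_ne hm2]
        rw [this, ee_ne hm2] at h
        exact (mul_eq_zero.1 (show (2 : F) * (B 2 * B m + C 2 * C m) = 0 by linear_combination h)).resolve_left h2
      have h3 := h0 3 (by decide)
      rw [hb3, hc3] at h3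
      have hsum : B 2 * (B ⬝ᵥ B) + C 2 * (C ⬝ᵥ B) = ∑ m, (B 2 * B m + C 2 * C m) * B m := by
        rw [dotProduct, dotProduct, Finset.mul_sum, Finset.mul_sum, ← Finset.sum_add_distrib]
        exact Finset.sum_congr rfl fun m _ => by ring
      rw [hBB, dotProduct_comm, hBC, Finset.sum_eq_single 2 (fun m _ hm2 => by rw [h0 m hm2, zero_mul])
        (fun h => absurd (Finset.mem_univ _) h), h3, zero_mul, mul_one, mul_zero, add_zero] at hsum
      exact hb hsum
    have hj3 : j = 3 := by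
      by_contra hne
      have k2 := hj2 hj2' 2 (Ne.symm hj2')
      have k3 := hj2 hj2' 3 (Ne.symm hne)
      rw [hb3, hc3, ee_ne (by decide)] at k3
      rw [k3, ee_self] at k2
      exact zero_ne_one k2
    subst hj3
    have k2 := hj2 hj2' 2 (by decide)
    rw [ee_self] at k2
    intro m
    by_cases hm2 : m = 2
    · subst hm2; simpa using k2
    by_cases hm3 : m = 3
    · subst hm3; simpa [hb3, hc3] using k2
    rw [if_neg hm2, if_neg hm3, add_zero, hj2 hj2' m hm3, ee_ne hm2]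
  -- the column with weight at the second coordinate is diagonal there
  obtain ⟨c, c4, c5, hca, hc⟩ : ∃ c : Fin 6, c ≠ 4 ∧ c ≠ 5 ∧ c ≠ a ∧ y.1 (ee c : V) 2 = 0 := by
    by_contra hh
    push Not at hh
    obtain ⟨b, c, b4, b5, c4, c5, hba, hca, hbc⟩ :
        ∃ b c : Fin 6, b ≠ 4 ∧ b ≠ 5 ∧ c ≠ 4 ∧ c ≠ 5 ∧ b ≠ a ∧ c ≠ a ∧ b ≠ c := by
      clear * - a
      revert a
      decide
    have hb := hh b b4 b5 hba
    have hc := hh c c4 c5 hca
    have k : ∀ m, y.1 (ee b : V) 2 * y.1 (ee b : V) m = y.1 (ee c : V) 2 * y.1 (ee c : V) m := fun m =>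
      mul_left_cancel₀ h2 (by
        linear_combination hpair a b a4 a5 b4 b5 (Ne.symm hba) ha m - hpair a c a4 a5 c4 c5 (Ne.symm hca) ha m)
    have hsum : y.1 (ee b : V) 2 * (y.1 (ee b : V) ⬝ᵥ y.1 (ee b)) =
        y.1 (ee c : V) 2 * (y.1 (ee c : V) ⬝ᵥ y.1 (ee b)) := by
      rw [dotProduct, dotProduct, Finset.mul_sum, Finset.mul_sum]
      exact Finset.sum_congr rfl fun m _ => by linear_combination (y.1 (ee b : V) m) * k m
    rw [norm_image h2 y b, image_orth h2 y (Ne.symm hbc), mul_one, mul_zero] at hsum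
    exact hb hsum
  have hA : ∀ m, 2 * (y.1 (ee a : V) 2 * y.1 (ee a : V) m) =
      (if m = 2 then (1 : F) else 0) + (if m = 3 then 1 else 0) := fun m => by
    have h := hpair a c a4 a5 c4 c5 (Ne.symm hca) ha m
    rw [hc, zero_mul, add_zero] at h
    exact h
  have hA0 : ∀ m, m ≠ 2 → m ≠ 3 → y.1 (ee a : V) m = 0 := fun m hm2 hm3 => by
    have h := hA m
    rw [if_neg hm2, if_neg hm3, add_zero, mul_eq_zero, mul_eq_zero] at h
    exact (h.resolve_left h2).resolve_left ha
  have hB : ∀ b : Fin 6, b ≠ 4 → b ≠ 5 → b ≠ a → ∀ m, (m = 0 ∨ m = 2 ∨ m = 3) → y.1 (ee b : V) m = 0 := by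
    intro b b4 b5 hba m hm
    have h := image_orth h2 y (Ne.symm hba)
    rw [dot_six, hA0 0 (by decide) (by decide), hA0 1 (by decide) (by decide), hA0 4 (by decide) (by decide),
      hA0 5 (by decide) (by decide), (hT b b4 b5).2, (hT a a4 a5).2] at h
    have h2b : y.1 (ee b : V) 2 = 0 := (mul_eq_zero.1
      (show (2 * y.1 (ee a : V) 2) * y.1 (ee b : V) 2 = 0 by linear_combination h)).resolve_left
        (mul_ne_zero h2 ha)
    rcases hm with rfl | rfl | rfl
    · exact (hT b b4 b5).1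
    · exact h2b
    · rw [(hT b b4 b5).2, h2b]
  -- the remaining three
  obtain ⟨b, hbinj, hbne, hbsurj⟩ : ∃ b : Fin 3 → Fin 6, Function.Injective b ∧
      (∀ i, b i ≠ 4 ∧ b i ≠ 5 ∧ b i ≠ a) ∧ ∀ z, z = 4 ∨ z = 5 ∨ z = a ∨ ∃ i, b i = z := by
    clear * - a a4 a5
    fin_cases a
    · exact ⟨![1, 2, 3], by decide, by decide, by decide⟩
    · exact ⟨![0, 2, 3], by decide, by decide, by decide⟩
    · exact ⟨![0, 1, 3], by decide, by decide, by decide⟩
    · exact ⟨![0, 1, 2], by decide, by decide, by decide⟩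
    · exact absurd rfl a4
    · exact absurd rfl a5
  obtain ⟨σ, hσ, hσb⟩ := exists_even_tuple (n := 6) (k := 3) (by norm_num)
    (ι := ![1, 4, 5]) (by decide) hbinj
  obtain ⟨p, hp, hpσ⟩ := O.exists_even (by norm_num) hσ
  set S : Finset (Fin 6) := {1, 4, 5} with hS
  have hSm : ∀ m : Fin 6, m ∈ S → ∃ i, σ m = b i := fun m hm => by
    simp only [hS, Finset.mem_insert, Finset.mem_singleton] at hm
    rcases hm with rfl | rfl | rfl
    · exact ⟨0, hσb 0⟩
    · exact ⟨1, hσb 1⟩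
    · exact ⟨2, hσb 2⟩
  have hcolp : ∀ m : Fin 6, (y * p).1 (ee m : V) = y.1 (ee (σ m)) := fun m => by rw [mul_app, hpσ]
  obtain ⟨m, hm, hE⟩ := odd_block O (g := y * p) (S := S) (by decide)
    (fun m hm k hk => by
      rw [mem_supp, hcolp] at hk
      obtain ⟨i, hi⟩ := hSm m hm
      rw [hi] at hk
      by_contra hkS
      refine hk (hB _ (hbne i).1 (hbne i).2.1 (hbne i).2.2 k ?_)
      simp only [hS, Finset.mem_insert, Finset.mem_singleton] at hkS
      clear * - hkS
      revert k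
      decide)
    (fun k hk i hi => by
      rw [hcolp]
      simp only [hS, Finset.mem_insert, Finset.mem_singleton] at hi
      rcases hbsurj (σ k) with e | e | e | ⟨l, e⟩
      · rw [e]; rcases hi with rfl | rfl | rfl <;> assumption
      · rw [e]; rcases hi with rfl | rfl | rfl <;> assumption
      · rw [e]; rcases hi with rfl | rfl | rfl <;> exact hA0 _ (by decide) (by decide)
      · refine absurd ?_ hk
        have e' : σ k = σ (![1, 4, 5] l) := e.symm.trans (hσb l).symm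
        rw [σ.injective e']
        fin_cases l <;> simp [hS])
    fun m hm k hk hmk => by
      rw [hcolp, hcolp]
      obtain ⟨i, hi⟩ := hSm m hm
      obtain ⟨l, hl⟩ := hSm k hk
      exact pair_zero O hstar hy (fun e => hmk (σ.injective e)) (by rw [hi]; exact (hT _ (hbne i).1 (hbne i).2.1).1)
        (by rw [hl]; exact (hT _ (hbne l).1 (hbne l).2.1).1)
  have hym : Mono y := hstar y hy ⟨σ m, by rwa [hcolp] at hE⟩
  have z4 := not_isE_two h2 u3 (hym 4)
  have z5 := not_isE_two h2 v3 (hym 5)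
  rw [z4.1, z5.1] at hD
  simp at hD

/-- Columns with an image of a column. -/
theorem image_alt (hstar : Star G) {y m : quadIso (Q1 F 6)} (hy : y ∈ G) (hm : m ∈ G) {c : Fin 6}
    (hc : m.1 (y.1 (ee c : V)) = y.1 (ee c)) (g : Fin 6) :
    (m.1 (y.1 (ee g : V)) = y.1 (ee g) ∨ m.1 (y.1 (ee g : V)) = -y.1 (ee g)) ∨
      ∃ h, h ≠ g ∧ (m.1 (y.1 (ee g : V)) = y.1 (ee h) ∨ m.1 (y.1 (ee g : V)) = -y.1 (ee h)) := by
  obtain ⟨h, hh⟩ := col_image hstar hy hm hc g
  by_cases hg : h = g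
  · subst hg; exact Or.inl hh
  · exact Or.inr ⟨h, hg, hh⟩

/-- The product of two signed transpositions. -/
theorem sdp_apply (h2 : (2 : F) ≠ 0) {a b c d : Fin 6} (hab : a ≠ b) (hcd : c ≠ d) {s t : F} (hs : s * s = 1)
    (ht : t * t = 1) (hac : a ≠ c) (had : a ≠ d) (hbc : b ≠ c) (hbd : b ≠ d) (x : V) (k : Fin 6) :
    (rf (sd a b s : V) * rf (sd c d t)).1 x k =
      if k = a then -(s * x b) else if k = b then -(s * x a) else if k = c then -(t * x d) else
        if k = d then -(t * x c) else x k := by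
  rw [mul_app, rf_sd h2 hab hs]
  simp only [rf_sd h2 hcd ht, sd_apply, if_neg hac, if_neg had, if_neg hbc, if_neg hbd]
  by_cases ka : k = a
  · subst ka; simp [hab, hac, had]
  by_cases kb : k = b
  · subst kb; simp [Ne.symm hab, hbc, hbd]; linear_combination -x k * hs
  by_cases kc : k = c
  · subst kc; simp [ka, kb, hcd]
  by_cases kd : k = d
  · subst kd; simp [ka, kb, Ne.symm hcd]; linear_combination -x k * ht
  simp [ka, kb, kc, kd]

theorem m3_apply (h2 : (2 : F) ≠ 0) (t : F) (ht : t * t = 1) (x : V) :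
    (rf (sd 0 1 1 : V) * rf (sd 4 5 t)).1 x = ![-x 1, -x 0, x 2, x 3, -(t * x 5), -(t * x 4)] := by
  funext k
  rw [sdp_apply h2 (by decide) (by decide) (one_mul 1) ht (by decide) (by decide) (by decide) (by decide)]
  fin_cases k <;> simp

theorem m1_apply (x : V) : (rf (ee 4 : V) * rf (ee 5)).1 x = ![x 0, x 1, x 2, x 3, -x 4, -x 5] := by
  funext k
  rw [ee_pair_apply]
  fin_cases k <;> simp

/-- A column of the first kind. -/
theorem col_shape (O : Ov G) (hstar : Star G) {y : quadIso (Q1 F 6)} (hy : y ∈ G) (h4 : P1 (y.1 (ee 4 : V)))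
    (h5 : P1 (y.1 (ee 5 : V))) {g : Fin 6} (g4 : g ≠ 4) (g5 : g ≠ 5) (hg : y.1 (ee g : V) 0 ≠ 0) :
    y.1 (ee g : V) 2 = 0 ∧ y.1 (ee g : V) 3 = 0 ∧ y.1 (ee g : V) 1 = y.1 (ee g : V) 0 ∧
      y.1 (ee g : V) 4 * y.1 (ee g : V) 4 = y.1 (ee g : V) 0 * y.1 (ee g : V) 0 ∧
      y.1 (ee g : V) 5 * y.1 (ee g : V) 5 = y.1 (ee g : V) 0 * y.1 (ee g : V) 0 := by
  classical
  have h2 := O.two
  obtain ⟨u4, u5, u1, u3⟩ := h4
  obtain ⟨v4, v5, v1, v3⟩ := h5
  set u := y.1 (ee 4 : V) with hu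
  set v := y.1 (ee 5 : V) with hv
  have nu : u ⬝ᵥ u = 1 := norm_image h2 y 4
  have nv : v ⬝ᵥ v = 1 := norm_image h2 y 5
  have nuv : u ⬝ᵥ v = 0 := image_orth h2 y (by decide)
  simp only [dot_six, u1, u4, u5, u3, v1, v4, v5, v3] at nu nv nuv
  have hD : 2 * (u 0 * v 2 - u 2 * v 0) * (2 * (u 0 * v 2 - u 2 * v 0)) = 1 := by
    linear_combination (2 * (v 0 * v 0) + 2 * (v 2 * v 2)) * nu + nv -
      (2 * (u 0 * v 0) + 2 * (u 2 * v 2)) * nuv
  have hD0 : u 0 * v 2 - u 2 * v 0 ≠ 0 := fun h => by rw [h, mul_zero, zero_mul] at hD; exact zero_ne_one hD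
  have hT : ∀ c : Fin 6, c ≠ 4 → c ≠ 5 →
      y.1 (ee c : V) 1 = y.1 (ee c : V) 0 ∧ y.1 (ee c : V) 3 = y.1 (ee c : V) 2 := by
    intro c c4 c5
    have e4 := image_orth h2 y (Ne.symm c4)
    have e5 := image_orth h2 y (Ne.symm c5)
    rw [← hu, dot_six, u1, u4, u5, u3] at e4
    rw [← hv, dot_six, v1, v4, v5, v3] at e5
    have k0 : y.1 (ee c : V) 0 - y.1 (ee c : V) 1 = 0 := (mul_eq_zero.1
      (show (u 0 * v 2 - u 2 * v 0) * (y.1 (ee c : V) 0 - y.1 (ee c : V) 1) = 0 by
        linear_combination v 2 * e4 - u 2 * e5)).resolve_left hD0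
    have k2 : y.1 (ee c : V) 2 - y.1 (ee c : V) 3 = 0 := (mul_eq_zero.1
      (show (u 0 * v 2 - u 2 * v 0) * (y.1 (ee c : V) 2 - y.1 (ee c : V) 3) = 0 by
        linear_combination u 0 * e5 - v 0 * e4)).resolve_left hD0
    exact ⟨(sub_eq_zero.1 k0).symm, (sub_eq_zero.1 k2).symm⟩
  have hnotmono : ¬ Mono y := fun h => by
    have a4 := not_isE_two h2 u3 (h 4)
    have a5 := not_isE_two h2 v3 (h 5)
    rw [a4.1, a5.1] at hD
    simp at hD
  obtain ⟨g1, g3⟩ := hT g g4 g5
  set w := y.1 (ee g : V) with hw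
  set p := w 0 with hp
  set r := w 2 with hr
  set s := w 4 with hs
  set t := w 5 with ht
  have nw : 2 * (p * p) + 2 * (r * r) + s * s + t * t = 1 := by
    have h := norm_image h2 y g
    rw [← hw, dot_six, g1, g3] at h
    linear_combination h
  have hm1G : rf (ee 4 : V) * rf (ee 5) ∈ G := O.pair_ee (by norm_num) 4 5
  have hm3G : ∀ e : F, e * e = 1 → rf (sd 0 1 1 : V) * rf (sd 4 5 e) ∈ G := fun e he =>
    sd_pair_mem O (by decide) (by decide) (one_mul 1) he
  have hfix1 : (rf (ee 4 : V) * rf (ee 5)).1 u = u := funext fun k => by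
    rw [m1_apply]; fin_cases k <;> simp [u4, u5]
  have hfix3 : ∀ e : F, e * e = 1 → (rf (sd 0 1 1 : V) * rf (sd 4 5 e)).1 u = u := fun e he => funext fun k => by
    rw [m3_apply h2 e he]; fin_cases k <;> simp [u1, u4, u5]
  -- no column is free of the last two coordinates
  have hst : ¬ (s = 0 ∧ t = 0) := by
    rintro ⟨hs0, ht0⟩
    by_cases hr0 : r = 0
    · have hm := pair_zero O hstar hy (a := g) (b := 4) (k := 4) g4 hs0 (by rw [← hu]; exact u4)
      have hval : ∀ k, (rf (y.1 (ee g : V)) * rf (y.1 (ee 4))).1 (ee 0) k =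
          (ee (0 : Fin 6) : V) k - 2 * p * w k - 2 * u 0 * u k := fun k => by
        rw [pair_apply (norm_image h2 y g) (norm_image h2 y 4) (image_orth h2 y g4), dot_ee, dot_ee]
        simp [hw, hu, hp]
      by_cases hu0 : u 0 = 0
      · have hu2 : u 2 ≠ 0 := fun e => hD0 (by rw [hu0, e]; ring)
        have hv2 : v 2 = 0 := (mul_eq_zero.1 (show (2 * u 2) * v 2 = 0 by
          linear_combination nuv - 2 * v 0 * hu0)).resolve_left (mul_ne_zero h2 hu2)
        refine hnotmono (plane_mono O hstar hy (a := g) (b := 5) (i := 0) (j := 1) g5 (by decide) ?_ ?_) <;>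
          intro k k0 k1 <;> fin_cases k
        all_goals first
          | exact absurd rfl k0 | exact absurd rfl k1
          | (show w _ = 0; simp [hr0, g3, ← hs, ← ht, hs0, ht0, ← hr])
          | (show v _ = 0; simp [hv2, v3, v4, v5])
      by_cases hu2 : u 2 = 0
      · refine hnotmono (plane_mono O hstar hy (a := g) (b := 4) (i := 0) (j := 1) g4 (by decide) ?_ ?_) <;>
          intro k k0 k1 <;> fin_cases k
        all_goals first
          | exact absurd rfl k0 | exact absurd rfl k1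
          | (show w _ = 0; simp [hr0, g3, ← hs, ← ht, hs0, ht0, ← hr])
          | (show u _ = 0; simp [hu2, u3, u4, u5])
      refine absurd (mono_coord hm (k := (0 : Fin 6)) (i := 0) (j := 2) ?_ ?_) (by decide)
      · rw [hval, ee_self, ← hp]
        intro e
        refine mul_ne_zero h2 (mul_ne_zero hu0 hu0) ?_
        linear_combination -e + (-1 : F) * nw + 2 * r * hr0 + s * hs0 + t * ht0
      · rw [hval, ee_ne (by decide), ← hr, hr0]
        simpa using mul_ne_zero (mul_ne_zero h2 hu0) hu2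
    · have e : (-1 : F) * -1 = 1 := by ring
      obtain ⟨h, hh⟩ := col_image hstar hy (hm3G (-1) e) (c := 4) (hfix3 _ e) g
      rw [m3_apply h2 _ e, ← hw] at hh
      set z := y.1 (ee h : V) with hz
      have hc : ∃ σ : F, σ * σ = 1 ∧ z 0 = -(σ * p) ∧ z 1 = -(σ * p) ∧ z 2 = σ * r := by
        rcases hh with hh | hh
        · refine ⟨1, one_mul 1, ?_, ?_, ?_⟩ <;> rw [← hh] <;> simp [g1, ← hp, ← hr]
        · refine ⟨-1, e, ?_, ?_, ?_⟩ <;>
            rw [show z = -![-w 1, -w 0, w 2, w 3, -(-1 * w 5), -(-1 * w 4)] by rw [hh, neg_neg]] <;>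
            simp [g1, ← hp, ← hr]
      obtain ⟨σ, hσ, z0, z1, z2⟩ := hc
      have hσ0 : σ ≠ 0 := fun h0 => by rw [h0, zero_mul] at hσ; exact zero_ne_one hσ
      have hpr : σ * p ≠ 0 := mul_ne_zero hσ0 hg
      have hh4 : h ≠ 4 := fun e => by
        rw [hz, e, ← hu] at z0 z1
        exact hpr ((mul_eq_zero.1 (show (2 : F) * (σ * p) = 0 by
          linear_combination z1 + z0 - u1)).resolve_left h2)
      have hh5 : h ≠ 5 := fun e => by
        rw [hz, e, ← hv] at z0 z1
        exact hpr ((mul_eq_zero.1 (show (2 : F) * (σ * p) = 0 by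
          linear_combination z1 + z0 - v1)).resolve_left h2)
      obtain ⟨z1', z3⟩ := hT h hh4 hh5
      rw [← hz] at z1' z3
      obtain ⟨c, d, hcd, c4, c5, cg, chh, d4, d5, dg, dh⟩ : ∃ c d : Fin 6, c ≠ d ∧ c ≠ 4 ∧ c ≠ 5 ∧ c ≠ g ∧
          c ≠ h ∧ d ≠ 4 ∧ d ≠ 5 ∧ d ≠ g ∧ d ≠ h := by
        clear * - g h
        revert g h
        decide
      have hout : ∀ c : Fin 6, c ≠ 4 → c ≠ 5 → c ≠ g → c ≠ h → ∀ k, k ≠ 4 → k ≠ 5 → y.1 (ee c : V) k = 0 := by
        intro c c4 c5 cg chh k k4 k5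
        have e1 := image_orth h2 y (Ne.symm cg)
        have e2 := image_orth h2 y (Ne.symm chh)
        obtain ⟨c1, c3⟩ := hT c c4 c5
        rw [← hw, dot_six, g1, g3, ← hs, ← ht, hs0, ht0, ← hr, ← hp, c1, c3] at e1
        have z45 : z 4 = 0 ∧ z 5 = 0 := by
          rcases hh with hh | hh
          · rw [← hh]; simp [← hs, ← ht, hs0, ht0]
          · rw [show z = -![-w 1, -w 0, w 2, w 3, -(-1 * w 5), -(-1 * w 4)] by rw [hh, neg_neg]]
            simp [← hs, ← ht, hs0, ht0]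
        rw [← hz, dot_six, z1', z3, z45.1, z45.2, z0, z2, c1, c3] at e2
        have a0 : y.1 (ee c : V) 0 = 0 := (mul_eq_zero.1 (show (2 * (2 * (σ * p))) * y.1 (ee c : V) 0 = 0 by
          linear_combination σ * e1 - e2)).resolve_left (mul_ne_zero h2 (mul_ne_zero h2 hpr))
        have a2 : y.1 (ee c : V) 2 = 0 := (mul_eq_zero.1 (show (2 * (2 * (σ * r))) * y.1 (ee c : V) 2 = 0 by
          linear_combination σ * e1 + e2)).resolve_left (mul_ne_zero h2 (mul_ne_zero h2 (mul_ne_zero hσ0 hr0)))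
        fin_cases k
        · exact a0
        · exact c1.trans a0
        · exact a2
        · exact c3.trans a2
        · exact absurd rfl k4
        · exact absurd rfl k5
      exact hnotmono (plane_mono O hstar hy hcd (show (4 : Fin 6) ≠ 5 by decide) (hout c c4 c5 cg chh)
        (hout d d4 d5 dg dh))
  -- the three monomial involutions fixing the fifth column
  have hdot : ∀ m ∈ G, m.1 u = u → (m.1 w = w ∨ m.1 w = -w) ∨ m.1 w ⬝ᵥ w = 0 := by
    intro m hm hmu
    rcases image_alt hstar hy hm (c := 4) hmu g with h | ⟨h, hhg, hh | hh⟩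
    · exact Or.inl h
    · exact Or.inr (by rw [hh]; exact image_orth h2 y hhg)
    · exact Or.inr (by rw [hh, neg_dotProduct, image_orth h2 y hhg, neg_zero])
  have hp0 : ∀ c : F, c ≠ 0 → c + c ≠ 0 := fun c hc e => mul_ne_zero h2 hc (by linear_combination e)
  have e1 : 2 * (s * s + t * t) = 1 := by
    rcases hdot _ hm1G hfix1 with (h | h) | h
    · rw [m1_apply] at h
      have a := congrFun h 4
      have b := congrFun h 5
      simp [← hs, ← ht] at a b
      exact absurd ⟨by_contra fun h0 => hp0 s h0 (by linear_combination -a),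
        by_contra fun h0 => hp0 t h0 (by linear_combination -b)⟩ hst
    · rw [m1_apply] at h
      have a := congrFun h 0
      simp [← hp] at a
      exact absurd (show p + p = 0 by linear_combination a) (hp0 p hg)
    · rw [m1_apply, dot_six] at h
      simp [g1, g3, ← hp, ← hr, ← hs, ← ht] at h
      linear_combination nw - h
  have e3 : ∀ e : F, e * e = 1 → (r = 0 ∧ t = e * s) ∨ -(p * p) + r * r - e * (s * t) = 0 := fun e he => by
    rcases hdot _ (hm3G e he) (hfix3 e he) with (h | h) | h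
    · rw [m3_apply h2 e he] at h
      have a := congrFun h 0
      simp [g1, ← hp] at a
      exact absurd (show p + p = 0 by linear_combination -a) (hp0 p hg)
    · rw [m3_apply h2 e he] at h
      have a := congrFun h 2
      have b := congrFun h 5
      simp [← hr] at a
      simp [← hs, ← ht] at b
      exact Or.inl ⟨by_contra fun h0 => hp0 r h0 (by linear_combination a), by linear_combination -b⟩
    · rw [m3_apply h2 e he, dot_six] at h
      simp [g1, g3, ← hp, ← hr, ← hs, ← ht] at h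
      exact Or.inr (mul_left_cancel₀ h2 (by linear_combination h))
  suffices h : r = 0 ∧ s * s = p * p ∧ t * t = p * p from ⟨h.1, g3.trans h.1, g1, h.2.1, h.2.2⟩
  rcases e3 1 (one_mul 1) with ⟨hr0, hts⟩ | k1
  · rcases e3 (-1) (by ring) with ⟨-, hts'⟩ | k2
    · exfalso
      have hs0 : s = 0 := by_contra fun h0 => hp0 s h0 (by linear_combination hts' - hts)
      exact hst ⟨hs0, by rw [hts, hs0, mul_zero]⟩
    · have hsp : s * s = p * p := by linear_combination k2 - r * hr0 - s * hts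
      exact ⟨hr0, hsp, by rw [hts]; linear_combination hsp⟩
  rcases e3 (-1) (by ring) with ⟨hr0, hts⟩ | k2
  · have hsp : s * s = p * p := by linear_combination k1 - r * hr0 + s * hts
    exact ⟨hr0, hsp, by rw [hts]; linear_combination hsp⟩
  exfalso
  have hpr : p * p = r * r := mul_left_cancel₀ h2 (by linear_combination -k1 - k2)
  have hr0 : r ≠ 0 := fun e => mul_ne_zero hg hg (by rw [hpr, e, mul_zero])
  obtain ⟨k, hk45, hk⟩ : ∃ k : Fin 6, (k = 4 ∨ k = 5) ∧ w k = 0 := by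
    have : s * t = 0 := mul_left_cancel₀ h2 (by linear_combination k2 - k1)
    rcases mul_eq_zero.1 this with h | h
    · exact ⟨4, Or.inl rfl, h⟩
    · exact ⟨5, Or.inr rfl, h⟩
  obtain ⟨h, hhg, σ, hσ, hz⟩ : ∃ h, h ≠ g ∧ ∃ σ : F, σ * σ = 1 ∧
      ∀ m, y.1 (ee h : V) m = σ * (rf (ee 4 : V) * rf (ee 5)).1 w m := by
    rcases image_alt hstar hy hm1G (c := 4) hfix1 g with (h | h) | ⟨h, hhg, hh | hh⟩
    · exfalso
      rw [← hw, m1_apply] at h
      have a := congrFun h 4
      have b := congrFun h 5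
      simp [← hs, ← ht] at a b
      exact hst ⟨by_contra fun h0 => hp0 s h0 (by linear_combination -a),
        by_contra fun h0 => hp0 t h0 (by linear_combination -b)⟩
    · exfalso
      rw [← hw, m1_apply] at h
      have a := congrFun h 0
      simp [← hp] at a
      exact hp0 p hg (by linear_combination a)
    · exact ⟨h, hhg, 1, one_mul 1, fun m => by rw [one_mul, ← hh]⟩
    · exact ⟨h, hhg, -1, by ring, fun m => by rw [← hw] at hh; rw [hh, Pi.neg_apply]; ring⟩
  have hwk : y.1 (ee h : V) k = 0 := by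
    rw [hz, m1_apply]
    rcases hk45 with rfl | rfl <;> simp [hk]
  have hm := pair_zero O hstar hy (Ne.symm hhg) hk hwk
  have hval : ∀ m, (rf (y.1 (ee g : V)) * rf (y.1 (ee h))).1 (ee 0) m =
      (ee (0 : Fin 6) : V) m - 2 * p * w m - 2 * y.1 (ee h : V) 0 * y.1 (ee h : V) m := fun m => by
    rw [pair_apply (norm_image h2 y g) (norm_image h2 y h) (image_orth h2 y (Ne.symm hhg)), dot_ee, dot_ee]
    simp [hw, hp]
  have h22 : ∀ m : Fin 6, m = 2 ∨ m = 3 → (rf (y.1 (ee g : V)) * rf (y.1 (ee h))).1 (ee 0) m ≠ 0 := by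
    intro m hm23
    rw [hval, hz, hz, m1_apply]
    rcases hm23 with rfl | rfl <;> rw [ee_ne (by decide)] <;> simp [g3, ← hp, ← hr] <;>
      exact fun e => mul_ne_zero (mul_ne_zero (mul_ne_zero h2 h2) hg) hr0
        (by linear_combination -e - 2 * p * r * hσ)
  exact absurd (mono_coord hm (h22 2 (Or.inl rfl)) (h22 3 (Or.inr rfl))) (by decide)

/-- Two columns in the first normal plane. -/
theorem no_P1 (O : Ov G) (hstar : Star G) {y : quadIso (Q1 F 6)} (hy : y ∈ G) (h4 : P1 (y.1 (ee 4 : V)))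
    (h5 : P1 (y.1 (ee 5 : V))) : False := by
  classical
  have h2 := O.two
  have hrow : ∀ i : Fin 6, i = 0 ∨ i = 2 → ∃ g : Fin 6, g ≠ 4 ∧ g ≠ 5 ∧ y.1 (ee g : V) i ≠ 0 := by
    intro i hi
    by_contra hh
    push Not at hh
    have key : ∀ j, (y.1 (ee 4 : V) j = -y.1 (ee 4 : V) i ∧ y.1 (ee 5 : V) j = -y.1 (ee 5 : V) i) →
        i ≠ j → False := fun j hj hij => by
      have r1 := row_norm h2 y i
      have r2 := row_orth h2 y hij
      rw [Fin.sum_univ_six] at r1 r2
      simp only [hh 0 (by decide) (by decide), hh 1 (by decide) (by decide), hh 2 (by decide) (by decide),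
        hh 3 (by decide) (by decide), hj.1, hj.2] at r1 r2
      exact one_ne_zero (show (1 : F) = 0 by linear_combination -r1 - r2)
    rcases hi with rfl | rfl
    · exact key 1 ⟨h4.2.2.1, h5.2.2.1⟩ (by decide)
    · exact key 3 ⟨h4.2.2.2, h5.2.2.2⟩ (by decide)
  obtain ⟨g, g4, g5, hg⟩ := hrow 0 (Or.inl rfl)
  obtain ⟨i, i4, i5, hi⟩ := hrow 2 (Or.inr rfl)
  obtain ⟨gr2, gr3, g1, gs, gt⟩ := col_shape O hstar hy h4 h5 g4 g5 hg
  -- the same with the first two pairs exchanged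
  obtain ⟨q, hq, hqσ⟩ := O.exists_even (by norm_num)
    (σ := Equiv.swap (0 : Fin 6) 2 * Equiv.swap 1 3) (by decide)
  have hqv : ∀ (x : V), q.1 x 2 = x 0 ∧ q.1 x 3 = x 1 ∧ q.1 x 0 = x 2 ∧ q.1 x 1 = x 3 ∧ q.1 x 4 = x 4 ∧
      q.1 x 5 = x 5 := fun x =>
    ⟨perm_apply hqσ x 0, perm_apply hqσ x 1, perm_apply hqσ x 2, perm_apply hqσ x 3, perm_apply hqσ x 4,
      perm_apply hqσ x 5⟩
  have hq1 : ∀ x : V, P1 x → P1 (q.1 x) := fun x ⟨a4, a5, a1, a3⟩ => by
    obtain ⟨e2, e3, e0, e1, e4, e5⟩ := hqv x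
    exact ⟨e4 ▸ a4, e5 ▸ a5, by rw [e1, e0]; exact a3, by rw [e3, e2]; exact a1⟩
  have his := col_shape O hstar (mul_mem hq hy) (g := i) (by rw [mul_app]; exact hq1 _ h4)
    (by rw [mul_app]; exact hq1 _ h5) i4 i5 (by rw [mul_app, (hqv _).2.2.1]; exact hi)
  simp only [mul_app] at his
  obtain ⟨e2, e3, e0, e1, e4, e5⟩ := hqv (y.1 (ee i : V))
  rw [e2, e3, e0, e1, e4, e5] at his
  obtain ⟨i0, i1, i3, is_, it_⟩ := his
  -- a reflection pair fixing the first column and moving the other off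
  set w := y.1 (ee g : V) with hw
  set x := y.1 (ee i : V) with hx
  have hp0 : w 0 * w 0 ≠ 0 := mul_ne_zero hg hg
  have hs0 : w 4 ≠ 0 := fun e => hp0 (by rw [← gs, e, mul_zero])
  have ht0 : w 5 ≠ 0 := fun e => hp0 (by rw [← gt, e, mul_zero])
  set α := w 0 / w 4 with hα
  set β := w 0 / w 5 with hβ
  have hαα : α * α = 1 := by rw [hα, div_mul_div_comm, gs, div_self hp0]
  have hββ : β * β = 1 := by rw [hβ, div_mul_div_comm, gt, div_self hp0]
  have hαs : α * w 4 = w 0 := div_mul_cancel₀ _ hs0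
  have hβt : β * w 5 = w 0 := div_mul_cancel₀ _ ht0
  have hαα' : (-α) * -α = 1 := by linear_combination hαα
  have hββ' : (-β) * -β = 1 := by linear_combination hββ
  set m := rf (sd 0 4 (-α) : V) * rf (sd 1 5 (-β)) with hm
  have hmG : m ∈ G := sd_pair_mem O (by decide) (by decide) hαα' hββ'
  have hmv : ∀ z : V, m.1 z = ![α * z 4, β * z 5, z 2, z 3, α * z 0, β * z 1] := fun z => funext fun k => by
    rw [hm, sdp_apply h2 (by decide) (by decide) hαα' hββ' (by decide) (by decide) (by decide) (by decide)]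
    fin_cases k <;> simp
  have hfix : m.1 (y.1 (ee g : V)) = y.1 (ee g) := funext fun k => by
    rw [← hw, hmv]
    fin_cases k
    · exact hαs
    · show β * w 5 = w 1
      rw [hβt, g1]
    · rfl
    · rfl
    · show α * w 0 = w 4
      linear_combination (-α) * hαs + w 4 * hαα
    · show β * w 1 = w 5
      rw [g1]
      linear_combination (-β) * hβt + w 5 * hββ
  obtain ⟨h, hh⟩ := col_image hstar hy hmG hfix i
  rw [← hx, hmv] at hh
  set z := y.1 (ee h : V) with hz
  obtain ⟨σ, hσ, z0, z2, z3⟩ : ∃ σ : F, σ ≠ 0 ∧ z 0 = σ * (α * x 4) ∧ z 2 = σ * x 2 ∧ z 3 = σ * x 2 := by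
    rcases hh with hh | hh
    · exact ⟨1, one_ne_zero, by rw [← hh]; simp, by rw [← hh]; simp, by rw [← hh]; simp [i3]⟩
    · have hh' : z = -![α * x 4, β * x 5, x 2, x 3, α * x 0, β * x 1] := by rw [hh, neg_neg]
      exact ⟨-1, neg_ne_zero.2 one_ne_zero, by rw [hh']; simp, by rw [hh']; simp, by rw [hh']; simp [i3]⟩
  have hz2 : z 2 ≠ 0 := by rw [z2]; exact mul_ne_zero hσ hi
  have hz0 : z 0 ≠ 0 := by
    rw [z0]
    refine mul_ne_zero hσ (mul_ne_zero (fun e => by rw [e, zero_mul] at hαα; exact zero_ne_one hαα) fun e => ?_)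
    exact mul_ne_zero hi hi (by rw [← is_, e, mul_zero])
  have hno : ∀ c : V, c 3 = -c 2 → z ≠ c := fun c hc e =>
    mul_ne_zero h2 hz2 (by rw [← e, z3, ← z2] at hc; linear_combination hc)
  have hh4 : h ≠ 4 := fun e => hno _ h4.2.2.2 (by rw [hz, e])
  have hh5 : h ≠ 5 := fun e => hno _ h5.2.2.2 (by rw [hz, e])
  exact hz2 (col_shape O hstar hy h4 h5 hh4 hh5 hz0).1

/-- A plane of two columns with monomial involution. -/
theorem mono_of_pair (O : Ov G) (hstar : Star G) {y : quadIso (Q1 F 6)} (hy : y ∈ G) {a b : Fin 6}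
    (hab : a ≠ b) (hm : Mono (rf (y.1 (ee a : V)) * rf (y.1 (ee b)))) : Mono y := by
  classical
  have h2 := O.two
  obtain ⟨σ, hσ, hσ4, hσ5⟩ := exists_even_map (n := 6) (by norm_num) (show (4 : Fin 6) ≠ 5 by decide) hab
  obtain ⟨p, hp, hpσ⟩ := O.exists_even (by norm_num) hσ
  rcases classify h2 (norm_image h2 y a) (norm_image h2 y b) (image_orth h2 y hab) hm with
    ⟨i, j, hij, hz⟩ | ⟨i, j, k, s, hs, hij, hik, hjk, hz⟩ | ⟨i, j, k, l, s, t, hs, ht, hinj, hz⟩
  · exact plane_mono O hstar hy hab hij (hz _ (Or.inl rfl)) (hz _ (Or.inr rfl))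
  · exfalso
    obtain ⟨l, hli, hlj, hlk⟩ : ∃ l : Fin 6, l ≠ i ∧ l ≠ j ∧ l ≠ k := by
      clear * - i j k
      revert i j k
      decide
    obtain ⟨h, hh, -, hval, hout⟩ := exists_canon O (i := k) (j := l) (k := i) (l := j)
      (by intro p q e; fin_cases p <;> fin_cases q <;> simp_all [Ne.symm])
      (s := (1 : F)) (Or.inl rfl) hs
    have key : ∀ w, w = y.1 (ee a : V) ∨ w = y.1 (ee b : V) → P2 (h.1 w) := fun w hw => by
      obtain ⟨w0, w1, w2, w3⟩ := hval w
      obtain ⟨hzero, hrel⟩ := hz w hw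
      obtain ⟨w4, w5⟩ := (hout w).2 fun m hk _ hi hj => hzero m hi hj hk
      refine ⟨by rw [w1, hzero l hli hlj hlk, mul_zero], w4, w5, ?_⟩
      rw [w3, w2, hrel]
      rcases hs with rfl | rfl <;> ring
    refine no_P2 O hstar (mul_mem (mul_mem hh hy) hp) ?_ ?_
    · rw [mul_app, mul_app, hpσ, hσ4]; exact key _ (Or.inl rfl)
    · rw [mul_app, mul_app, hpσ, hσ5]; exact key _ (Or.inr rfl)
  · exfalso
    obtain ⟨h, hh, -, hval, hout⟩ := exists_canon O hinj hs ht
    have key : ∀ w, w = y.1 (ee a : V) ∨ w = y.1 (ee b : V) → P1 (h.1 w) := fun w hw => by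
      obtain ⟨w0, w1, w2, w3⟩ := hval w
      obtain ⟨hzero, hrel, hrel'⟩ := hz w hw
      obtain ⟨w4, w5⟩ := (hout w).2 hzero
      refine ⟨w4, w5, ?_, ?_⟩
      · rw [w1, w0, hrel]
        rcases hs with rfl | rfl <;> ring
      · rw [w3, w2, hrel']
        rcases ht with rfl | rfl <;> ring
    refine no_P1 O hstar (mul_mem (mul_mem hh hy) hp) ?_ ?_
    · rw [mul_app, mul_app, hpσ, hσ4]; exact key _ (Or.inl rfl)
    · rw [mul_app, mul_app, hpσ, hσ5]; exact key _ (Or.inr rfl)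

/-- Two columns vanishing at a common coordinate. -/
theorem mono_of_zero (O : Ov G) (hstar : Star G) {y : quadIso (Q1 F 6)} (hy : y ∈ G) {a b k : Fin 6}
    (hab : a ≠ b) (ha : y.1 (ee a : V) k = 0) (hb : y.1 (ee b : V) k = 0) : Mono y :=
  mono_of_pair O hstar hy hab (pair_zero O hstar hy hab ha hb)

end CfsgLib.MaxSub.Frame.Six
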